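import Cfsg.Prelude.Def_Spor_Conway
import Cfsg.Prelude.Def_KGroupFacts
import Cfsg.Agent.Lib.Sporadic.ConwayKeys
import Cfsg.Agent.Lib.Sporadic.ConwaySmallSimple
import Cfsg.Agent.Lib.LocalEvenB.McLCover.Data
import Cfsg.Agent.Lib.LocalEvenB.McLCover.Points
import Cfsg.Agent.Lib.Schur.Multiplier

/-!
# The action of the stabiliser on the 275 points
-/

set_option autoImplicit false
set_option maxRecDepth 100000

namespace CfsgLib.LocalEvenB.McLCover

open Cfsg CfsgLib.ThreeTrans.Leech CfsgLib.Sporadic CfsgLib.Sporadic.Lattice CfsgLib.Sporadic.Conway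
open CfsgLib.Schur.Cert (pgetN RepN)

attribute [local irreducible] OTree.entries mclPointsTree

/-- The group. -/
noncomputable abbrev G : Subgroup ↥Co0 := fixGroup [fiveElt, pairElt]

theorem keys_eq : mclPointsTree.entries.map Prod.fst = keys := by decide +kernel

theorem keys_len : keys.length = 275 := by decide +kernel

theorem exists_numbered_mcl :
    Nonempty (Numbered [fiveElt, pairElt] [(fiveElt, (24 : ℤ)), (pairElt, 16)] keys 275) := by
  have h := exists_numbered (f := [fiveElt, pairElt]) (ks := [(fiveElt, (24 : ℤ)), (pairElt, 16)]) (by simp)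
    mcl_set.2.2 keys_eq (mcl_set.1.trans keys_len.symm)
  rwa [keys_len] at h

noncomputable def num : Numbered [fiveElt, pairElt] [(fiveElt, (24 : ℤ)), (pairElt, 16)] keys 275 :=
  exists_numbered_mcl.some

/-- The action on the 275 numbers. -/
noncomputable def act : ↥G →* Equiv.Perm (Fin 275) := num.toPermN

theorem gens_check :
    Numbered.wordOK [kFive, kPair] keys 275 (mclPointsGens.getD 5 []) ((chainPerm chain).getD 0 0) = true ∧
    Numbered.wordOK [kFive, kPair] keys 275 (mclPointsGens.getD 2 []) ((chainPerm chain).getD 1 0) = true ∧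
    Nat.beq (pgetN ((chainPerm chain).getD 0 0) 0) 0 = false := by
  decide +kernel

theorem exists_gen (j : ℕ) (hj : j < 2) : ∃ g : ↥G, RepN (act g) ((chainPerm chain).getD j 0) := by
  match j, hj with
  | 0, _ => exact num.exists_repN rfl gens_check.1
  | 1, _ => exact num.exists_repN rfl gens_check.2.1

/-- The elements fixing every point. -/
def pointKernel : Subgroup ↥Co0 where
  carrier := {a | a ∈ G ∧ ∀ x ∈ DS [(fiveElt, (24 : ℤ)), (pairElt, 16)], a • x = x}
  one_mem' := ⟨one_mem _, fun x _ => one_smul _ x⟩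
  mul_mem' := fun {a b} ha hb => ⟨mul_mem ha.1 hb.1, fun x hx => by rw [mul_smul, hb.2 x hx, ha.2 x hx]⟩
  inv_mem' := fun {a} ha => ⟨inv_mem ha.1, fun x hx => by rw [inv_smul_eq_iff]; exact (ha.2 x hx).symm⟩

theorem pointKernel_normIn : NormIn pointKernel [fiveElt, pairElt] :=
  ⟨fun _ h => h.1, fun g hg n hn => ⟨mul_mem (mul_mem hg hn.1) (inv_mem hg), fun x hx => by
    rw [mul_smul, mul_smul, hn.2 _ (smul_mem_DS (fun p hp => mem_fixGroup.1 (inv_mem hg) p.1 (by
      simp at hp ⊢; rcases hp with rfl | rfl <;> simp)) hx), smul_inv_smul]⟩⟩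

theorem act_injective : Function.Injective act := num.injective_of fun g hg h => by
  have hm : g ∈ pointKernel := ⟨hg, h⟩
  rcases mcl_normIn pointKernel_normIn with e | e
  · rwa [e, Subgroup.mem_bot] at hm
  · exfalso
    obtain ⟨a, ha⟩ := exists_gen 0 (by norm_num)
    have hk : (a : ↥Co0) ∈ pointKernel := by rw [e]; exact a.2
    have hfix : num.toPermN a ⟨0, by norm_num⟩ = ⟨0, by norm_num⟩ :=
      num.inj (by rw [num.toPermN_spec]; exact hk.2 _ (num.mem _))
    have h1 : pgetN ((chainPerm chain).getD 0 0) 0 = 0 := by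
      have h2 := ha ⟨0, by norm_num⟩
      rw [show act = num.toPermN from rfl, hfix] at h2
      exact h2
    exact absurd gens_check.2.2 (by rw [h1, Nat.beq_refl]; simp)

theorem finite_G : Finite ↥G := Nat.finite_of_card_ne_zero (by rw [card_fix_mcl]; norm_num)

theorem fix_iff (g : ↥Co0) :
    g ∈ G ↔ g • Spor.leechV = Spor.leechV ∧ g • Spor.leechU = Spor.leechU := by
  have hV : Spor.leechV = -fiveElt := by
    refine Subtype.ext ?_
    rw [NegMemClass.coe_neg]
    show Spor.vecV = -pv kFive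
    decide +kernel
  have hU : Spor.leechU = pairElt := by
    refine Subtype.ext ?_
    show Spor.vecU = pv kPair
    decide +kernel
  have hn : ∀ x : ↥leechLattice, g • (-x) = -(g • x) := smul_neg' g
  rw [mem_fixGroup, hV, hU, hn, neg_inj]
  simp only [List.forall_mem_cons]
  exact ⟨fun ⟨h1, h2, _⟩ => ⟨h1, h2⟩, fun ⟨h1, h2⟩ => ⟨h1, h2, by simp⟩⟩

/-- The group as defined is the common stabiliser. -/
noncomputable def sporEquiv : ↥G ≃* ↥Spor.McL where
  toFun g := ⟨g.1.1, ⟨g.1.2, ((fix_iff g.1).1 g.2).1⟩, ((fix_iff g.1).1 g.2).2⟩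
  invFun g := ⟨⟨g.1, g.2.1.1⟩, (fix_iff _).2 ⟨g.2.1.2, g.2.2⟩⟩
  left_inv _ := rfl
  right_inv _ := rfl
  map_mul' _ _ := rfl

end CfsgLib.LocalEvenB.McLCover
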