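import Mathlib
import Cfsg.Agent.Lib.LocalEvenB.McLCover.Data

/-!
# Checks of table 0, part 1
-/

set_option autoImplicit false
set_option maxRecDepth 100000
set_option maxHeartbeats 0
set_option Elab.async false

namespace CfsgLib.LocalEvenB.McLCover

open CfsgLib.Schur.Cert CfsgLib.Sporadic

theorem deds0_6 : ((List.range' 36 6).all fun j => level0.table.dedOK (chainMachine [level1, level2, level3, level4]) j) = true := by decide +kernel

theorem deds0_7 : ((List.range' 42 6).all fun j => level0.table.dedOK (chainMachine [level1, level2, level3, level4]) j) = true := by decide +kernel

theorem deds0_8 : ((List.range' 48 6).all fun j => level0.table.dedOK (chainMachine [level1, level2, level3, level4]) j) = true := by decide +kernel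

theorem deds0_9 : ((List.range' 54 6).all fun j => level0.table.dedOK (chainMachine [level1, level2, level3, level4]) j) = true := by decide +kernel

theorem deds0_10 : ((List.range' 60 6).all fun j => level0.table.dedOK (chainMachine [level1, level2, level3, level4]) j) = true := by decide +kernel

theorem deds0_11 : ((List.range' 66 6).all fun j => level0.table.dedOK (chainMachine [level1, level2, level3, level4]) j) = true := by decide +kernel

end CfsgLib.LocalEvenB.McLCover
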