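import Mathlib
import Cfsg.Agent.Lib.LocalEvenB.McLCover.Data

/-!
# Checks of table 0, part 11
-/

set_option autoImplicit false
set_option maxRecDepth 100000
set_option maxHeartbeats 0
set_option Elab.async false

namespace CfsgLib.LocalEvenB.McLCover

open CfsgLib.Schur.Cert CfsgLib.Sporadic

theorem eqns0_20 : ((List.range' 20 1).all fun j => eqnOK level0 [level1, level2, level3, level4] j) = true := by decide +kernel

theorem eqns0_21 : ((List.range' 21 1).all fun j => eqnOK level0 [level1, level2, level3, level4] j) = true := by decide +kernel

theorem eqns0_22 : ((List.range' 22 1).all fun j => eqnOK level0 [level1, level2, level3, level4] j) = true := by decide +kernel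

theorem eqns0_23 : ((List.range' 23 1).all fun j => eqnOK level0 [level1, level2, level3, level4] j) = true := by decide +kernel

theorem eqns0_24 : ((List.range' 24 1).all fun j => eqnOK level0 [level1, level2, level3, level4] j) = true := by decide +kernel

theorem eqns0_25 : ((List.range' 25 1).all fun j => eqnOK level0 [level1, level2, level3, level4] j) = true := by decide +kernel

end CfsgLib.LocalEvenB.McLCover
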