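import Mathlib
import Cfsg.Agent.Lib.LocalEvenB.McLCover.Data

/-!
# Checks of table 0, part 4
-/

set_option autoImplicit false
set_option maxRecDepth 100000
set_option maxHeartbeats 0
set_option Elab.async false

namespace CfsgLib.LocalEvenB.McLCover

open CfsgLib.Schur.Cert CfsgLib.Sporadic

theorem deds0_24 : ((List.range' 144 6).all fun j => level0.table.dedOK (chainMachine [level1, level2, level3, level4]) j) = true := by decide +kernel

theorem deds0_25 : ((List.range' 150 6).all fun j => level0.table.dedOK (chainMachine [level1, level2, level3, level4]) j) = true := by decide +kernel

theorem deds0_26 : ((List.range' 156 6).all fun j => level0.table.dedOK (chainMachine [level1, level2, level3, level4]) j) = true := by decide +kernel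

theorem deds0_27 : ((List.range' 162 6).all fun j => level0.table.dedOK (chainMachine [level1, level2, level3, level4]) j) = true := by decide +kernel

theorem deds0_28 : ((List.range' 168 6).all fun j => level0.table.dedOK (chainMachine [level1, level2, level3, level4]) j) = true := by decide +kernel

theorem deds0_29 : ((List.range' 174 6).all fun j => level0.table.dedOK (chainMachine [level1, level2, level3, level4]) j) = true := by decide +kernel

end CfsgLib.LocalEvenB.McLCover
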