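import Mathlib
import Cfsg.Agent.Lib.LocalEvenB.McLCover.Data

/-!
# Checks of table 0, part 7
-/

set_option autoImplicit false
set_option maxRecDepth 100000
set_option maxHeartbeats 0
set_option Elab.async false

namespace CfsgLib.LocalEvenB.McLCover

open CfsgLib.Schur.Cert CfsgLib.Sporadic

theorem deds0_42 : ((List.range' 252 6).all fun j => level0.table.dedOK (chainMachine [level1, level2, level3, level4]) j) = true := by decide +kernel

theorem deds0_43 : ((List.range' 258 6).all fun j => level0.table.dedOK (chainMachine [level1, level2, level3, level4]) j) = true := by decide +kernel

theorem deds0_44 : ((List.range' 264 6).all fun j => level0.table.dedOK (chainMachine [level1, level2, level3, level4]) j) = true := by decide +kernel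

theorem deds0_45 : ((List.range' 270 6).all fun j => level0.table.dedOK (chainMachine [level1, level2, level3, level4]) j) = true := by decide +kernel

theorem eqns0_0 : ((List.range' 0 1).all fun j => eqnOK level0 [level1, level2, level3, level4] j) = true := by decide +kernel

theorem eqns0_1 : ((List.range' 1 1).all fun j => eqnOK level0 [level1, level2, level3, level4] j) = true := by decide +kernel

end CfsgLib.LocalEvenB.McLCover
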