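import Mathlib
import Cfsg.Agent.Lib.LocalEvenB.McLCover.Check0Part0
import Cfsg.Agent.Lib.LocalEvenB.McLCover.Check0Part1
import Cfsg.Agent.Lib.LocalEvenB.McLCover.Check0Part2
import Cfsg.Agent.Lib.LocalEvenB.McLCover.Check0Part3
import Cfsg.Agent.Lib.LocalEvenB.McLCover.Check0Part4
import Cfsg.Agent.Lib.LocalEvenB.McLCover.Check0Part5
import Cfsg.Agent.Lib.LocalEvenB.McLCover.Check0Part6
import Cfsg.Agent.Lib.LocalEvenB.McLCover.Check0Part7
import Cfsg.Agent.Lib.LocalEvenB.McLCover.Check0Part8
import Cfsg.Agent.Lib.LocalEvenB.McLCover.Check0Part9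
import Cfsg.Agent.Lib.LocalEvenB.McLCover.Check0Part10
import Cfsg.Agent.Lib.LocalEvenB.McLCover.Check0Part11
import Cfsg.Agent.Lib.LocalEvenB.McLCover.Check0Part12
import Cfsg.Agent.Lib.LocalEvenB.McLCover.Check0Part13

/-!
# Checks of table 0
-/

set_option autoImplicit false
set_option maxRecDepth 100000
set_option maxHeartbeats 0
set_option Elab.async false

namespace CfsgLib.LocalEvenB.McLCover

open CfsgLib.Schur.Cert CfsgLib.Sporadic

theorem shape0 : shapeOK (chainRels chain top) rows level0 [level1, level2, level3, level4] (top) = true := by decide +kernel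

theorem deds0 : dedsOK level0 [level1, level2, level3, level4] = true := by
  rw [dedsOK, show List.range level0.table.nded = List.range' 0 6 ++ List.range' 6 6 ++ List.range' 12 6 ++ List.range' 18 6 ++ List.range' 24 6 ++ List.range' 30 6 ++ List.range' 36 6 ++ List.range' 42 6 ++ List.range' 48 6 ++ List.range' 54 6 ++ List.range' 60 6 ++ List.range' 66 6 ++ List.range' 72 6 ++ List.range' 78 6 ++ List.range' 84 6 ++ List.range' 90 6 ++ List.range' 96 6 ++ List.range' 102 6 ++ List.range' 108 6 ++ List.range' 114 6 ++ List.range' 120 6 ++ List.range' 126 6 ++ List.range' 132 6 ++ List.range' 138 6 ++ List.range' 144 6 ++ List.range' 150 6 ++ List.range' 156 6 ++ List.range' 162 6 ++ List.range' 168 6 ++ List.range' 174 6 ++ List.range' 180 6 ++ List.range' 186 6 ++ List.range' 192 6 ++ List.range' 198 6 ++ List.range' 204 6 ++ List.range' 210 6 ++ List.range' 216 6 ++ List.range' 222 6 ++ List.range' 228 6 ++ List.range' 234 6 ++ List.range' 240 6 ++ List.range' 246 6 ++ List.range' 252 6 ++ List.range'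 258 6 ++ List.range' 264 6 ++ List.range' 270 6 from by decide +kernel]
  simp only [List.all_append, Bool.and_self, deds0_0, deds0_1, deds0_2, deds0_3, deds0_4, deds0_5, deds0_6, deds0_7, deds0_8, deds0_9, deds0_10, deds0_11, deds0_12, deds0_13, deds0_14, deds0_15, deds0_16, deds0_17, deds0_18, deds0_19, deds0_20, deds0_21, deds0_22, deds0_23, deds0_24, deds0_25, deds0_26, deds0_27, deds0_28, deds0_29, deds0_30, deds0_31, deds0_32, deds0_33, deds0_34, deds0_35, deds0_36, deds0_37, deds0_38, deds0_39, deds0_40, deds0_41, deds0_42, deds0_43, deds0_44, deds0_45]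

theorem eqns0 : eqnsOK level0 [level1, level2, level3, level4] = true := by
  rw [eqnsOK, show List.range level0.eqs.length = List.range' 0 1 ++ List.range' 1 1 ++ List.range' 2 1 ++ List.range' 3 1 ++ List.range' 4 1 ++ List.range' 5 1 ++ List.range' 6 1 ++ List.range' 7 1 ++ List.range' 8 1 ++ List.range' 9 1 ++ List.range' 10 1 ++ List.range' 11 1 ++ List.range' 12 1 ++ List.range' 13 1 ++ List.range' 14 1 ++ List.range' 15 1 ++ List.range' 16 1 ++ List.range' 17 1 ++ List.range' 18 1 ++ List.range' 19 1 ++ List.range' 20 1 ++ List.range' 21 1 ++ List.range' 22 1 ++ List.range' 23 1 ++ List.range' 24 1 ++ List.range' 25 1 ++ List.range' 26 1 ++ List.range' 27 1 ++ List.range' 28 1 ++ List.range' 29 1 ++ List.range' 30 1 ++ List.range' 31 1 ++ List.range' 32 1 ++ List.range' 33 1 ++ List.range' 34 1 from by decide +kernel]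
  simp only [List.all_append, Bool.and_self, eqns0_0, eqns0_1, eqns0_2, eqns0_3, eqns0_4, eqns0_5, eqns0_6, eqns0_7, eqns0_8, eqns0_9, eqns0_10, eqns0_11, eqns0_12, eqns0_13, eqns0_14, eqns0_15, eqns0_16, eqns0_17, eqns0_18, eqns0_19, eqns0_20, eqns0_21, eqns0_22, eqns0_23, eqns0_24, eqns0_25, eqns0_26, eqns0_27, eqns0_28, eqns0_29, eqns0_30, eqns0_31, eqns0_32, eqns0_33, eqns0_34]



end CfsgLib.LocalEvenB.McLCover
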