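import Mathlib
import Cfsg.Agent.Lib.LocalEvenB.McLCover.Data

/-!
# Checks of table 1
-/

set_option autoImplicit false
set_option maxRecDepth 100000
set_option maxHeartbeats 0
set_option Elab.async false

namespace CfsgLib.LocalEvenB.McLCover

open CfsgLib.Schur.Cert CfsgLib.Sporadic

theorem shape1 : shapeOK (chainRels chain top) rows level1 [level2, level3, level4] (nextWords (top) level0) = true := by decide +kernel

theorem deds1_0 : ((List.range' 0 20).all fun j => level1.table.dedOK (chainMachine [level2, level3, level4]) j) = true := by decide +kernel

theorem deds1_1 : ((List.range' 20 20).all fun j => level1.table.dedOK (chainMachine [level2, level3, level4]) j) = true := by decide +kernel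

theorem deds1_2 : ((List.range' 40 20).all fun j => level1.table.dedOK (chainMachine [level2, level3, level4]) j) = true := by decide +kernel

theorem deds1_3 : ((List.range' 60 20).all fun j => level1.table.dedOK (chainMachine [level2, level3, level4]) j) = true := by decide +kernel

theorem deds1_4 : ((List.range' 80 20).all fun j => level1.table.dedOK (chainMachine [level2, level3, level4]) j) = true := by decide +kernel

theorem deds1_5 : ((List.range' 100 13).all fun j => level1.table.dedOK (chainMachine [level2, level3, level4]) j) = true := by decide +kernel

theorem deds1 : dedsOK level1 [level2, level3, level4] = true := by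
  rw [dedsOK, show List.range level1.table.nded = List.range' 0 20 ++ List.range' 20 20 ++ List.range' 40 20 ++ List.range' 60 20 ++ List.range' 80 20 ++ List.range' 100 13 from by decide +kernel]
  simp only [List.all_append, Bool.and_self, deds1_0, deds1_1, deds1_2, deds1_3, deds1_4, deds1_5]

theorem eqns1_0 : ((List.range' 0 12).all fun j => eqnOK level1 [level2, level3, level4] j) = true := by decide +kernel

theorem eqns1_1 : ((List.range' 12 12).all fun j => eqnOK level1 [level2, level3, level4] j) = true := by decide +kernel

theorem eqns1 : eqnsOK level1 [level2, level3, level4] = true := by
  rw [eqnsOK, show List.range level1.eqs.length = List.range' 0 12 ++ List.range' 12 12 from by decide +kernel]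
  simp only [List.all_append, Bool.and_self, eqns1_0, eqns1_1]



end CfsgLib.LocalEvenB.McLCover
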