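import Mathlib
import Cfsg.Agent.Lib.LocalEvenB.McLCover.Data

/-!
# Checks of table 3
-/

set_option autoImplicit false
set_option maxRecDepth 100000
set_option maxHeartbeats 0
set_option Elab.async false

namespace CfsgLib.LocalEvenB.McLCover

open CfsgLib.Schur.Cert CfsgLib.Sporadic

theorem shape3 : shapeOK (chainRels chain top) rows level3 [level4] (nextWords (nextWords (nextWords (top) level0) level1) level2) = true := by decide +kernel

theorem deds3_0 : ((List.range' 0 55).all fun j => level3.table.dedOK (chainMachine [level4]) j) = true := by decide +kernel

theorem deds3 : dedsOK level3 [level4] = true := by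
  rw [dedsOK, show List.range level3.table.nded = List.range' 0 55 from by decide +kernel]
  simp only [List.all_append, Bool.and_self, deds3_0]

theorem eqns3_0 : ((List.range' 0 8).all fun j => eqnOK level3 [level4] j) = true := by decide +kernel

theorem eqns3 : eqnsOK level3 [level4] = true := by
  rw [eqnsOK, show List.range level3.eqs.length = List.range' 0 8 from by decide +kernel]
  simp only [List.all_append, Bool.and_self, eqns3_0]



end CfsgLib.LocalEvenB.McLCover
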