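import Mathlib
import Cfsg.Agent.Lib.LocalEvenB.McLCover.Data

/-!
# Linear algebra of the chain, part 1
-/

set_option autoImplicit false
set_option maxRecDepth 100000
set_option maxHeartbeats 0
set_option Elab.async false

namespace CfsgLib.LocalEvenB.McLCover

open CfsgLib.Schur.Cert CfsgLib.Sporadic

theorem linId_40 : ((List.range' 40 5).all fun i =>
    veq (vunit i) (comb lin.basis (lin.dual.map fun p => cf p i))) = true := by decide +kernel

theorem linId_45 : ((List.range' 45 5).all fun i =>
    veq (vunit i) (comb lin.basis (lin.dual.map fun p => cf p i))) = true := by decide +kernel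

theorem linId_50 : ((List.range' 50 5).all fun i =>
    veq (vunit i) (comb lin.basis (lin.dual.map fun p => cf p i))) = true := by decide +kernel

theorem linId_55 : ((List.range' 55 5).all fun i =>
    veq (vunit i) (comb lin.basis (lin.dual.map fun p => cf p i))) = true := by decide +kernel

theorem linId_60 : ((List.range' 60 5).all fun i =>
    veq (vunit i) (comb lin.basis (lin.dual.map fun p => cf p i))) = true := by decide +kernel

theorem linId_65 : ((List.range' 65 5).all fun i =>
    veq (vunit i) (comb lin.basis (lin.dual.map fun p => cf p i))) = true := by decide +kernel

theorem linId_70 : ((List.range' 70 5).all fun i =>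
    veq (vunit i) (comb lin.basis (lin.dual.map fun p => cf p i))) = true := by decide +kernel

theorem linId_75 : ((List.range' 75 1).all fun i =>
    veq (vunit i) (comb lin.basis (lin.dual.map fun p => cf p i))) = true := by decide +kernel

end CfsgLib.LocalEvenB.McLCover
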