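import Mathlib
import Cfsg.Agent.Lib.LocalEvenB.McLCover.Data

/-!
# Linear algebra of the chain, part 0
-/

set_option autoImplicit false
set_option maxRecDepth 100000
set_option maxHeartbeats 0
set_option Elab.async false

namespace CfsgLib.LocalEvenB.McLCover

open CfsgLib.Schur.Cert CfsgLib.Sporadic

theorem linKind_0 : ((List.range' 0 5).all fun t =>
    (let k := lin.kind.getD t (false, 0, [])
      bif t == lin.tor then veq (vsmul lin.bound (lin.basis.getD t [])) (comb (chainEqns chain) k.2.2)
      else bif k.1 then
        !(k.2.1 == 0) && veq (vsmul k.2.1 (lin.dual.getD t [])) (comb ((List.range 2).map (column rows)) k.2.2)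
      else veq (lin.basis.getD t []) (comb (chainEqns chain) k.2.2))) = true := by decide +kernel

theorem linKind_5 : ((List.range' 5 5).all fun t =>
    (let k := lin.kind.getD t (false, 0, [])
      bif t == lin.tor then veq (vsmul lin.bound (lin.basis.getD t [])) (comb (chainEqns chain) k.2.2)
      else bif k.1 then
        !(k.2.1 == 0) && veq (vsmul k.2.1 (lin.dual.getD t [])) (comb ((List.range 2).map (column rows)) k.2.2)
      else veq (lin.basis.getD t []) (comb (chainEqns chain) k.2.2))) = true := by decide +kernel

theorem linKind_10 : ((List.range' 10 5).all fun t =>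
    (let k := lin.kind.getD t (false, 0, [])
      bif t == lin.tor then veq (vsmul lin.bound (lin.basis.getD t [])) (comb (chainEqns chain) k.2.2)
      else bif k.1 then
        !(k.2.1 == 0) && veq (vsmul k.2.1 (lin.dual.getD t [])) (comb ((List.range 2).map (column rows)) k.2.2)
      else veq (lin.basis.getD t []) (comb (chainEqns chain) k.2.2))) = true := by decide +kernel

theorem linKind_15 : ((List.range' 15 5).all fun t =>
    (let k := lin.kind.getD t (false, 0, [])
      bif t == lin.tor then veq (vsmul lin.bound (lin.basis.getD t [])) (comb (chainEqns chain) k.2.2)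
      else bif k.1 then
        !(k.2.1 == 0) && veq (vsmul k.2.1 (lin.dual.getD t [])) (comb ((List.range 2).map (column rows)) k.2.2)
      else veq (lin.basis.getD t []) (comb (chainEqns chain) k.2.2))) = true := by decide +kernel

theorem linKind_20 : ((List.range' 20 5).all fun t =>
    (let k := lin.kind.getD t (false, 0, [])
      bif t == lin.tor then veq (vsmul lin.bound (lin.basis.getD t [])) (comb (chainEqns chain) k.2.2)
      else bif k.1 then
        !(k.2.1 == 0) && veq (vsmul k.2.1 (lin.dual.getD t [])) (comb ((List.range 2).map (column rows)) k.2.2)
      else veq (lin.basis.getD t []) (comb (chainEqns chain) k.2.2))) = true := by decide +kernel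

theorem linKind_25 : ((List.range' 25 5).all fun t =>
    (let k := lin.kind.getD t (false, 0, [])
      bif t == lin.tor then veq (vsmul lin.bound (lin.basis.getD t [])) (comb (chainEqns chain) k.2.2)
      else bif k.1 then
        !(k.2.1 == 0) && veq (vsmul k.2.1 (lin.dual.getD t [])) (comb ((List.range 2).map (column rows)) k.2.2)
      else veq (lin.basis.getD t []) (comb (chainEqns chain) k.2.2))) = true := by decide +kernel

theorem linKind_30 : ((List.range' 30 5).all fun t =>
    (let k := lin.kind.getD t (false, 0, [])
      bif t == lin.tor then veq (vsmul lin.bound (lin.basis.getD t [])) (comb (chainEqns chain) k.2.2)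
      else bif k.1 then
        !(k.2.1 == 0) && veq (vsmul k.2.1 (lin.dual.getD t [])) (comb ((List.range 2).map (column rows)) k.2.2)
      else veq (lin.basis.getD t []) (comb (chainEqns chain) k.2.2))) = true := by decide +kernel

theorem linKind_35 : ((List.range' 35 5).all fun t =>
    (let k := lin.kind.getD t (false, 0, [])
      bif t == lin.tor then veq (vsmul lin.bound (lin.basis.getD t [])) (comb (chainEqns chain) k.2.2)
      else bif k.1 then
        !(k.2.1 == 0) && veq (vsmul k.2.1 (lin.dual.getD t [])) (comb ((List.range 2).map (column rows)) k.2.2)
      else veq (lin.basis.getD t []) (comb (chainEqns chain) k.2.2))) = true := by decide +kernel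

end CfsgLib.LocalEvenB.McLCover
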