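import Mathlib
import Cfsg.Agent.Lib.LocalEvenB.McLCover.Data

/-!
# Linear algebra of the chain, part 1
-/

set_option autoImplicit false
set_option maxRecDepth 100000
set_option maxHeartbeats 0
set_option Elab.async false

namespace CfsgLib.LocalEvenB.McLCover

open CfsgLib.Schur.Cert CfsgLib.Sporadic

theorem linKind_40 : ((List.range' 40 5).all fun t =>
    (let k := lin.kind.getD t (false, 0, [])
      bif t == lin.tor then veq (vsmul lin.bound (lin.basis.getD t [])) (comb (chainEqns chain) k.2.2)
      else bif k.1 then
        !(k.2.1 == 0) && veq (vsmul k.2.1 (lin.dual.getD t [])) (comb ((List.range 2).map (column rows)) k.2.2)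
      else veq (lin.basis.getD t []) (comb (chainEqns chain) k.2.2))) = true := by decide +kernel

theorem linKind_45 : ((List.range' 45 5).all fun t =>
    (let k := lin.kind.getD t (false, 0, [])
      bif t == lin.tor then veq (vsmul lin.bound (lin.basis.getD t [])) (comb (chainEqns chain) k.2.2)
      else bif k.1 then
        !(k.2.1 == 0) && veq (vsmul k.2.1 (lin.dual.getD t [])) (comb ((List.range 2).map (column rows)) k.2.2)
      else veq (lin.basis.getD t []) (comb (chainEqns chain) k.2.2))) = true := by decide +kernel

theorem linKind_50 : ((List.range' 50 5).all fun t =>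
    (let k := lin.kind.getD t (false, 0, [])
      bif t == lin.tor then veq (vsmul lin.bound (lin.basis.getD t [])) (comb (chainEqns chain) k.2.2)
      else bif k.1 then
        !(k.2.1 == 0) && veq (vsmul k.2.1 (lin.dual.getD t [])) (comb ((List.range 2).map (column rows)) k.2.2)
      else veq (lin.basis.getD t []) (comb (chainEqns chain) k.2.2))) = true := by decide +kernel

theorem linKind_55 : ((List.range' 55 5).all fun t =>
    (let k := lin.kind.getD t (false, 0, [])
      bif t == lin.tor then veq (vsmul lin.bound (lin.basis.getD t [])) (comb (chainEqns chain) k.2.2)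
      else bif k.1 then
        !(k.2.1 == 0) && veq (vsmul k.2.1 (lin.dual.getD t [])) (comb ((List.range 2).map (column rows)) k.2.2)
      else veq (lin.basis.getD t []) (comb (chainEqns chain) k.2.2))) = true := by decide +kernel

theorem linKind_60 : ((List.range' 60 5).all fun t =>
    (let k := lin.kind.getD t (false, 0, [])
      bif t == lin.tor then veq (vsmul lin.bound (lin.basis.getD t [])) (comb (chainEqns chain) k.2.2)
      else bif k.1 then
        !(k.2.1 == 0) && veq (vsmul k.2.1 (lin.dual.getD t [])) (comb ((List.range 2).map (column rows)) k.2.2)
      else veq (lin.basis.getD t []) (comb (chainEqns chain) k.2.2))) = true := by decide +kernel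

theorem linKind_65 : ((List.range' 65 5).all fun t =>
    (let k := lin.kind.getD t (false, 0, [])
      bif t == lin.tor then veq (vsmul lin.bound (lin.basis.getD t [])) (comb (chainEqns chain) k.2.2)
      else bif k.1 then
        !(k.2.1 == 0) && veq (vsmul k.2.1 (lin.dual.getD t [])) (comb ((List.range 2).map (column rows)) k.2.2)
      else veq (lin.basis.getD t []) (comb (chainEqns chain) k.2.2))) = true := by decide +kernel

theorem linKind_70 : ((List.range' 70 5).all fun t =>
    (let k := lin.kind.getD t (false, 0, [])
      bif t == lin.tor then veq (vsmul lin.bound (lin.basis.getD t [])) (comb (chainEqns chain) k.2.2)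
      else bif k.1 then
        !(k.2.1 == 0) && veq (vsmul k.2.1 (lin.dual.getD t [])) (comb ((List.range 2).map (column rows)) k.2.2)
      else veq (lin.basis.getD t []) (comb (chainEqns chain) k.2.2))) = true := by decide +kernel

theorem linKind_75 : ((List.range' 75 1).all fun t =>
    (let k := lin.kind.getD t (false, 0, [])
      bif t == lin.tor then veq (vsmul lin.bound (lin.basis.getD t [])) (comb (chainEqns chain) k.2.2)
      else bif k.1 then
        !(k.2.1 == 0) && veq (vsmul k.2.1 (lin.dual.getD t [])) (comb ((List.range 2).map (column rows)) k.2.2)
      else veq (lin.basis.getD t []) (comb (chainEqns chain) k.2.2))) = true := by decide +kernel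

end CfsgLib.LocalEvenB.McLCover
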