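import Mathlib
import Cfsg.Agent.Lib.LocalEvenB.McLCover.Data

/-!
# The relations of the top level on the points
-/

set_option autoImplicit false
set_option maxRecDepth 100000
set_option maxHeartbeats 0
set_option Elab.async false

namespace CfsgLib.LocalEvenB.McLCover

open CfsgLib.Schur.Cert CfsgLib.Sporadic

theorem perms_rels0 : ((level0.table.rels.take 15).all fun r => !r.rhs.isEmpty || ((r.word.all fun m => decide (m.1 < level0.table.ngen)) &&
      forallLt 275 fun x => Nat.beq (wordImgN level0.perm level0.pinv r.word x) x)) = true := by
  decide +kernel

theorem perms_rels1 : ((level0.table.rels.drop 15).all fun r => !r.rhs.isEmpty || ((r.word.all fun m => decide (m.1 < level0.table.ngen)) &&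
      forallLt 275 fun x => Nat.beq (wordImgN level0.perm level0.pinv r.word x) x)) = true := by
  decide +kernel

theorem perms_rels : (level0.table.rels.all fun r => !r.rhs.isEmpty || ((r.word.all fun m => decide (m.1 < level0.table.ngen)) &&
      forallLt 275 fun x => Nat.beq (wordImgN level0.perm level0.pinv r.word x) x)) = true := by
  rw [← List.take_append_drop 15 level0.table.rels, List.all_append, perms_rels0, perms_rels1]
  rfl

end CfsgLib.LocalEvenB.McLCover
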