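import Mathlib
import Cfsg.Agent.Lib.LocalEvenB.McLCover.Data

/-!
# The permutations of the lower levels
-/

set_option autoImplicit false
set_option maxRecDepth 100000
set_option maxHeartbeats 0
set_option Elab.async false

namespace CfsgLib.LocalEvenB.McLCover

open CfsgLib.Schur.Cert CfsgLib.Sporadic

theorem perms_tail : permsOKN 275 [level1, level2, level3, level4] = true := by decide +kernel

end CfsgLib.LocalEvenB.McLCover
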