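import Mathlib
import Cfsg.Agent.Lib.LocalEvenB.McLCover.PermsTail
import Cfsg.Agent.Lib.LocalEvenB.McLCover.PermsRels

/-!
# The permutations of the chain
-/

set_option autoImplicit false
set_option maxRecDepth 100000
set_option maxHeartbeats 0
set_option Elab.async false

namespace CfsgLib.LocalEvenB.McLCover

open CfsgLib.Schur.Cert CfsgLib.Sporadic

theorem perms_check : permsOKN 275 chain = true := by
  show permsOKN 275 [level0, level1, level2, level3, level4] = true
  rw [permsOKN, perms_tail, perms_rels]
  simp only [Bool.and_eq_true, and_assoc, and_true]
  repeat' apply And.intro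
  all_goals decide +kernel

end CfsgLib.LocalEvenB.McLCover
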