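import Mathlib
import Cfsg.Agent.Lib.LocalEvenB.McLCover.Check0
import Cfsg.Agent.Lib.LocalEvenB.McLCover.Check1
import Cfsg.Agent.Lib.LocalEvenB.McLCover.Check2
import Cfsg.Agent.Lib.LocalEvenB.McLCover.Check3
import Cfsg.Agent.Lib.LocalEvenB.McLCover.Check4
import Cfsg.Agent.Lib.LocalEvenB.McLCover.PermsHead
import Cfsg.Agent.Lib.LocalEvenB.McLCover.LinId0
import Cfsg.Agent.Lib.LocalEvenB.McLCover.LinId1
import Cfsg.Agent.Lib.LocalEvenB.McLCover.LinKind0
import Cfsg.Agent.Lib.LocalEvenB.McLCover.LinKind1

/-!
# All checks of the chain
-/

set_option autoImplicit false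
set_option maxRecDepth 100000
set_option maxHeartbeats 0
set_option Elab.async false

namespace CfsgLib.LocalEvenB.McLCover

open CfsgLib.Schur.Cert CfsgLib.Sporadic

theorem rows_check : rows = relRows (chainRels chain top) ∧ chainExp chain = top.map (wexp vunit) := by decide +kernel

theorem lastWords : (nextWords (nextWords (nextWords (nextWords (nextWords (top) level0) level1) level2) level3) level4).isEmpty = true := by decide +kernel

theorem tables_check : tablesOK (chainRels chain top) rows chain top = true := by
  show tablesOK (chainRels chain top) rows [level0, level1, level2, level3, level4] top = true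
  simp only [tablesOK, shape0, deds0, eqns0, shape1, deds1, eqns1, shape2, deds2, eqns2, shape3, deds3, eqns3, shape4, deds4, eqns4, lastWords, Bool.and_self]

theorem lin_head : (decide (0 < lin.bound) && decide (lin.dual.length = lin.basis.length) &&
    decide (lin.tor < lin.basis.length) && (lin.dual.all fun p => decide (p.length ≤ rows.length))) = true := by
  decide +kernel

theorem lin_check : lin.ok rows 2 (chainEqns chain) = true := by
  rw [LinCert.ok, lin_head, Bool.true_and, show List.range rows.length = List.range' 0 5 ++ List.range' 5 5 ++ List.range' 10 5 ++ List.range' 15 5 ++ List.range' 20 5 ++ List.range' 25 5 ++ List.range' 30 5 ++ List.range' 35 5 ++ List.range' 40 5 ++ List.range' 45 5 ++ List.range' 50 5 ++ List.range' 55 5 ++ List.range' 60 5 ++ List.range' 65 5 ++ List.range' 70 5 ++ List.range' 75 1 from by decide +kernel,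
    show List.range lin.basis.length = List.range' 0 5 ++ List.range' 5 5 ++ List.range' 10 5 ++ List.range' 15 5 ++ List.range' 20 5 ++ List.range' 25 5 ++ List.range' 30 5 ++ List.range' 35 5 ++ List.range' 40 5 ++ List.range' 45 5 ++ List.range' 50 5 ++ List.range' 55 5 ++ List.range' 60 5 ++ List.range' 65 5 ++ List.range' 70 5 ++ List.range' 75 1 from by decide +kernel]
  simp only [List.all_append, Bool.and_self, linId_0, linId_5, linId_10, linId_15, linId_20, linId_25, linId_30, linId_35, linId_40, linId_45, linId_50, linId_55, linId_60, linId_65, linId_70, linId_75, linKind_0, linKind_5, linKind_10, linKind_15, linKind_20, linKind_25, linKind_30, linKind_35, linKind_40, linKind_45, linKind_50, linKind_55, linKind_60, linKind_65, linKind_70, linKind_75]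

end CfsgLib.LocalEvenB.McLCover
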