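import Mathlib
import Cfsg.Agent.Lib.Schur.CertTransfer

/-!
# A cocycle from a central cover and its value on a transferred commutator

For a surjection `π : Γ → K` with central kernel and an additive reading `lg` of that kernel, a section
gives a cocycle. When this cocycle is transferred, its value on two commuting elements can be read off
from any choice of preimages of the factors, because the corrections cancel over the permuted cosets.
-/

set_option autoImplicit false

namespace CfsgLib.LocalEvenB.McLCover

open CfsgLib.Schur.TransferCocycle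

section Section

variable {K : Type*} [Group K] {Γ : Type*} [Group Γ] {A : Type*} [AddCommGroup A] (π : Γ →* K)

/-- A section of a surjection that fixes one. -/
noncomputable def sect (hs : Function.Surjective π) (p : K) : Γ :=
  Function.surjInv hs p * (Function.surjInv hs 1)⁻¹

theorem sect_spec (hs : Function.Surjective π) (p : K) : π (sect π hs p) = p := by
  simp [sect, Function.surjInv_eq hs]

theorem sect_one (hs : Function.Surjective π) : sect π hs 1 = 1 := by simp [sect]

/-- The defect of the section. -/
noncomputable def defect (hs : Function.Surjective π) (p q : K) : π.ker :=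
  ⟨sect π hs p * sect π hs q * (sect π hs (p * q))⁻¹, by simp [MonoidHom.mem_ker, sect_spec]⟩

variable (hc : π.ker ≤ Subgroup.center Γ) (lg : π.ker → A) (hlg : ∀ u v, lg (u * v) = lg u + lg v)

include hlg in
theorem lg_one : lg 1 = 0 := by
  have := hlg 1 1
  rw [mul_one] at this
  exact left_eq_add.1 this

include hc in
theorem ker_comm {z : Γ} (hz : z ∈ π.ker) (g : Γ) : g * z = z * g := Subgroup.mem_center_iff.1 (hc hz) g

include hlg in
/-- The cocycle of the section. -/
noncomputable def sectCocycle (hs : Function.Surjective π) (hc : π.ker ≤ Subgroup.center Γ) : Cocycle K A where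
  f p q := lg (defect π hs p q)
  one_left q := by
    have h : defect π hs 1 q = 1 := Subtype.ext (by simp [defect, sect_one])
    rw [h, lg_one π lg hlg]
  one_right p := by
    have h : defect π hs p 1 = 1 := Subtype.ext (by simp [defect, sect_one])
    rw [h, lg_one π lg hlg]
  cocycle p q r := by
    rw [← hlg, ← hlg]
    refine congrArg lg (Subtype.ext ?_)
    simp only [Subgroup.coe_mul, defect, mul_assoc p q r]
    have hz := ker_comm π hc (defect π hs q r).2
    simp only [defect] at hz
    generalize sect π hs p = a at *
    generalize sect π hs q = b at *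
    generalize sect π hs r = c at *
    generalize sect π hs (p * q) = d at *
    generalize sect π hs (q * r) = e at *
    generalize sect π hs (p * (q * r)) = f at *
    calc a * b * d⁻¹ * (d * c * f⁻¹) = a * b * c * f⁻¹ := by group
      _ = a * (b * c * e⁻¹) * (e * f⁻¹) := by group
      _ = b * c * e⁻¹ * a * (e * f⁻¹) := by rw [hz a]
      _ = b * c * e⁻¹ * (a * e * f⁻¹) := by group

include hc hlg in
/-- Two products of preimages of one element, and the cocycle. -/
theorem defect_compare (hs : Function.Surjective π) {p q p' q' : K} (h : p * q = p' * q')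
    (X Y X' Y' : Γ)
    (E : π.ker) (hE : X * Y = (E : Γ) * (X' * Y'))
    (dX dY dX' dY' : π.ker) (eX : sect π hs p = dX * X) (eY : sect π hs q = dY * Y)
    (eX' : sect π hs p' = dX' * X') (eY' : sect π hs q' = dY' * Y') :
    (sectCocycle π lg hlg hs hc).f p q - (sectCocycle π lg hlg hs hc).f p' q' =
      lg E + ((lg dX + lg dY) - (lg dX' + lg dY')) := by
  show lg (defect π hs p q) - lg (defect π hs p' q') = _
  rw [sub_eq_iff_eq_add, ← sub_eq_zero]
  have key : dX * dY * E * defect π hs p' q' = defect π hs p q * (dX' * dY') := by
    refine Subtype.ext ?_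
    simp only [Subgroup.coe_mul, defect, h]
    rw [eX, eY, eX', eY']
    have cY : ∀ g : Γ, g * (dY : Γ) = dY * g := ker_comm π hc dY.2
    have cY' : ∀ g : Γ, g * (dY' : Γ) = dY' * g := ker_comm π hc dY'.2
    have cE : ∀ g : Γ, g * (E : Γ) = E * g := ker_comm π hc E.2
    have cX' : ∀ g : Γ, g * (dX' : Γ) = dX' * g := ker_comm π hc dX'.2
    generalize (sect π hs (p' * q'))⁻¹ = s
    calc (dX : Γ) * dY * E * (dX' * X' * (dY' * Y') * s)
        = dX * dY * E * (dX' * (X' * dY') * Y' * s) := by group
      _ = dX * dY * E * (dX' * dY' * (X' * Y') * s) := by rw [cY' X']; group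
      _ = dX * dY * (E * (dX' * dY')) * (X' * Y') * s := by group
      _ = dX * dY * ((dX' * dY') * E) * (X' * Y') * s := by rw [cE]
      _ = (dX * dY) * (dX' * dY') * (E * (X' * Y')) * s := by group
      _ = dX * dY * (dX' * dY') * (X * Y) * s := by rw [hE]
      _ = dX * dY * ((X * Y) * (dX' * dY')) * s := by
        rw [← mul_assoc (X * Y) (dX' : Γ), cX' (X * Y), mul_assoc (dX' : Γ) (X * Y), cY' (X * Y)]
        group
      _ = dX * (dY * X) * Y * ((dX' * dY') * s) := by group
      _ = dX * (X * dY) * Y * (s * (dX' * dY')) := by
        rw [← cY X, show (dX' : Γ) * dY' * s = s * (dX' * dY') by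
          rw [← mul_assoc, cX' s, mul_assoc (dX' : Γ) s, cY' s, ← mul_assoc]]
      _ = dX * X * (dY * Y) * s * (dX' * dY') := by group
  have := congrArg lg key
  simp only [hlg] at this
  rw [← sub_eq_zero] at this
  rw [← neg_eq_zero, ← this]
  abel

end Section

end CfsgLib.LocalEvenB.McLCover
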