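import Mathlib
import Cfsg.Agent.Lib.LocalEvenB.McLCover.Data
import Cfsg.Agent.Lib.LocalEvenB.McLCover.TransferData

/-!
# Checks of the coset representatives and factors
-/

set_option autoImplicit false
set_option maxRecDepth 100000
set_option maxHeartbeats 0
set_option Elab.async false

namespace CfsgLib.LocalEvenB.McLCover

open CfsgLib.Schur.Cert CfsgLib.Sporadic

/-- one coset -/
noncomputable def facYOne (i : ℕ) : Bool := ((crdY i).all fun l => Nat.blt l.1 2) && forallLt 275 fun p => Nat.beq (pgetN yPerm (pgetN (repPerm i) p)) (pgetN (repPerm (pgetN yPerm i)) (wordImgN level1.perm level1.pinv (crdY i) p))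

theorem facY_0 : ((List.range' 0 25).all facYOne) = true := by decide +kernel

theorem facY_1 : ((List.range' 25 25).all facYOne) = true := by decide +kernel

theorem facY_2 : ((List.range' 50 25).all facYOne) = true := by decide +kernel

theorem facY_3 : ((List.range' 75 25).all facYOne) = true := by decide +kernel

theorem facY_4 : ((List.range' 100 25).all facYOne) = true := by decide +kernel

theorem facY_5 : ((List.range' 125 25).all facYOne) = true := by decide +kernel

theorem facY_6 : ((List.range' 150 25).all facYOne) = true := by decide +kernel

theorem facY_7 : ((List.range' 175 25).all facYOne) = true := by decide +kernel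

theorem facY_8 : ((List.range' 200 25).all facYOne) = true := by decide +kernel

theorem facY_9 : ((List.range' 225 25).all facYOne) = true := by decide +kernel

theorem facY_10 : ((List.range' 250 25).all facYOne) = true := by decide +kernel

theorem facY_all : ∀ i < 275, facYOne i = true := by
  intro i hi
  have h : (List.range 275).all facYOne = true := by
    rw [show List.range 275 = List.range' 0 25 ++ List.range' 25 25 ++ List.range' 50 25 ++ List.range' 75 25 ++ List.range' 100 25 ++ List.range' 125 25 ++ List.range' 150 25 ++ List.range' 175 25 ++ List.range' 200 25 ++ List.range' 225 25 ++ List.range' 250 25 from by decide +kernel]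
    simp only [List.all_append, Bool.and_self, facY_0, facY_1, facY_2, facY_3, facY_4, facY_5, facY_6, facY_7, facY_8, facY_9, facY_10]
  exact List.all_eq_true.1 h i (List.mem_range.2 hi)

end CfsgLib.LocalEvenB.McLCover
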