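import Mathlib
import Cfsg.Agent.Lib.LocalEvenB.McLCover.Data

/-!
# A chain of coset tables for the point stabiliser
-/

set_option autoImplicit false
set_option maxRecDepth 100000
set_option maxHeartbeats 0
set_option Elab.async false

namespace CfsgLib.LocalEvenB.McLCover

open CfsgLib.Schur.Cert CfsgLib.Sporadic

noncomputable section

/-- data -/
def potK1 : Trie (Vec) := .node (.node (.node (.node (.node (.node (.node (.leaf ([])) (.leaf ([2, 4]))) (.node (.leaf ([2, 3])) (.leaf ([6, 2])))) (.node (.node (.leaf ([3, 1])) (.leaf ([4, 3]))) (.leaf ([3, 3])))) (.node (.node (.node (.leaf ([2, 1])) (.leaf ([4, 3]))) (.node (.leaf ([3, 2])) (.leaf ([6, 2])))) (.node (.node (.leaf ([2, 2])) (.leaf ([3, 4]))) (.leaf ([3, 3]))))) (.node (.node (.node (.node (.leaf ([1, 1])) (.leaf ([6, 1]))) (.node (.leaf ([2, 3])) (.leaf ([3, 5])))) (.node (.node (.leaf ([2, 2])) (.leaf ([4, 3]))) (.leaf ([3, 3])))) (.node (.node (.node (.leaf ([1, 2])) (.leaf ([5, 2])))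 (.node (.leaf ([2, 3])) (.leaf ([3, 5])))) (.node (.node (.leaf ([4, 1])) (.leaf ([2, 5]))) (.leaf ([2, 4])))))) (.node (.node (.node (.node (.node (.leaf ([0, 1])) (.leaf ([2, 4]))) (.node (.leaf ([3, 2])) (.leaf ([5, 3])))) (.node (.node (.leaf ([3, 1])) (.leaf ([3, 4]))) (.leaf ([3, 3])))) (.node (.node (.node (.leaf ([1, 2])) (.leaf ([4, 3]))) (.node (.leaf ([3, 2])) (.leaf ([3, 5])))) (.node (.node (.leaf ([1, 3])) (.leaf ([3, 4]))) (.leaf ([4, 2]))))) (.node (.node (.node (.node (.leaf ([0, 2])) (.leaf ([5, 2]))) (.node (.leaf ([2, 3])) (.leaf ([4, 4])))) (.node (.node (.leaf ([3, 1])) (.leaf ([4, 3]))) (.leaf ([3, 3])))) (.node (.node (.node (.leaf ([0, 3])) (.leaf ([4, 3]))) (.node (.leaf ([5, 1])) (.leaf ([6, 3])))) (.node (.node (.leaf ([3, 2])) (.leaf ([3, 4]))) (.leaf ([3, 3]))))))) (.node (.node (.node (.node (.node (.node (.leaf ([1])) (.leaf ([3, 3]))) (.node (.leaf ([4, 1])) (.leaf ([6, 2])))) (.node (.node (.leaf ([2, 2])) (.leaf ([4,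 3]))) (.leaf ([3, 3])))) (.node (.node (.node (.leaf ([2, 1])) (.leaf ([3, 4]))) (.node (.leaf ([2, 3])) (.leaf ([5, 3])))) (.node (.node (.leaf ([2, 2])) (.leaf ([4, 3]))) (.leaf ([2, 4]))))) (.node (.node (.node (.node (.leaf ([1, 1])) (.leaf ([5, 2]))) (.node (.leaf ([3, 2])) (.leaf ([3, 5])))) (.node (.node (.leaf ([1, 3])) (.leaf ([3, 4]))) (.leaf ([4, 2])))) (.node (.node (.node (.leaf ([1, 2])) (.leaf ([4, 3]))) (.node (.leaf ([2, 3])) (.leaf ([5, 4])))) (.node (.node (.leaf ([4, 1])) (.leaf ([4, 3]))) (.leaf ([4, 2])))))) (.node (.node (.node (.node (.node (.leaf ([2])) (.leaf ([3, 3]))) (.node (.leaf ([3, 2])) (.leaf ([4, 4])))) (.node (.node (.leaf ([2, 2])) (.leaf ([5, 2]))) (.leaf ([4, 2])))) (.node (.node (.node (.leaf ([2, 1])) (.leaf ([3, 4]))) (.node (.leaf ([2, 3])) (.leaf ([3, 5])))) (.node (.node (.leaf ([1, 3])) (.leaf ([3, 4]))) (.leaf ([3, 3]))))) (.node (.node (.node (.node (.leaf ([3])) (.leaf ([4, 3]))) (.node (.leaf ([4, 1]))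 (.leaf ([5, 3])))) (.node (.node (.leaf ([2, 2])) (.leaf ([4, 3]))) (.leaf ([3, 3])))) (.node (.node (.node (.leaf ([4])) (.leaf ([4, 3]))) (.node (.leaf ([4, 2])) (.leaf ([4, 5])))) (.node (.node (.leaf ([3, 2])) (.leaf ([7, 1]))) (.leaf ([3, 3])))))))

/-- the table with exponents in the generators of the point stabiliser -/
def tableK1 : Table := { table1 with pot := fun g => potK1.get g }

/-- the level -/
def levelK1 : ChainLevel :=
  { level1 with table := tableK1, gexp := [[1], [0, 1]], eqs := [] }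

/-- data -/
def potK2 : Trie (Vec) := .node (.node (.node (.node (.node (.leaf ([])) (.leaf ([0, 5]))) (.node (.leaf ([0, 3])) (.leaf ([0, 6])))) (.node (.node (.leaf ([0, 2])) (.leaf ([0, 5]))) (.node (.leaf ([0, 4])) (.leaf ([0, 7]))))) (.node (.node (.node (.leaf ([0, 1])) (.leaf ([0, 5]))) (.node (.leaf ([0, 3])) (.leaf ([0, 6])))) (.node (.node (.leaf ([0, 2])) (.leaf ([0, 6]))) (.leaf ([0, 4]))))) (.node (.node (.node (.node (.leaf ([0, 1])) (.leaf ([0, 5]))) (.node (.leaf ([0, 3])) (.leaf ([0, 6])))) (.node (.node (.leaf ([0, 2])) (.leaf ([0, 5]))) (.node (.leaf ([0, 4])) (.leaf ([0, 7]))))) (.node (.node (.node (.leaf ([0, 2])) (.leaf ([0, 5]))) (.node (.leaf ([0, 3])) (.leaf ([0, 7])))) (.node (.node (.leaf ([0, 3])) (.leaf ([0, 6]))) (.leaf ([0, 4])))))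

/-- the table with exponents in the generators of the point stabiliser -/
def tableK2 : Table := { table2 with pot := fun g => potK2.get g }

/-- the level -/
def levelK2 : ChainLevel :=
  { level2 with table := tableK2, gexp := [[0, 1], [0, 1]], eqs := [] }

/-- data -/
def potK3 : Trie (Vec) := .node (.node (.node (.node (.node (.leaf ([])) (.leaf ([0, 4]))) (.node (.leaf ([0, 2])) (.leaf ([0, 4])))) (.node (.node (.leaf ([0, 3])) (.leaf ([0, 4]))) (.leaf ([0, 4])))) (.node (.node (.node (.leaf ([0, 2])) (.leaf ([0, 4]))) (.node (.leaf ([0, 4])) (.leaf ([0, 5])))) (.node (.node (.leaf ([0, 2])) (.leaf ([0, 4]))) (.leaf ([0, 3]))))) (.node (.node (.node (.node (.leaf ([0, 1])) (.leaf ([0, 4]))) (.node (.leaf ([0, 4])) (.leaf ([0, 6])))) (.node (.node (.leaf ([0, 3])) (.leaf ([0, 4]))) (.leaf ([0, 5])))) (.node (.node (.node (.leaf ([0, 2])) (.leaf ([0, 6]))) (.leaf ([0, 3]))) (.node (.node (.leaf ([0, 3])) (.leaf ([0, 3]))) (.leaf ([0, 3])))))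

/-- the table with exponents in the generators of the point stabiliser -/
def tableK3 : Table := { table3 with pot := fun g => potK3.get g }

/-- the level -/
def levelK3 : ChainLevel :=
  { level3 with table := tableK3, gexp := [[0, 1], [0, 0], [0, 2]], eqs := [] }

/-- data -/
def potK4 : Trie (Vec) := .node (.node (.node (.node (.node (.node (.leaf ([])) (.leaf ([0, (-5)]))) (.leaf ([0, (-2)]))) (.node (.leaf ([0, (-2)])) (.leaf ([0, (-3)])))) (.node (.node (.leaf ([0, (-1)])) (.leaf ([0, (-4)]))) (.node (.leaf ([0, (-3)])) (.leaf ([0, (-4)]))))) (.node (.node (.node (.node (.leaf ([])) (.leaf ([0, (-4)]))) (.leaf ([0, (-4)]))) (.node (.leaf ([0, (-1)])) (.leaf ([0, (-4)])))) (.node (.node (.leaf ([0, (-3)])) (.leaf ([0, (-3)]))) (.node (.leaf ([0, (-2)])) (.leaf ([0, (-4)])))))) (.node (.node (.node (.node (.node (.leaf ([0, (-1)])) (.leaf ([0, (-4)]))) (.leaf ([0, (-2)]))) (.node (.leaf ([0, (-2)])) (.leaf ([0, (-2)])))) (.node (.node (.leaf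 ([0, (-1)])) (.leaf ([0, (-3)]))) (.node (.leaf ([0, (-3)])) (.leaf ([0, (-3)]))))) (.node (.node (.node (.node (.leaf ([0, (-2)])) (.leaf ([0, (-5)]))) (.leaf ([0, (-3)]))) (.node (.leaf ([0, (-3)])) (.leaf ([0, (-4)])))) (.node (.node (.leaf ([0, (-2)])) (.leaf ([0, (-3)]))) (.node (.leaf ([0, (-3)])) (.leaf ([0, (-3)]))))))

/-- the table with exponents in the generators of the point stabiliser -/
def tableK4 : Table := { table4 with pot := fun g => potK4.get g }

/-- the level -/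
def levelK4 : ChainLevel :=
  { level4 with table := tableK4, gexp := [[0, (-1)], [0, 0]], eqs := [] }

/-- the chain of the point stabiliser -/
def chainK : List ChainLevel := [levelK1, levelK2, levelK3, levelK4]

/-- exponents of its relations -/
def rowsK : List Vec := [[0, 0], [0, (-4)], [0, (-4)], [0, (-2)], [0, 0], [0, 4], [0, 4], [0, 6], [0, 4], [0, 4], [0, 12], [0, 2], [0, 0], [0, 4], [0, 4], [0, 5], [0, 10], [0, (-4)], [0, 1], [0, 4], [5], [5, 2], [0, (-6)], [2, (-7)], [0, (-1)], [1, 2], [2, (-2)], [2, (-4)], [2, (-2)], [(-1), (-3)], [2, 0], [0, (-4)], [(-2), 3], [1, (-4)], [0, 2], [(-1), 3], [7, (-2)], [2, (-7)], [0, 0], [7, 7], [9, 0], [1, (-1)]]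

end

end CfsgLib.LocalEvenB.McLCover
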