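import Mathlib
import Cfsg.Agent.Lib.LocalEvenB.McLCover.InnerData

/-!
# Checks of the chain of the point stabiliser
-/

set_option autoImplicit false
set_option maxRecDepth 100000
set_option maxHeartbeats 0
set_option Elab.async false

namespace CfsgLib.LocalEvenB.McLCover

open CfsgLib.Schur.Cert CfsgLib.Sporadic

theorem shapeK1 : shapeOK (chainRels chainK top) rowsK levelK1 [levelK2, levelK3, levelK4] (top) = true := by decide +kernel

theorem dedsK1_0 : ((List.range' 0 20).all fun j => levelK1.table.dedOK (chainMachine [levelK2, levelK3, levelK4]) j) = true := by decide +kernel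

theorem dedsK1_1 : ((List.range' 20 20).all fun j => levelK1.table.dedOK (chainMachine [levelK2, levelK3, levelK4]) j) = true := by decide +kernel

theorem dedsK1_2 : ((List.range' 40 20).all fun j => levelK1.table.dedOK (chainMachine [levelK2, levelK3, levelK4]) j) = true := by decide +kernel

theorem dedsK1_3 : ((List.range' 60 20).all fun j => levelK1.table.dedOK (chainMachine [levelK2, levelK3, levelK4]) j) = true := by decide +kernel

theorem dedsK1_4 : ((List.range' 80 20).all fun j => levelK1.table.dedOK (chainMachine [levelK2, levelK3, levelK4]) j) = true := by decide +kernel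

theorem dedsK1_5 : ((List.range' 100 13).all fun j => levelK1.table.dedOK (chainMachine [levelK2, levelK3, levelK4]) j) = true := by decide +kernel

theorem dedsK1 : dedsOK levelK1 [levelK2, levelK3, levelK4] = true := by
  rw [dedsOK, show List.range levelK1.table.nded = List.range' 0 20 ++ List.range' 20 20 ++ List.range' 40 20 ++ List.range' 60 20 ++ List.range' 80 20 ++ List.range' 100 13 from by decide +kernel]
  simp only [List.all_append, Bool.and_self, dedsK1_0, dedsK1_1, dedsK1_2, dedsK1_3, dedsK1_4, dedsK1_5]

theorem eqnsK1 : eqnsOK levelK1 [levelK2, levelK3, levelK4] = true := rfl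

theorem shapeK2 : shapeOK (chainRels chainK top) rowsK levelK2 [levelK3, levelK4] (nextWords (top) levelK1) = true := by decide +kernel

theorem dedsK2_0 : ((List.range' 0 31).all fun j => levelK2.table.dedOK (chainMachine [levelK3, levelK4]) j) = true := by decide +kernel

theorem dedsK2 : dedsOK levelK2 [levelK3, levelK4] = true := by
  rw [dedsOK, show List.range levelK2.table.nded = List.range' 0 31 from by decide +kernel]
  simp only [List.all_append, Bool.and_self, dedsK2_0]

theorem eqnsK2 : eqnsOK levelK2 [levelK3, levelK4] = true := rfl

theorem shapeK3 : shapeOK (chainRels chainK top) rowsK levelK3 [levelK4] (nextWords (nextWords (top) levelK1) levelK2) = true := by decide +kernel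

theorem dedsK3_0 : ((List.range' 0 55).all fun j => levelK3.table.dedOK (chainMachine [levelK4]) j) = true := by decide +kernel

theorem dedsK3 : dedsOK levelK3 [levelK4] = true := by
  rw [dedsOK, show List.range levelK3.table.nded = List.range' 0 55 from by decide +kernel]
  simp only [List.all_append, Bool.and_self, dedsK3_0]

theorem eqnsK3 : eqnsOK levelK3 [levelK4] = true := rfl

theorem shapeK4 : shapeOK (chainRels chainK top) rowsK levelK4 [] (nextWords (nextWords (nextWords (top) levelK1) levelK2) levelK3) = true := by decide +kernel

theorem dedsK4_0 : ((List.range' 0 37).all fun j => levelK4.table.dedOK (chainMachine []) j) = true := by decide +kernel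

theorem dedsK4 : dedsOK levelK4 [] = true := by
  rw [dedsOK, show List.range levelK4.table.nded = List.range' 0 37 from by decide +kernel]
  simp only [List.all_append, Bool.and_self, dedsK4_0]

theorem eqnsK4 : eqnsOK levelK4 [] = true := rfl

theorem lastK : (nextWords (nextWords (nextWords (nextWords (top) levelK1) levelK2) levelK3) levelK4).isEmpty = true := by decide +kernel

theorem rowsK_check : rowsK = relRows (chainRels chainK top) := by decide +kernel

theorem tablesK_check : tablesOK (chainRels chainK top) rowsK chainK top = true := by
  show tablesOK (chainRels chainK top) rowsK [levelK1, levelK2, levelK3, levelK4] top = true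
  simp only [tablesOK, shapeK1, dedsK1, eqnsK1, shapeK2, dedsK2, eqnsK2, shapeK3, dedsK3, eqnsK3, shapeK4, dedsK4, eqnsK4, lastK, Bool.and_self]

theorem permsK_check : permsOKN 275 chainK = true := by decide +kernel

end CfsgLib.LocalEvenB.McLCover
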