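import Mathlib
import Cfsg.Agent.Lib.Sporadic.ChainCertificate

/-!
# Coset table 0 of a chain for the McLaughlin group
-/

set_option autoImplicit false
set_option maxRecDepth 100000
set_option maxHeartbeats 0
set_option Elab.async false

namespace CfsgLib.LocalEvenB.McLCover

open CfsgLib.Schur.Cert

noncomputable section

/-- data -/
def next0 : Trie (ℕ) := .node (.node (.node (.node (.node (.node (.node (.node (.node (.node (.leaf 1) (.leaf 119)) (.leaf 177)) (.node (.leaf 104) (.leaf 68))) (.node (.node (.leaf 4) (.leaf 210)) (.node (.leaf 148) (.leaf 232)))) (.node (.node (.node (.node (.leaf 30) (.leaf 272)) (.leaf 193)) (.node (.leaf 14) (.leaf 246))) (.node (.node (.leaf 33) (.leaf 45)) (.node (.leaf 43) (.leaf 249))))) (.node (.node (.node (.node (.node (.leaf 15) (.leaf 213)) (.leaf 124)) (.node (.leaf 73) (.leaf 151))) (.node (.node (.leaf 70) (.leaf 201)) (.node (.leaf 64) (.leaf 120)))) (.node (.node (.node (.leaf 42) (.leaf 202)) (.node (.leaf 16) (.leaf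 253))) (.node (.node (.leaf 92) (.leaf 233)) (.node (.leaf 172) (.leaf 268)))))) (.node (.node (.node (.node (.node (.node (.leaf 9) (.leaf 271)) (.leaf 181)) (.node (.leaf 93) (.leaf 63))) (.node (.node (.leaf 6) (.leaf 214)) (.node (.leaf 61) (.leaf 169)))) (.node (.node (.node (.leaf 20) (.leaf 180)) (.node (.leaf 128) (.leaf 231))) (.node (.node (.leaf 86) (.leaf 83)) (.node (.leaf 24) (.leaf 184))))) (.node (.node (.node (.node (.node (.leaf 23) (.leaf 160)) (.leaf 31)) (.node (.leaf 71) (.leaf 129))) (.node (.node (.leaf 77) (.leaf 224)) (.node (.leaf 143) (.leaf 223)))) (.node (.node (.node (.leaf 50) (.leaf 206)) (.node (.leaf 140) (.leaf 256))) (.node (.node (.leaf 98) (.leaf 133)) (.node (.leaf 55) (.leaf 217))))))) (.node (.node (.node (.node (.node (.node (.node (.leaf 5) (.leaf 216)) (.leaf 29)) (.node (.leaf 107) (.leaf 238))) (.node (.node (.leaf 60) (.leaf 211)) (.node (.leaf 18) (.leaf 255)))) (.node (.node (.node (.node (.leaf 34) (.leaf 274)) (.leaf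 194)) (.node (.leaf 49) (.leaf 248))) (.node (.node (.leaf 8) (.leaf 125)) (.node (.leaf 41) (.leaf 250))))) (.node (.node (.node (.node (.node (.leaf 19) (.leaf 241)) (.leaf 187)) (.node (.leaf 116) (.leaf 239))) (.node (.node (.leaf 74) (.leaf 220)) (.node (.leaf 35) (.leaf 234)))) (.node (.node (.node (.leaf 46) (.leaf 205)) (.node (.leaf 136) (.leaf 75))) (.node (.node (.leaf 27) (.leaf 168)) (.node (.leaf 175) (.leaf 243)))))) (.node (.node (.node (.node (.node (.node (.leaf 10) (.leaf 252)) (.leaf 39)) (.node (.leaf 12) (.leaf 208))) (.node (.node (.leaf 67) (.leaf 111)) (.node (.leaf 37) (.leaf 262)))) (.node (.node (.node (.leaf 38) (.leaf 105)) (.node (.leaf 130) (.leaf 251))) (.node (.node (.leaf 88) (.leaf 87)) (.node (.leaf 122) (.leaf 149))))) (.node (.node (.node (.node (.node (.leaf 26) (.leaf 173)) (.leaf 192)) (.node (.leaf 121) (.leaf 156))) (.node (.node (.leaf 80) (.leaf 174)) (.node (.leaf 159) (.leaf 95)))) (.node (.node (.node (.leaf 54) (.leaf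 164)) (.node (.leaf 144) (.leaf 145))) (.node (.node (.leaf 99) (.leaf 78)) (.node (.leaf 179) (.leaf 267)))))))) (.node (.node (.node (.node (.node (.node (.node (.node (.leaf 3) (.leaf 264)) (.leaf 101)) (.node (.leaf 85) (.leaf 57))) (.node (.node (.leaf 58) (.leaf 115)) (.node (.leaf 150) (.leaf 259)))) (.node (.node (.node (.node (.leaf 32) (.leaf 265)) (.leaf 195)) (.node (.leaf 126) (.leaf 197))) (.node (.node (.leaf 82) (.leaf 51)) (.node (.leaf 163) (.leaf 266))))) (.node (.node (.node (.node (.node (.leaf 17) (.leaf 273)) (.leaf 186)) (.node (.leaf 114) (.leaf 137))) (.node (.node (.leaf 72) (.leaf 219)) (.node (.leaf 157) (.leaf 263)))) (.node (.node (.node (.leaf 44) (.leaf 204)) (.node (.leaf 134) (.leaf 230))) (.node (.node (.leaf 94) (.leaf 118)) (.node (.leaf 141) (.leaf 240)))))) (.node (.node (.node (.node (.node (.node (.leaf 11) (.leaf 229)) (.leaf 183)) (.node (.leaf 89) (.leaf 110))) (.node (.node (.leaf 65) (.leaf 215)) (.node (.leaf 153) (.leaf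 261)))) (.node (.node (.node (.leaf 2) (.leaf 198)) (.node (.leaf 102) (.leaf 221))) (.node (.node (.leaf 66) (.leaf 182)) (.node (.leaf 167) (.leaf 245))))) (.node (.node (.node (.node (.node (.leaf 25) (.leaf 258)) (.leaf 190)) (.node (.leaf 13) (.leaf 199))) (.node (.node (.leaf 79) (.leaf 226)) (.node (.leaf 22) (.leaf 108)))) (.node (.node (.node (.leaf 52) (.leaf 97)) (.node (.leaf 142) (.leaf 257))) (.node (.node (.leaf 100) (.leaf 236)) (.node (.leaf 178) (.leaf 269))))))) (.node (.node (.node (.node (.node (.node (.node (.leaf 7) (.leaf 260)) (.leaf 81)) (.node (.leaf 109) (.leaf 171))) (.node (.node (.leaf 62) (.leaf 113)) (.node (.leaf 106) (.leaf 228)))) (.node (.node (.node (.leaf 36) (.leaf 196)) (.node (.leaf 96) (.leaf 212))) (.node (.node (.leaf 84) (.leaf 131)) (.node (.leaf 166) (.leaf 247))))) (.node (.node (.node (.node (.node (.leaf 21) (.leaf 254)) (.leaf 188)) (.node (.leaf 117) (.leaf 152))) (.node (.node (.leaf 76) (.leaf 222)) (.node (.leaf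 135) (.leaf 91)))) (.node (.node (.node (.leaf 48) (.leaf 155)) (.node (.leaf 138) (.leaf 227))) (.node (.node (.leaf 47) (.leaf 235)) (.node (.leaf 176) (.leaf 158)))))) (.node (.node (.node (.node (.node (.node (.leaf 0) (.leaf 244)) (.leaf 53)) (.node (.leaf 112) (.leaf 127))) (.node (.node (.leaf 69) (.leaf 218)) (.node (.leaf 147) (.leaf 162)))) (.node (.node (.node (.leaf 40) (.leaf 200)) (.node (.leaf 132) (.leaf 165))) (.node (.node (.leaf 90) (.leaf 139)) (.node (.leaf 170) (.leaf 242))))) (.node (.node (.node (.node (.node (.leaf 28) (.leaf 225)) (.leaf 191)) (.node (.leaf 123) (.leaf 189))) (.node (.node (.leaf 59) (.leaf 185)) (.node (.leaf 161) (.leaf 203)))) (.node (.node (.node (.leaf 56) (.leaf 209)) (.node (.leaf 146) (.leaf 207))) (.node (.node (.leaf 103) (.leaf 237)) (.node (.leaf 154) (.leaf 270))))))))) (.node (.node (.node (.node (.node (.node (.node (.node (.node (.leaf 2) (.leaf 268)) (.leaf 44)) (.node (.leaf 105) (.leaf 112))) (.node (.node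 (.leaf 57) (.leaf 38)) (.node (.leaf 149) (.leaf 258)))) (.node (.node (.node (.node (.leaf 31) (.leaf 204)) (.leaf 194)) (.node (.leaf 125) (.leaf 247))) (.node (.node (.leaf 81) (.leaf 176)) (.node (.leaf 94) (.leaf 196))))) (.node (.node (.node (.node (.node (.leaf 16) (.leaf 273)) (.leaf 150)) (.node (.leaf 113) (.leaf 241))) (.node (.node (.leaf 71) (.leaf 79)) (.node (.leaf 156) (.leaf 146)))) (.node (.node (.node (.leaf 43) (.leaf 203)) (.node (.leaf 133) (.leaf 161))) (.node (.node (.leaf 93) (.leaf 234)) (.node (.leaf 173) (.leaf 209)))))) (.node (.node (.node (.node (.node (.node (.leaf 10) (.leaf 238)) (.leaf 182)) (.node (.leaf 110) (.leaf 240))) (.node (.node (.leaf 64) (.leaf 198)) (.node (.leaf 100) (.leaf 253)))) (.node (.node (.node (.leaf 1) (.leaf 197)) (.node (.leaf 129) (.leaf 70))) (.node (.node (.leaf 11) (.leaf 230)) (.node (.leaf 167) (.leaf 210))))) (.node (.node (.node (.node (.node (.leaf 24) (.leaf 274)) (.leaf 189)) (.node (.leaf 119) (.leaf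 243))) (.node (.node (.leaf 78) (.leaf 225)) (.node (.leaf 19) (.leaf 121)))) (.node (.node (.node (.leaf 51) (.leaf 207)) (.node (.leaf 141) (.leaf 140))) (.node (.node (.leaf 99) (.leaf 183)) (.node (.leaf 117) (.leaf 148))))))) (.node (.node (.node (.node (.node (.node (.node (.leaf 6) (.leaf 224)) (.leaf 28)) (.node (.leaf 108) (.leaf 239))) (.node (.node (.leaf 61) (.leaf 212)) (.node (.leaf 151) (.leaf 226)))) (.node (.node (.node (.node (.leaf 35) (.leaf 271)) (.leaf 188)) (.node (.leaf 127) (.leaf 249))) (.node (.node (.leaf 83) (.leaf 229)) (.node (.leaf 165) (.leaf 98))))) (.node (.node (.node (.node (.node (.leaf 20) (.leaf 269)) (.leaf 178)) (.node (.leaf 74) (.leaf 144))) (.node (.node (.leaf 75) (.leaf 221)) (.node (.leaf 88) (.leaf 186)))) (.node (.node (.node (.leaf 47) (.leaf 157)) (.node (.leaf 137) (.leaf 218))) (.node (.node (.leaf 96) (.leaf 134)) (.node (.leaf 128) (.leaf 126)))))) (.node (.node (.node (.node (.node (.node (.leaf 13) (.leaf 266))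 (.leaf 184)) (.node (.leaf 111) (.leaf 72))) (.node (.node (.leaf 68) (.leaf 217)) (.node (.leaf 154) (.leaf 86)))) (.node (.node (.node (.leaf 39) (.leaf 199)) (.node (.leaf 131) (.leaf 252))) (.node (.node (.leaf 89) (.leaf 132)) (.node (.leaf 169) (.leaf 262))))) (.node (.node (.node (.node (.node (.leaf 27) (.leaf 270)) (.leaf 109)) (.node (.leaf 122) (.leaf 245))) (.node (.node (.leaf 36) (.leaf 215)) (.node (.leaf 160) (.leaf 172)))) (.node (.node (.node (.leaf 55) (.leaf 208)) (.node (.leaf 145) (.leaf 159))) (.node (.node (.leaf 102) (.leaf 104)) (.node (.leaf 179) (.leaf 251)))))))) (.node (.node (.node (.node (.node (.node (.node (.node (.leaf 4) (.leaf 138)) (.leaf 84)) (.node (.leaf 106) (.leaf 56))) (.node (.node (.leaf 59) (.leaf 114)) (.node (.leaf 17) (.leaf 260)))) (.node (.node (.node (.node (.leaf 33) (.leaf 259)) (.leaf 192)) (.node (.leaf 50) (.leaf 248))) (.node (.node (.leaf 7) (.leaf 228)) (.node (.leaf 164) (.leaf 267))))) (.node (.node (.node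 (.node (.node (.leaf 18) (.leaf 163)) (.leaf 90)) (.node (.leaf 115) (.leaf 242))) (.node (.node (.leaf 73) (.leaf 42)) (.node (.leaf 46) (.leaf 264)))) (.node (.node (.node (.leaf 45) (.leaf 77)) (.node (.leaf 135) (.leaf 254))) (.node (.node (.leaf 95) (.leaf 54)) (.node (.leaf 174) (.leaf 205)))))) (.node (.node (.node (.node (.node (.node (.leaf 12) (.leaf 200)) (.leaf 65)) (.node (.leaf 34) (.leaf 214))) (.node (.node (.leaf 66) (.leaf 216)) (.node (.leaf 69) (.leaf 257)))) (.node (.node (.node (.leaf 21) (.leaf 195)) (.node (.leaf 130) (.leaf 235))) (.node (.node (.leaf 87) (.leaf 231)) (.node (.leaf 168) (.leaf 206))))) (.node (.node (.node (.node (.node (.leaf 0) (.leaf 246)) (.leaf 191)) (.node (.leaf 120) (.leaf 244))) (.node (.node (.leaf 25) (.leaf 153)) (.node (.leaf 142) (.leaf 220)))) (.node (.node (.node (.leaf 53) (.leaf 62)) (.node (.leaf 143) (.leaf 82))) (.node (.node (.leaf 101) (.leaf 237)) (.node (.leaf 26) (.leaf 123))))))) (.node (.node (.node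 (.node (.node (.node (.node (.leaf 8) (.leaf 233)) (.leaf 180)) (.node (.leaf 92) (.leaf 58))) (.node (.node (.leaf 63) (.leaf 213)) (.node (.leaf 152) (.leaf 175)))) (.node (.node (.node (.leaf 37) (.leaf 32)) (.node (.leaf 48) (.leaf 250))) (.node (.node (.leaf 85) (.leaf 211)) (.node (.leaf 23) (.leaf 263))))) (.node (.node (.node (.node (.node (.leaf 22) (.leaf 261)) (.leaf 30)) (.node (.leaf 118) (.leaf 60))) (.node (.node (.leaf 5) (.leaf 223)) (.node (.leaf 158) (.leaf 265)))) (.node (.node (.node (.leaf 49) (.leaf 103)) (.node (.leaf 139) (.leaf 255))) (.node (.node (.leaf 97) (.leaf 136)) (.node (.leaf 177) (.leaf 166)))))) (.node (.node (.node (.node (.node (.node (.leaf 14) (.leaf 272)) (.leaf 185)) (.node (.leaf 40) (.leaf 187))) (.node (.node (.leaf 52) (.leaf 116)) (.node (.leaf 155) (.leaf 222)))) (.node (.node (.node (.leaf 41) (.leaf 201)) (.node (.leaf 15) (.leaf 236))) (.node (.node (.leaf 91) (.leaf 232)) (.node (.leaf 171) (.leaf 107))))) (.node (.node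 (.node (.node (.node (.leaf 29) (.leaf 256)) (.leaf 193)) (.node (.leaf 124) (.leaf 190))) (.node (.node (.leaf 80) (.leaf 227)) (.node (.leaf 162) (.leaf 202)))) (.node (.node (.node (.leaf 3) (.leaf 181)) (.node (.leaf 147) (.leaf 76))) (.node (.node (.leaf 9) (.leaf 67)) (.node (.leaf 170) (.leaf 219)))))))))

/-- data -/
def prev0 : Trie (ℕ) := .node (.node (.node (.node (.node (.node (.node (.node (.node (.node (.leaf 7) (.leaf 220)) (.leaf 84)) (.node (.leaf 104) (.leaf 142))) (.node (.node (.leaf 17) (.leaf 268)) (.node (.leaf 83) (.leaf 172)))) (.node (.node (.node (.node (.leaf 88) (.leaf 272)) (.leaf 94)) (.node (.leaf 46) (.leaf 198))) (.node (.node (.leaf 27) (.leaf 123)) (.node (.leaf 71) (.leaf 249))))) (.node (.node (.node (.node (.node (.leaf 50) (.leaf 257)) (.leaf 90)) (.node (.leaf 41) (.leaf 151))) (.node (.node (.leaf 23) (.leaf 186)) (.node (.leaf 64) (.leaf 224)))) (.node (.node (.node (.leaf 116) (.leaf 203)) (.node (.leaf 54) (.leaf 258))) (.node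 (.node (.leaf 31) (.leaf 244)) (.node (.leaf 232) (.leaf 210)))))) (.node (.node (.node (.node (.node (.node (.leaf 32) (.leaf 259)) (.leaf 87)) (.node (.leaf 192) (.leaf 147))) (.node (.node (.leaf 19) (.leaf 158)) (.node (.leaf 61) (.leaf 227)))) (.node (.node (.node (.leaf 20) (.leaf 96)) (.node (.leaf 51) (.leaf 211))) (.node (.node (.leaf 29) (.leaf 148)) (.node (.leaf 74) (.leaf 263))))) (.node (.node (.node (.node (.node (.leaf 70) (.leaf 248)) (.leaf 92)) (.node (.leaf 43) (.leaf 153))) (.node (.node (.leaf 25) (.leaf 120)) (.node (.leaf 237) (.leaf 189)))) (.node (.node (.node (.leaf 15) (.leaf 206)) (.node (.leaf 56) (.leaf 170))) (.node (.node (.leaf 34) (.leaf 139)) (.node (.leaf 136) (.leaf 262))))))) (.node (.node (.node (.node (.node (.node (.node (.leaf 21) (.leaf 269)) (.leaf 86)) (.node (.leaf 53) (.leaf 146))) (.node (.node (.leaf 18) (.leaf 231)) (.node (.leaf 60) (.leaf 173)))) (.node (.node (.node (.node (.leaf 98) (.leaf 274)) (.leaf 95)) (.node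 (.leaf 49) (.leaf 160))) (.node (.node (.leaf 28) (.leaf 125)) (.node (.leaf 73) (.leaf 247))))) (.node (.node (.node (.node (.node (.leaf 6) (.leaf 241)) (.leaf 91)) (.node (.leaf 42) (.leaf 152))) (.node (.node (.leaf 24) (.leaf 119)) (.node (.leaf 99) (.leaf 234)))) (.node (.node (.node (.leaf 14) (.leaf 127)) (.node (.leaf 55) (.leaf 167))) (.node (.node (.leaf 33) (.leaf 137)) (.node (.leaf 118) (.leaf 242)))))) (.node (.node (.node (.node (.node (.node (.leaf 36) (.leaf 230)) (.leaf 89)) (.node (.leaf 40) (.leaf 149))) (.node (.node (.leaf 22) (.leaf 115)) (.node (.leaf 85) (.leaf 217)))) (.node (.node (.node (.leaf 109) (.leaf 97)) (.node (.leaf 52) (.leaf 164))) (.node (.node (.leaf 30) (.leaf 181)) (.node (.leaf 185) (.leaf 208))))) (.node (.node (.node (.node (.node (.leaf 80) (.leaf 255)) (.leaf 93)) (.node (.leaf 190) (.leaf 156))) (.node (.node (.leaf 26) (.leaf 174)) (.node (.leaf 197) (.leaf 194)))) (.node (.node (.node (.leaf 16) (.leaf 251)) (.node (.leaf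 57) (.leaf 171))) (.node (.node (.leaf 35) (.leaf 141)) (.node (.leaf 81) (.leaf 267)))))))) (.node (.node (.node (.node (.node (.node (.node (.node (.leaf 0) (.leaf 221)) (.leaf 204)) (.node (.leaf 37) (.leaf 144))) (.node (.node (.leaf 48) (.leaf 111)) (.node (.leaf 157) (.leaf 271)))) (.node (.node (.node (.node (.leaf 9) (.leaf 265)) (.leaf 222)) (.node (.leaf 131) (.leaf 159))) (.node (.node (.leaf 82) (.leaf 128)) (.node (.leaf 163) (.leaf 266))))) (.node (.node (.node (.node (.node (.leaf 4) (.leaf 273)) (.leaf 201)) (.node (.leaf 72) (.leaf 168))) (.node (.node (.leaf 114) (.leaf 228)) (.node (.leaf 150) (.leaf 184)))) (.node (.node (.node (.leaf 13) (.leaf 101)) (.node (.leaf 69) (.leaf 252))) (.node (.node (.leaf 193) (.leaf 175)) (.node (.leaf 78) (.leaf 240)))))) (.node (.node (.node (.node (.node (.node (.leaf 2) (.leaf 229)) (.leaf 188)) (.node (.leaf 39) (.leaf 209))) (.node (.node (.leaf 102) (.leaf 215)) (.node (.leaf 129) (.leaf 261)))) (.node (.node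 (.node (.leaf 11) (.leaf 246)) (.node (.leaf 65) (.leaf 264))) (.node (.node (.leaf 135) (.leaf 132)) (.node (.leaf 75) (.leaf 245))))) (.node (.node (.node (.node (.node (.leaf 77) (.leaf 253)) (.leaf 121)) (.node (.leaf 44) (.leaf 154))) (.node (.node (.leaf 176) (.leaf 270)) (.node (.leaf 67) (.leaf 191)))) (.node (.node (.node (.leaf 130) (.leaf 105)) (.node (.leaf 68) (.leaf 213))) (.node (.node (.leaf 100) (.leaf 207)) (.node (.leaf 178) (.leaf 216))))))) (.node (.node (.node (.node (.node (.node (.node (.leaf 1) (.leaf 225)) (.leaf 179)) (.node (.leaf 38) (.leaf 145))) (.node (.node (.leaf 106) (.leaf 113)) (.node (.leaf 62) (.leaf 219)))) (.node (.node (.node (.leaf 10) (.leaf 103)) (.node (.leaf 180) (.leaf 162))) (.node (.node (.leaf 177) (.leaf 126)) (.node (.leaf 161) (.leaf 250))))) (.node (.node (.node (.node (.node (.leaf 5) (.leaf 254)) (.leaf 183)) (.node (.leaf 218) (.leaf 239))) (.node (.node (.leaf 112) (.leaf 195)) (.node (.leaf 66) (.leaf 187))))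 (.node (.node (.node (.leaf 58) (.leaf 155)) (.node (.leaf 235) (.leaf 169))) (.node (.node (.leaf 47) (.leaf 138)) (.node (.leaf 79) (.leaf 214)))))) (.node (.node (.node (.node (.node (.node (.leaf 3) (.leaf 233)) (.leaf 107)) (.node (.leaf 76) (.leaf 205))) (.node (.node (.leaf 134) (.leaf 117)) (.node (.leaf 63) (.leaf 212)))) (.node (.node (.node (.leaf 12) (.leaf 200)) (.node (.leaf 182) (.leaf 165))) (.node (.node (.leaf 124) (.leaf 133)) (.node (.leaf 256) (.leaf 243))))) (.node (.node (.node (.node (.node (.leaf 8) (.leaf 260)) (.leaf 108)) (.node (.leaf 45) (.leaf 223))) (.node (.node (.leaf 59) (.leaf 122)) (.node (.leaf 166) (.leaf 202)))) (.node (.node (.node (.leaf 140) (.leaf 110)) (.node (.leaf 238) (.leaf 236))) (.node (.node (.leaf 196) (.leaf 143)) (.node (.leaf 199) (.leaf 226))))))))) (.node (.node (.node (.node (.node (.node (.node (.node (.node (.leaf 13) (.leaf 271)) (.leaf 122)) (.node (.leaf 36) (.leaf 145))) (.node (.node (.leaf 147) (.leaf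 110)) (.node (.leaf 58) (.leaf 258)))) (.node (.node (.node (.node (.leaf 8) (.leaf 263)) (.leaf 202)) (.node (.leaf 47) (.leaf 158))) (.node (.node (.leaf 83) (.leaf 176)) (.node (.leaf 192) (.leaf 196))))) (.node (.node (.node (.node (.node (.leaf 3) (.leaf 233)) (.leaf 187)) (.node (.leaf 198) (.leaf 261))) (.node (.node (.leaf 71) (.leaf 117)) (.node (.leaf 190) (.leaf 183)))) (.node (.node (.node (.leaf 12) (.leaf 99)) (.node (.leaf 106) (.leaf 165))) (.node (.node (.leaf 193) (.leaf 134)) (.node (.leaf 77) (.leaf 209)))))) (.node (.node (.node (.node (.node (.node (.leaf 1) (.leaf 225)) (.leaf 182)) (.node (.leaf 38) (.leaf 240))) (.node (.node (.leaf 46) (.leaf 113)) (.node (.leaf 100) (.leaf 177)))) (.node (.node (.node (.leaf 10) (.leaf 252)) (.node (.leaf 129) (.leaf 162))) (.node (.node (.leaf 39) (.leaf 131)) (.node (.leaf 167) (.leaf 205))))) (.node (.node (.node (.node (.node (.leaf 5) (.leaf 256)) (.leaf 220)) (.node (.leaf 223) (.leaf 272))) (.node (.node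 (.leaf 128) (.leaf 238)) (.node (.leaf 66) (.leaf 215)))) (.node (.node (.node (.leaf 130) (.leaf 104)) (.node (.leaf 67) (.leaf 237))) (.node (.node (.leaf 203) (.leaf 146)) (.node (.leaf 79) (.leaf 214))))))) (.node (.node (.node (.node (.node (.node (.node (.leaf 0) (.leaf 224)) (.leaf 85)) (.node (.leaf 37) (.leaf 144))) (.node (.node (.leaf 69) (.leaf 111)) (.node (.leaf 242) (.leaf 226)))) (.node (.node (.node (.node (.leaf 9) (.leaf 268)) (.leaf 232)) (.node (.leaf 221) (.leaf 244))) (.node (.node (.leaf 81) (.leaf 138)) (.node (.leaf 161) (.leaf 201))))) (.node (.node (.node (.node (.node (.leaf 4) (.leaf 262)) (.leaf 257)) (.node (.leaf 74) (.leaf 239))) (.node (.node (.leaf 169) (.leaf 127)) (.node (.leaf 65) (.leaf 184)))) (.node (.node (.node (.leaf 125) (.leaf 102)) (.node (.leaf 137) (.leaf 218))) (.node (.node (.leaf 195) (.leaf 234)) (.node (.leaf 78) (.leaf 211)))))) (.node (.node (.node (.node (.node (.node (.leaf 2) (.leaf 246)) (.leaf 186)) (.node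 (.leaf 212) (.leaf 164))) (.node (.node (.leaf 160) (.leaf 251)) (.node (.leaf 62) (.leaf 180)))) (.node (.node (.node (.leaf 11) (.leaf 136)) (.node (.leaf 230) (.leaf 197))) (.node (.node (.leaf 185) (.leaf 132)) (.node (.leaf 75) (.leaf 269))))) (.node (.node (.node (.node (.node (.leaf 7) (.leaf 270)) (.leaf 109)) (.node (.leaf 44) (.leaf 245))) (.node (.node (.leaf 105) (.leaf 121)) (.node (.leaf 68) (.leaf 260)))) (.node (.node (.node (.leaf 139) (.leaf 107)) (.node (.leaf 112) (.leaf 231))) (.node (.node (.leaf 157) (.leaf 207)) (.node (.leaf 250) (.leaf 217)))))))) (.node (.node (.node (.node (.node (.node (.node (.node (.leaf 20) (.leaf 229)) (.leaf 84)) (.node (.leaf 133) (.leaf 143))) (.node (.node (.leaf 17) (.leaf 216)) (.node (.leaf 59) (.leaf 172)))) (.node (.node (.node (.node (.leaf 97) (.leaf 264)) (.leaf 94)) (.node (.leaf 48) (.leaf 248))) (.node (.node (.leaf 27) (.leaf 123)) (.node (.leaf 72) (.leaf 200))))) (.node (.node (.node (.node (.node (.leaf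 63) (.leaf 235)) (.leaf 90)) (.node (.leaf 41) (.leaf 151))) (.node (.node (.leaf 23) (.leaf 118)) (.node (.leaf 64) (.leaf 259)))) (.node (.node (.node (.leaf 45) (.leaf 173)) (.node (.leaf 54) (.leaf 166))) (.node (.node (.leaf 32) (.leaf 135)) (.node (.leaf 236) (.leaf 210)))))) (.node (.node (.node (.node (.node (.node (.leaf 43) (.leaf 267)) (.leaf 88)) (.node (.leaf 101) (.leaf 148))) (.node (.node (.leaf 19) (.leaf 114)) (.node (.leaf 61) (.leaf 178)))) (.node (.node (.node (.leaf 21) (.leaf 96)) (.node (.leaf 51) (.leaf 163))) (.node (.node (.leaf 29) (.leaf 159)) (.node (.leaf 124) (.leaf 206))))) (.node (.node (.node (.node (.node (.leaf 6) (.leaf 266)) (.leaf 92)) (.node (.leaf 153) (.leaf 249))) (.node (.node (.leaf 25) (.leaf 120)) (.node (.leaf 142) (.leaf 189)))) (.node (.node (.node (.leaf 15) (.leaf 154)) (.node (.leaf 56) (.leaf 170))) (.node (.node (.leaf 34) (.leaf 140)) (.node (.leaf 80) (.leaf 228))))))) (.node (.node (.node (.node (.node (.node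 (.node (.leaf 31) (.leaf 273)) (.leaf 86)) (.node (.leaf 191) (.leaf 149))) (.node (.node (.leaf 18) (.leaf 265)) (.node (.leaf 60) (.leaf 175)))) (.node (.node (.node (.leaf 108) (.leaf 95)) (.node (.leaf 50) (.leaf 179))) (.node (.node (.leaf 28) (.leaf 126)) (.node (.leaf 73) (.leaf 204))))) (.node (.node (.node (.node (.node (.leaf 52) (.leaf 241)) (.leaf 91)) (.node (.leaf 42) (.leaf 152))) (.node (.node (.leaf 24) (.leaf 119)) (.node (.leaf 247) (.leaf 213)))) (.node (.node (.node (.leaf 14) (.leaf 103)) (.node (.leaf 55) (.leaf 255))) (.node (.node (.leaf 33) (.leaf 199)) (.node (.leaf 253) (.leaf 254)))))) (.node (.node (.node (.node (.node (.node (.leaf 49) (.leaf 243)) (.leaf 89)) (.node (.leaf 40) (.leaf 150))) (.node (.node (.leaf 22) (.leaf 116)) (.node (.leaf 155) (.leaf 181)))) (.node (.node (.node (.leaf 115) (.leaf 98)) (.node (.leaf 53) (.leaf 174))) (.node (.node (.leaf 30) (.leaf 188)) (.node (.leaf 76) (.leaf 208))))) (.node (.node (.node (.node (.node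 (.leaf 87) (.leaf 274)) (.leaf 93)) (.node (.leaf 168) (.leaf 156))) (.node (.node (.leaf 26) (.leaf 227)) (.node (.leaf 70) (.leaf 194)))) (.node (.node (.node (.leaf 16) (.leaf 222)) (.node (.leaf 57) (.leaf 171))) (.node (.node (.leaf 35) (.leaf 141)) (.node (.leaf 82) (.leaf 219)))))))))

/-- data -/
def lab0 : Trie (Word) := .node (.node (.node (.node (.node (.node (.node (.node (.node (.node (.leaf ([])) (.leaf ([]))) (.leaf ([(1, true), (0, true), (1, true), (0, true), (0, true), (1, false), (0, true), (1, true), (1, true), (0, false), (1, false), (0, false), (1, true), (0, false), (1, true)]))) (.node (.leaf ([])) (.leaf ([(0, true), (0, true), (1, true), (0, false), (0, false), (1, true), (0, false), (1, false), (0, true), (1, true), (0, true), (1, true), (1, true), (0, true)])))) (.node (.node (.leaf ([])) (.leaf ([]))) (.node (.leaf ([])) (.leaf ([(1, false), (0, false), (1, true), (0, true), (0, true), (1, false), (0, true), (1, true), (0, true), (1, false),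 (0, true), (1, true), (1, true), (0, false), (1, true), (0, true)]))))) (.node (.node (.node (.node (.leaf ([])) (.leaf ([(0, true), (1, true), (0, true), (0, true), (1, true), (0, true), (1, true), (0, false), (1, false), (0, false), (1, true), (0, true), (1, true), (0, false)]))) (.leaf ([(1, false), (0, true), (0, true), (1, false), (0, false), (1, false), (0, false), (1, true), (0, false), (1, true), (0, false), (1, true), (1, true), (0, false), (1, true), (0, true), (0, true)]))) (.node (.leaf ([])) (.leaf ([])))) (.node (.node (.leaf ([(1, true), (1, true)])) (.leaf ([]))) (.node (.leaf ([(1, false), (0, true), (0, true), (1, true), (0, true), (0, true), (1, true), (0, false), (1, false), (0, true), (1, true), (0, true), (0, true), (1, true), (1, true)])) (.leaf ([(0, false), (1, true), (1, true), (0, true), (0, true), (1, false), (0, true), (1, true), (0, true), (1, false), (0, true), (1, false), (0, false), (1, false), (0, false)])))))) (.node (.node (.node (.node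 (.node (.leaf ([])) (.leaf ([(1, false), (0, true), (1, true), (0, true), (1, true), (0, false), (1, true), (0, true), (1, true), (1, true), (0, true), (1, false), (0, false), (1, true), (1, true)]))) (.leaf ([(1, false), (0, true), (1, false), (0, true), (1, true), (0, true), (1, true), (0, false), (0, false), (1, true), (0, false), (0, false), (1, false), (0, true), (0, true)]))) (.node (.leaf ([(0, true), (1, true), (1, true), (0, true), (0, true), (1, true), (0, false), (0, false), (1, false), (0, true), (1, false), (0, false), (1, false), (0, true), (0, true), (1, true)])) (.leaf ([(0, true), (1, false), (0, true), (1, true), (1, true), (0, false), (1, true), (0, false)])))) (.node (.node (.leaf ([])) (.leaf ([(1, true), (0, true), (1, true), (0, true), (1, false), (0, false), (1, true), (0, true), (0, true), (1, true), (1, true), (0, false), (0, false), (1, false), (0, true)]))) (.node (.leaf ([(1, true), (1, true)])) (.leaf ([(0, false), (1, false), (0, true),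 (1, true), (1, true), (0, false), (1, true), (0, false), (1, false), (0, false), (1, true), (0, false), (0, false), (1, false), (0, true), (1, true)]))))) (.node (.node (.node (.leaf ([])) (.leaf ([]))) (.node (.leaf ([])) (.leaf ([])))) (.node (.node (.leaf ([])) (.leaf ([]))) (.node (.leaf ([])) (.leaf ([]))))))) (.node (.node (.node (.node (.node (.node (.leaf ([])) (.leaf ([]))) (.leaf ([]))) (.node (.leaf ([(0, false), (1, true), (1, true), (0, false), (1, false), (0, false), (1, true), (0, true), (1, false), (0, true), (0, true), (1, false), (0, false), (0, false)])) (.leaf ([(1, false), (0, true), (1, true), (0, true), (1, false), (0, true), (1, false), (0, false), (1, false), (0, false), (1, true), (0, true), (1, false), (0, true), (0, true)])))) (.node (.node (.leaf ([(1, true), (1, true), (0, false), (0, false), (1, true), (0, true), (1, true), (0, true), (1, false), (0, true), (1, true), (0, false), (0, false), (1, false), (0, false)])) (.leaf ([]))) (.node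 (.leaf ([(0, true), (1, false), (0, true), (1, true), (1, true), (0, false), (1, true), (0, false)])) (.leaf ([(0, true), (0, true), (1, false), (0, true), (1, false), (0, true), (1, false), (0, false), (1, false), (0, true), (1, false), (0, true), (1, true), (1, true), (0, false), (0, false)]))))) (.node (.node (.node (.leaf ([(1, true)])) (.leaf ([(0, false), (0, false), (1, false), (0, false), (0, false), (1, true), (0, true), (1, false), (0, true), (1, false), (0, true), (1, false), (0, true), (1, true)]))) (.node (.leaf ([])) (.leaf ([(0, true), (1, true), (0, true), (0, true), (1, false), (0, false), (1, true), (1, true), (0, true), (0, true), (1, true), (0, true), (1, true)])))) (.node (.node (.leaf ([])) (.leaf ([(0, true), (0, true), (1, false), (0, true), (0, true), (1, true), (0, false), (0, false), (1, true), (0, true), (0, true), (1, false), (0, true)]))) (.node (.leaf ([])) (.leaf ([(1, true), (1, true), (0, false), (1, false), (0, true), (1, true), (0,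 false), (0, false), (1, false), (0, false), (1, true), (0, false), (1, true), (0, false), (1, true), (0, false)])))))) (.node (.node (.node (.node (.node (.leaf ([])) (.leaf ([(0, false), (1, true), (0, true), (0, true), (1, true), (0, true), (1, true), (0, false), (1, true), (1, true), (0, true), (0, true), (1, true), (0, true), (1, true), (0, false), (1, true), (0, true)]))) (.leaf ([]))) (.node (.leaf ([(1, true), (1, true), (0, false), (0, false), (1, false), (0, false), (1, true), (0, true), (1, false), (0, false), (0, false), (1, false), (0, false), (0, false), (1, true)])) (.leaf ([(0, true), (0, true), (1, false), (0, true), (0, true), (1, true), (0, false), (0, false), (1, false), (0, true), (1, false), (0, true), (0, true), (1, true), (0, true), (0, true), (1, true)])))) (.node (.node (.leaf ([])) (.leaf ([]))) (.node (.leaf ([(0, false), (0, false), (1, false), (0, true), (1, true), (0, true), (1, true), (0, true), (1, true), (1, true), (0, false), (1, true),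 (0, false)])) (.leaf ([(0, false), (0, false), (1, false), (0, true), (1, true), (1, true), (0, true), (0, true), (1, true), (0, false), (0, false), (1, false), (0, true), (1, true), (0, true), (1, false)]))))) (.node (.node (.node (.leaf ([])) (.leaf ([]))) (.node (.leaf ([])) (.leaf ([])))) (.node (.node (.leaf ([])) (.leaf ([(1, true), (0, true), (1, false), (0, true), (1, false), (0, false), (1, false), (0, true), (1, true), (0, false), (1, false), (0, false), (1, true), (1, true)]))) (.node (.leaf ([(0, false), (0, false), (1, true), (0, true), (0, true), (1, false), (0, true), (0, true), (1, false), (0, false), (1, false), (0, false), (1, true), (0, false), (1, true)])) (.leaf ([(1, false), (0, false), (0, false), (1, true), (0, true), (1, false), (0, true), (1, true), (1, true), (0, false), (0, false), (1, false), (0, false), (1, false)])))))))) (.node (.node (.node (.node (.node (.node (.node (.leaf ([])) (.leaf ([(1, false), (0, true), (0, true), (1, true), (0,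 true), (1, true), (0, false), (1, true), (0, false), (0, false), (1, true), (1, true), (0, true)]))) (.leaf ([(0, true), (1, true), (0, true), (1, true), (1, true), (0, false), (1, true), (0, false), (1, false), (0, true), (0, true), (1, true), (0, true), (1, true), (0, false), (0, false)]))) (.node (.leaf ([])) (.leaf ([])))) (.node (.node (.leaf ([])) (.leaf ([]))) (.node (.leaf ([])) (.leaf ([(0, true), (1, true), (0, true), (1, false), (0, false), (1, true), (0, true), (1, false), (0, false), (1, true), (0, true), (1, true), (0, false), (1, false)]))))) (.node (.node (.node (.node (.leaf ([])) (.leaf ([(0, true), (1, true), (1, true), (0, true), (0, true), (1, true), (1, true), (0, false), (0, false), (1, true), (0, false), (1, true), (0, false), (1, true), (0, false)]))) (.leaf ([(1, false), (0, true), (1, true), (0, true), (1, false), (0, true), (1, false), (0, false), (1, false), (0, false), (1, true), (0, true), (1, false), (0, true), (0, true)]))) (.node (.leaf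 ([(1, true), (1, true)])) (.leaf ([(0, false), (1, true), (0, true), (0, true), (1, true), (0, true), (1, true), (0, false), (1, true), (1, true), (0, true), (0, true), (1, true), (0, true), (1, true), (0, false), (1, true), (0, true)])))) (.node (.node (.leaf ([])) (.leaf ([(0, true), (1, true), (1, true), (0, false)]))) (.node (.leaf ([(1, false), (0, false), (0, false), (1, true), (0, true), (1, true), (0, false), (1, true), (0, true), (0, true), (1, false), (0, false), (0, false), (1, true), (1, true), (0, false)])) (.leaf ([(0, false), (1, true), (0, true), (0, true), (1, true), (1, true), (0, true), (1, false), (0, false), (1, false), (0, false), (1, false), (0, true), (1, false), (0, true)])))))) (.node (.node (.node (.node (.node (.leaf ([])) (.leaf ([(1, true), (0, false), (1, false), (0, false), (1, false), (0, false), (0, false), (1, true), (1, true), (0, false), (1, true), (0, true), (1, false), (0, true), (1, false), (0, true), (0, true)]))) (.leaf ([])))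 (.node (.leaf ([])) (.leaf ([(1, false), (0, true), (1, true), (0, true), (1, false), (0, true), (1, false), (0, false), (1, false), (0, false), (1, true), (0, true), (1, false), (0, true), (0, true)])))) (.node (.node (.leaf ([])) (.leaf ([]))) (.node (.leaf ([(1, true), (1, true), (0, true), (1, false), (0, false), (1, false), (0, true), (0, true), (1, true), (0, true), (1, true), (0, false), (0, false), (1, false), (0, false), (1, false), (0, true)])) (.leaf ([(0, true), (1, false), (0, true), (1, true), (0, true), (1, false), (0, false), (1, true), (1, true), (0, false), (1, false), (0, true), (1, true), (0, true), (1, true), (0, true)]))))) (.node (.node (.node (.leaf ([])) (.leaf ([]))) (.node (.leaf ([])) (.leaf ([(1, true), (0, false), (0, false), (1, true), (0, true), (1, true), (0, false), (1, true), (0, false), (1, true), (0, true), (1, true), (0, false), (0, false), (1, true), (0, false)])))) (.node (.node (.leaf ([(1, true), (1, true)])) (.leaf ([(1, true),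 (0, true), (0, true), (1, false), (0, false), (1, false), (0, false), (1, false), (0, true), (1, true), (1, true), (0, true), (1, true), (0, false), (1, false), (0, true), (0, true)]))) (.node (.leaf ([])) (.leaf ([(1, false), (0, true), (0, true), (1, true), (0, true), (1, true), (0, true), (1, false), (0, false), (0, false), (1, false), (0, false), (0, false), (1, false), (0, false), (0, false)]))))))) (.node (.node (.node (.node (.node (.node (.leaf ([(0, true), (1, true), (0, true), (0, true), (1, false), (0, false), (1, true), (0, false), (1, false), (0, false), (1, false), (0, true), (0, true), (1, true), (1, true)])) (.leaf ([(0, true), (1, false), (0, false), (1, true), (0, true), (1, true), (0, false), (1, true), (0, false), (1, true), (0, false), (0, false), (1, true), (0, true), (1, true), (0, true), (0, true)]))) (.leaf ([]))) (.node (.leaf ([])) (.leaf ([(1, true), (1, true), (0, false), (1, false), (0, false), (1, false), (0, true), (0, true), (1, true),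 (1, true), (0, true), (1, true), (0, false), (1, true)])))) (.node (.node (.leaf ([])) (.leaf ([(1, true), (0, true), (1, true), (0, false), (1, false), (0, true), (1, true), (0, false), (1, false), (0, true), (1, true), (0, false), (0, false), (1, true), (0, true), (0, true)]))) (.node (.leaf ([(1, true), (0, true), (1, true), (0, true), (1, false), (0, false), (1, false), (0, true), (0, true), (1, false), (0, true), (1, true), (0, true), (1, true), (0, true), (0, true)])) (.leaf ([]))))) (.node (.node (.node (.leaf ([])) (.leaf ([(1, true), (1, true)]))) (.node (.leaf ([(0, true), (0, true), (1, false), (0, false), (1, false), (0, false), (0, false), (1, true), (0, true), (1, false), (0, true), (1, true), (1, true), (0, false), (1, false), (0, false)])) (.leaf ([])))) (.node (.node (.leaf ([])) (.leaf ([(0, true), (1, false), (0, true), (1, true), (0, false), (1, false), (0, true), (1, true), (0, true), (1, false), (0, true), (1, false), (0, true), (0, true), (1, true),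 (0, true)]))) (.node (.leaf ([(0, true), (1, false), (0, true), (1, true), (0, true), (1, false), (0, false), (1, true), (1, true), (0, false), (1, false), (0, true), (1, true), (0, true), (1, true), (0, true)])) (.leaf ([(1, false), (0, true), (1, false), (0, false), (1, true), (1, true), (0, false), (0, false), (1, true), (0, true), (1, true), (0, true), (1, true), (1, true)])))))) (.node (.node (.node (.node (.node (.leaf ([])) (.leaf ([(1, true), (0, true), (1, false), (0, false), (1, false), (0, true), (1, true), (0, false), (1, false), (0, true), (1, true), (0, false), (1, false), (0, false)]))) (.leaf ([]))) (.node (.leaf ([])) (.leaf ([(1, false), (0, false), (0, false), (1, false), (0, false), (0, false), (1, false), (0, true), (1, true), (0, false), (1, true), (1, true), (0, false), (1, true), (0, false)])))) (.node (.node (.leaf ([])) (.leaf ([(0, true), (1, false), (0, false), (1, true), (0, true), (1, true), (0, true), (0, true), (1, false), (0, true), (0,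 true), (1, true), (1, true), (0, false), (0, false)]))) (.node (.leaf ([])) (.leaf ([(1, false), (0, true), (1, true), (0, true), (1, false), (0, true), (1, false), (0, false), (1, false), (0, false), (1, true), (0, true), (1, false), (0, true), (0, true)]))))) (.node (.node (.node (.leaf ([])) (.leaf ([(1, true), (0, true), (1, true), (0, true), (1, true), (0, false), (0, false), (1, true), (0, true), (1, true), (1, true), (0, false), (0, false)]))) (.node (.leaf ([])) (.leaf ([(1, false), (0, false), (1, true), (1, true), (0, true), (1, false), (0, false), (1, true), (0, false), (1, true), (0, false), (1, false)])))) (.node (.node (.leaf ([(1, false), (0, true), (1, true), (0, true), (1, false), (0, true), (1, false), (0, false), (1, false), (0, false), (1, true), (0, true), (1, false), (0, true), (0, true)])) (.leaf ([]))) (.node (.leaf ([])) (.leaf ([(0, true), (1, false), (0, true), (1, true), (0, true), (1, false), (0, false), (0, false), (1, false), (0, true),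 (1, false), (0, true), (1, false), (0, true)]))))))))) (.node (.node (.node (.node (.node (.node (.node (.node (.leaf ([])) (.leaf ([(1, true), (0, false), (1, true), (0, true), (0, true), (1, true), (1, true), (0, true), (0, true), (1, true), (0, false), (0, false), (1, true), (0, false), (1, true), (0, true)]))) (.leaf ([(1, false), (0, false), (0, false), (1, false), (0, false), (0, false), (1, true), (0, false), (1, true), (0, true), (0, true), (1, false), (0, false), (0, false), (1, true), (0, false), (0, false)]))) (.node (.leaf ([(1, true), (1, true), (0, false), (0, false), (1, true), (0, true), (1, true), (0, true), (1, false), (0, true), (1, true), (0, false), (0, false), (1, false), (0, false)])) (.leaf ([(1, false), (0, true), (0, true), (1, false), (0, false), (1, false), (0, false), (1, true), (0, false), (1, true), (0, false), (1, true), (1, true), (0, false), (1, true), (0, true), (0, true)])))) (.node (.node (.leaf ([])) (.leaf ([(1, true), (0, true),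 (1, true), (0, false), (1, false), (0, true), (1, true), (0, false), (1, false), (0, true), (1, true), (0, false), (0, false), (1, true), (0, true), (0, true)]))) (.node (.leaf ([])) (.leaf ([]))))) (.node (.node (.node (.node (.leaf ([])) (.leaf ([(1, false), (0, true), (1, false), (0, false), (1, false), (0, false), (0, false), (1, false), (0, false), (1, true), (1, true), (0, false), (0, false)]))) (.leaf ([]))) (.node (.leaf ([])) (.leaf ([(0, true), (0, true), (1, true), (1, true), (0, true), (1, true), (1, true), (0, false), (1, true), (0, true)])))) (.node (.node (.leaf ([])) (.leaf ([(1, false), (0, true), (1, false), (0, true), (1, true), (0, true), (1, true), (1, true), (0, false), (1, true), (0, false), (0, false), (1, false), (0, false), (1, false)]))) (.node (.leaf ([])) (.leaf ([])))))) (.node (.node (.node (.node (.node (.leaf ([])) (.leaf ([(1, true), (0, false), (0, false), (1, true), (0, false), (1, true), (0, true), (0, true), (1, false), (0, true),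 (0, true), (1, true), (0, false), (1, true), (0, true)]))) (.leaf ([]))) (.node (.leaf ([])) (.leaf ([(0, true), (1, true), (1, true), (0, true), (1, false), (0, true), (1, true), (1, true), (0, false), (1, true), (1, true), (0, true), (1, true), (0, false)])))) (.node (.node (.leaf ([])) (.leaf ([]))) (.node (.leaf ([])) (.leaf ([]))))) (.node (.node (.node (.leaf ([])) (.leaf ([]))) (.node (.leaf ([])) (.leaf ([(0, false), (0, false), (1, false), (0, false), (1, false), (0, false), (1, true), (0, true), (1, false), (0, false), (1, true), (1, true), (0, true), (1, true), (1, true)])))) (.node (.node (.leaf ([])) (.leaf ([(0, true), (1, false), (0, true), (1, false), (0, false), (1, true), (1, true), (0, false), (1, true), (0, false), (1, true), (0, true), (1, false), (0, true), (1, true), (0, true)]))) (.node (.leaf ([])) (.leaf ([(0, false), (1, true), (0, true), (0, true), (1, true), (0, false), (1, true), (0, false), (0, false), (1, false), (0, true), (1, false),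 (0, false), (1, false), (0, true), (1, true)]))))))) (.node (.node (.node (.node (.node (.node (.leaf ([])) (.leaf ([(0, true), (1, true), (0, true), (1, false), (0, true), (1, true), (1, true), (0, true), (1, false), (0, false), (1, true), (0, true), (0, true), (1, true), (0, true)]))) (.leaf ([]))) (.node (.leaf ([])) (.leaf ([(0, false), (1, false), (0, true), (1, true), (1, true), (0, false), (1, true), (1, true), (0, false), (0, false)])))) (.node (.node (.leaf ([])) (.leaf ([]))) (.node (.leaf ([])) (.leaf ([]))))) (.node (.node (.node (.leaf ([])) (.leaf ([]))) (.node (.leaf ([(0, false), (1, true), (0, false), (1, false), (0, false), (1, true), (0, true), (0, true), (1, false), (0, true), (1, true), (1, true), (0, false), (0, false), (1, false), (0, true)])) (.leaf ([(1, true), (0, true), (1, false), (0, true), (1, true), (1, true), (0, true), (1, true), (1, true), (0, false), (1, true), (0, false), (1, false), (0, true), (1, true), (0, true)])))) (.node (.node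 (.leaf ([(0, true), (1, true), (0, true), (1, false), (0, true), (1, false), (0, true), (0, true), (1, false), (0, true), (1, true), (1, true), (0, true), (1, false), (0, true)])) (.leaf ([(0, false), (1, false), (0, false), (0, false), (1, true), (0, false), (1, true), (0, false), (1, false), (0, false), (1, true), (0, true), (1, false), (0, false), (1, true), (0, false)]))) (.node (.leaf ([(1, true), (0, false), (0, false), (1, true), (0, true), (1, true), (0, false), (1, true), (0, false), (1, true), (0, true), (1, true), (0, false), (0, false), (1, true), (0, false)])) (.leaf ([(1, true), (0, false), (1, true), (0, false), (1, false), (0, true), (0, true), (1, false), (0, false), (1, true), (0, true), (1, true), (1, true), (0, true)])))))) (.node (.node (.node (.node (.node (.leaf ([])) (.leaf ([(0, false), (1, true), (1, true), (0, true), (0, true), (1, false), (0, true), (1, false), (0, false), (1, false), (0, false), (0, false), (1, true)]))) (.leaf ([]))) (.node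 (.leaf ([])) (.leaf ([(1, false), (0, false), (1, true), (1, true), (0, true), (1, false), (0, false), (0, false), (1, true), (0, true), (0, true), (1, true), (0, false), (1, false), (0, false)])))) (.node (.node (.leaf ([])) (.leaf ([]))) (.node (.leaf ([])) (.leaf ([(0, false), (0, false), (1, false), (0, false), (1, false), (0, false), (1, false), (0, false), (0, false), (1, true), (0, false), (1, false), (0, true), (0, true)]))))) (.node (.node (.node (.leaf ([])) (.leaf ([(1, true), (1, true)]))) (.node (.leaf ([])) (.leaf ([])))) (.node (.node (.leaf ([])) (.leaf ([]))) (.node (.leaf ([])) (.leaf ([])))))))) (.node (.node (.node (.node (.node (.node (.node (.leaf ([])) (.leaf ([(1, false), (0, false), (0, false), (1, true), (0, true), (1, false), (0, false), (0, false), (1, false), (0, false), (0, false), (1, true), (0, false), (1, true), (0, true), (1, true)]))) (.leaf ([(1, true), (0, false), (1, true), (0, true), (1, true), (1, true), (0, false), (0, false),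 (1, false), (0, false), (1, true), (1, true), (0, false), (1, false), (0, true)]))) (.node (.leaf ([])) (.leaf ([(1, true), (0, true), (1, false), (0, true), (1, false), (0, true), (1, true), (0, false), (1, true), (1, true), (0, true), (1, true)])))) (.node (.node (.leaf ([])) (.leaf ([(1, false), (0, false), (0, false), (1, true), (0, false), (0, false), (1, false), (0, true), (0, true), (1, true), (0, true), (1, false), (0, false), (0, false), (1, false), (0, false)]))) (.node (.leaf ([(0, false), (0, false), (1, false), (0, false), (1, false), (0, false), (0, false), (1, false), (0, true), (1, true), (1, true), (0, false), (1, false), (0, false), (0, false), (1, false)])) (.leaf ([(1, true), (1, true), (0, false), (1, true), (1, true), (0, true), (1, false), (0, true), (1, true), (1, true), (0, true), (1, true), (0, true), (0, true)]))))) (.node (.node (.node (.leaf ([])) (.leaf ([]))) (.node (.leaf ([(0, true), (0, true), (1, true), (1, true), (0, false), (1, false),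 (0, true), (1, true), (0, false), (1, true), (1, true), (0, true), (0, true), (1, true), (0, false)])) (.leaf ([(0, true), (1, true), (1, true), (0, true), (0, true), (1, true), (0, false), (0, false), (1, false), (0, true), (1, false), (0, false), (1, false), (0, true), (0, true), (1, true)])))) (.node (.node (.leaf ([])) (.leaf ([(1, true), (0, false), (1, true), (0, true), (1, true), (0, true), (0, true), (1, false), (0, true), (0, true), (1, false), (0, true), (1, false), (0, true), (1, false)]))) (.node (.leaf ([])) (.leaf ([(0, true), (0, true), (1, false), (0, true), (1, true), (1, true), (0, true), (0, true), (1, false), (0, false), (1, false), (0, false), (1, true), (0, false), (1, true), (0, true)])))))) (.node (.node (.node (.node (.node (.leaf ([])) (.leaf ([(1, false), (0, false), (1, true), (0, true), (1, true), (0, true), (0, true), (1, true), (0, true), (1, false), (0, true), (1, false), (0, false), (1, true), (0, false)]))) (.leaf ([]))) (.node (.leaf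 ([])) (.leaf ([(1, false), (0, false), (1, true), (0, true), (0, true), (1, false), (0, true), (0, true), (1, false), (0, true), (0, true), (1, true), (0, false)])))) (.node (.node (.leaf ([])) (.leaf ([]))) (.node (.leaf ([(1, true), (1, true), (0, false), (0, false), (1, true), (0, true), (1, true), (0, true), (1, false), (0, true), (1, true), (0, false), (0, false), (1, false), (0, false)])) (.leaf ([]))))) (.node (.node (.node (.leaf ([])) (.leaf ([(0, false), (1, false), (0, false), (0, false), (1, true), (0, false), (1, true), (0, true), (0, true), (1, true), (1, true), (0, false), (1, true), (0, true), (1, false), (0, false)]))) (.node (.leaf ([])) (.leaf ([(0, false), (1, true), (1, true), (0, false), (1, false), (0, true), (0, true), (1, false), (0, true), (1, true), (1, true), (0, false), (1, true), (0, true)])))) (.node (.node (.leaf ([(1, true), (1, true), (0, false)])) (.leaf ([]))) (.node (.leaf ([])) (.leaf ([(0, true), (0, true), (1, true), (1, true),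 (0, false), (1, false), (0, true), (0, true), (1, false), (0, false), (1, false), (0, false), (1, false)]))))))) (.node (.node (.node (.node (.node (.node (.leaf ([])) (.leaf ([(0, true), (1, true), (1, true), (0, false), (1, false), (0, true), (1, true), (0, false), (0, false), (1, false), (0, false), (1, true), (0, false), (1, true), (0, false), (1, true)]))) (.leaf ([(0, true), (0, true), (1, true), (0, false), (1, false), (0, true), (1, true), (0, true), (1, false), (0, false), (1, true), (0, false), (1, true), (0, true)]))) (.node (.leaf ([])) (.leaf ([(0, false), (1, true), (0, true), (1, false), (0, false), (0, false), (1, false), (0, false), (1, false), (0, true), (1, false), (0, false)])))) (.node (.node (.leaf ([])) (.leaf ([]))) (.node (.leaf ([(1, false), (0, true), (1, true), (0, true), (1, false), (0, true), (1, false), (0, false), (1, false), (0, false), (1, true), (0, true), (1, false), (0, true), (0, true)])) (.leaf ([(1, true), (0, true), (0, true),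 (1, true), (0, true), (0, true), (1, true), (0, false), (1, false), (0, true), (1, true), (0, true), (0, true), (1, true), (1, true)]))))) (.node (.node (.node (.leaf ([])) (.leaf ([]))) (.node (.leaf ([])) (.leaf ([(1, true), (0, false), (1, true), (1, true), (0, true), (1, true), (1, true), (0, true), (1, true), (0, false), (1, true), (0, false), (1, true), (0, true), (0, true), (1, true), (0, true)])))) (.node (.node (.leaf ([])) (.leaf ([(1, true), (0, true), (1, false), (0, true), (1, false), (0, false), (1, false), (0, true), (1, true), (0, false), (1, false), (0, false), (1, true), (1, true)]))) (.node (.leaf ([])) (.leaf ([(1, true), (0, false), (0, false), (1, true), (0, true), (1, false), (0, false), (1, true), (0, true), (0, true), (1, true), (0, true), (1, true), (1, true), (0, false), (0, false)])))))) (.node (.node (.node (.node (.node (.leaf ([])) (.leaf ([(1, true), (0, false), (0, false), (1, true), (1, true), (0, true), (1, true), (1, true), (0, false),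 (0, false), (1, false), (0, true), (1, false), (0, true), (1, true), (0, false)]))) (.leaf ([(0, true), (1, true), (0, true), (1, true), (1, true), (0, true), (1, false), (0, true), (1, true), (1, true), (0, true), (1, true), (0, false), (1, false), (0, false)]))) (.node (.leaf ([])) (.leaf ([(0, true), (1, true), (0, true), (0, true), (1, false), (0, false), (1, true), (0, true), (0, true), (1, true), (0, false), (0, false), (1, true), (1, true), (0, true)])))) (.node (.node (.leaf ([(0, true)])) (.leaf ([]))) (.node (.leaf ([])) (.leaf ([(0, true), (1, true), (0, false), (1, true), (0, false), (1, true), (0, true), (0, true), (1, false), (0, true), (0, true), (1, false), (0, true), (1, true), (1, true)]))))) (.node (.node (.node (.leaf ([])) (.leaf ([]))) (.node (.leaf ([])) (.leaf ([(1, true), (1, true), (0, true), (1, true), (1, true), (0, false), (0, false), (1, true), (0, false), (1, false), (0, true), (1, false), (0, false), (1, true), (0, true)])))) (.node (.node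 (.leaf ([])) (.leaf ([(0, true), (1, false), (0, true), (1, false), (0, false), (1, false), (0, true), (1, false), (0, false), (0, false), (1, true), (0, true), (0, true), (1, true), (0, true), (0, true)]))) (.node (.leaf ([(0, true), (0, true), (1, false), (0, false), (1, false), (0, true), (0, true), (1, true), (0, true), (1, true), (0, false), (1, true), (0, true), (1, false), (0, false), (1, true), (0, true)])) (.leaf ([])))))))))) (.node (.node (.node (.node (.node (.node (.node (.node (.node (.leaf ([])) (.leaf ([(0, false), (0, false), (1, true), (0, true), (0, true), (1, false), (0, false), (0, false), (1, false), (0, false), (1, true), (0, false), (1, true), (0, true), (0, true)]))) (.leaf ([]))) (.node (.leaf ([])) (.leaf ([(1, false), (0, false), (0, false), (1, false), (0, true), (0, true), (1, true), (0, false), (1, true), (1, true), (0, true), (0, true), (1, true), (1, true), (0, true)])))) (.node (.node (.leaf ([])) (.leaf ([]))) (.node (.leaf ([])) (.leaf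 ([]))))) (.node (.node (.node (.node (.leaf ([])) (.leaf ([(0, false), (0, false), (1, true), (0, true), (1, true), (0, false), (1, false), (0, true), (0, true), (1, true), (0, true), (0, true), (1, true), (1, true)]))) (.leaf ([]))) (.node (.leaf ([])) (.leaf ([])))) (.node (.node (.leaf ([])) (.leaf ([(0, true), (0, true), (1, true), (0, true), (1, true), (1, true), (0, true), (1, true), (0, false), (1, true), (0, false), (0, false), (1, true), (0, false)]))) (.node (.leaf ([(0, true), (1, false), (0, true), (1, false), (0, false), (1, true), (0, true), (1, false), (0, true), (1, false), (0, false), (0, false), (1, true), (0, true)])) (.leaf ([(1, false), (0, true), (1, true), (0, false), (1, false), (0, false), (1, true), (1, true), (0, false), (1, true), (0, true), (1, true), (1, true), (0, true), (1, true), (0, false), (0, false)])))))) (.node (.node (.node (.node (.node (.leaf ([])) (.leaf ([]))) (.leaf ([(0, false), (1, false), (0, false), (1, true), (1, true),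 (0, true), (1, false), (0, false), (1, true), (0, false), (1, true), (0, false), (0, false), (1, true), (0, false), (0, false)]))) (.node (.leaf ([])) (.leaf ([])))) (.node (.node (.leaf ([])) (.leaf ([(1, true), (0, true), (1, true), (0, true), (0, true), (1, false), (0, true), (0, true), (1, true), (1, true), (0, true), (1, false), (0, true), (0, true)]))) (.node (.leaf ([])) (.leaf ([(0, true), (1, true), (0, false), (1, false), (0, false), (1, true), (1, true), (0, false), (1, true), (0, true), (1, true), (1, true), (0, true), (1, true), (0, false), (0, false)]))))) (.node (.node (.node (.leaf ([])) (.leaf ([]))) (.node (.leaf ([])) (.leaf ([(0, false), (1, false), (0, false), (1, true), (0, true), (1, true), (0, false), (0, false), (1, false), (0, false), (1, true), (0, true), (1, false), (0, false)])))) (.node (.node (.leaf ([])) (.leaf ([]))) (.node (.leaf ([])) (.leaf ([(1, false), (0, true), (1, true), (1, true), (0, true), (1, true), (0, false), (1, false),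 (0, true), (1, true), (1, true), (0, true), (0, true), (1, true), (0, false), (1, true), (0, true)]))))))) (.node (.node (.node (.node (.node (.node (.leaf ([])) (.leaf ([(1, true), (0, false), (1, true), (0, false), (0, false), (1, true), (0, false), (0, false), (1, true), (1, true), (0, true), (1, true), (1, true), (0, true), (0, true), (1, true), (0, false)]))) (.leaf ([]))) (.node (.leaf ([])) (.leaf ([])))) (.node (.node (.leaf ([])) (.leaf ([(1, false), (0, true), (1, true), (1, true), (0, true), (1, true), (0, false), (1, true), (0, true), (1, true), (1, true), (0, true), (1, true), (1, true)]))) (.node (.leaf ([(0, false), (1, false), (0, false), (0, false), (1, false), (0, true), (1, true), (0, false), (1, true), (0, false), (1, false), (0, true), (1, true), (0, false), (1, true), (0, true)])) (.leaf ([(1, true), (0, true), (1, true), (0, true), (1, false), (0, false), (1, true), (0, true), (1, true), (1, true), (0, true), (1, true), (0, false), (1, true), (0,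 true), (1, false)]))))) (.node (.node (.node (.leaf ([])) (.leaf ([]))) (.node (.leaf ([])) (.leaf ([])))) (.node (.node (.leaf ([(0, true), (0, true), (1, false), (0, false), (1, false), (0, false), (0, false), (1, true), (0, true), (1, false), (0, true), (1, true), (1, true), (0, false), (1, false), (0, false)])) (.leaf ([]))) (.node (.leaf ([])) (.leaf ([(1, false), (0, false), (1, false), (0, false), (1, false), (0, true), (1, true), (1, true), (0, true), (0, true), (1, true), (1, true), (0, false), (1, false), (0, false), (1, true), (0, false)])))))) (.node (.node (.node (.node (.node (.leaf ([])) (.leaf ([]))) (.leaf ([]))) (.node (.leaf ([])) (.leaf ([])))) (.node (.node (.leaf ([])) (.leaf ([]))) (.node (.leaf ([])) (.leaf ([(0, false), (1, false), (0, false), (0, false), (1, true), (0, false), (1, true), (0, true), (0, true), (1, false), (0, true), (0, true), (1, false), (0, false)]))))) (.node (.node (.node (.leaf ([])) (.leaf ([]))) (.node (.leaf ([])) (.leaf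 ([(1, true), (1, true), (0, false), (1, true), (1, true), (0, false), (1, false), (0, true), (1, true), (0, true), (1, true), (1, true), (0, false), (1, false), (0, false)])))) (.node (.node (.leaf ([])) (.leaf ([(1, false), (0, false), (0, false), (1, true), (0, false), (0, false), (1, true), (1, true), (0, true), (1, false), (0, true), (0, true), (1, true)]))) (.node (.leaf ([(0, false), (0, false), (1, true), (0, false), (1, true), (1, true), (0, false), (0, false), (1, true), (0, false), (0, false), (1, false), (0, false), (1, false)])) (.leaf ([(0, false), (1, true), (1, true), (0, true), (1, false), (0, false), (0, false), (1, false), (0, false), (1, true), (0, true), (1, false), (0, false), (1, true), (0, true)])))))))) (.node (.node (.node (.node (.node (.node (.node (.leaf ([])) (.leaf ([(1, true), (0, true), (1, true), (1, true), (0, true), (1, true), (0, false), (0, false), (1, false), (0, true), (1, true), (0, true), (1, true), (0, false)]))) (.leaf ([])))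 (.node (.leaf ([])) (.leaf ([])))) (.node (.node (.leaf ([])) (.leaf ([]))) (.node (.leaf ([])) (.leaf ([(0, true), (0, true), (1, true), (1, true), (0, true), (1, true), (0, true), (0, true), (1, true), (0, true), (1, false), (0, true), (1, false), (0, true)]))))) (.node (.node (.node (.node (.leaf ([])) (.leaf ([(0, true), (0, true), (1, false), (0, false), (0, false), (1, false), (0, true), (1, false), (0, false), (1, true), (0, false), (1, true), (0, false), (1, true), (1, true), (0, true), (0, true)]))) (.leaf ([(1, false), (0, false), (0, false), (1, true), (1, true), (0, true), (1, true), (0, true), (1, true), (0, false), (1, false), (0, true), (1, true), (0, false)]))) (.node (.leaf ([])) (.leaf ([])))) (.node (.node (.leaf ([])) (.leaf ([]))) (.node (.leaf ([])) (.leaf ([])))))) (.node (.node (.node (.node (.node (.leaf ([])) (.leaf ([(0, true), (0, true), (1, true), (1, true), (0, false), (1, false), (0, true), (0, true), (1, true), (0, false), (1, false), (0,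 false), (1, true)]))) (.leaf ([(1, true), (0, true), (1, false), (0, false), (1, true), (1, true), (0, false), (1, false), (0, true), (0, true), (1, true), (0, false), (1, true), (0, false)]))) (.node (.leaf ([(1, true), (1, true), (0, false), (0, false), (1, false), (0, false), (1, true), (0, true), (1, false), (0, false), (0, false), (1, false), (0, false), (0, false), (1, true)])) (.leaf ([(0, true), (1, false), (0, false), (0, false), (1, true), (0, false), (0, false), (1, true), (0, false), (0, false), (1, false), (0, true), (1, true)])))) (.node (.node (.leaf ([])) (.leaf ([]))) (.node (.leaf ([(0, true), (1, true), (0, true), (0, true), (1, true), (0, false), (0, false), (1, true), (0, true), (1, false), (0, false), (0, false), (1, true)])) (.leaf ([(0, false), (1, true), (1, true), (0, true), (1, false), (0, false), (0, false), (1, false), (0, false), (1, false), (0, true), (1, false), (0, true), (0, true)]))))) (.node (.node (.node (.leaf ([])) (.leaf ([(0, true),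 (0, true), (1, true), (1, true), (0, true), (1, true), (0, false), (1, true), (0, false), (1, true), (0, true), (1, false)]))) (.node (.leaf ([])) (.leaf ([(1, true), (1, true), (0, true), (1, true), (0, false), (1, true), (0, true), (1, true), (1, true), (0, false), (1, true)])))) (.node (.node (.leaf ([])) (.leaf ([(0, false), (0, false), (1, true), (0, false), (1, true), (0, true), (1, true), (0, true), (0, true), (1, true), (0, false), (1, true), (1, true), (0, true)]))) (.node (.leaf ([])) (.leaf ([(1, false), (0, false), (0, false), (1, true), (0, false), (1, true), (0, true), (1, true), (0, false), (1, false), (0, true), (0, true), (1, false), (0, false), (0, false), (1, true), (0, true)]))))))) (.node (.node (.node (.node (.node (.node (.leaf ([])) (.leaf ([(0, true), (1, true), (0, false), (1, true), (0, false), (1, true), (0, true), (1, true), (0, false), (1, false), (0, true), (1, true)]))) (.leaf ([]))) (.node (.leaf ([])) (.leaf ([(1, true), (1, true), (0,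 false), (1, true), (1, true), (0, false), (1, false), (0, true), (1, false), (0, false), (1, true), (1, true), (0, false), (1, true)])))) (.node (.node (.leaf ([])) (.leaf ([]))) (.node (.leaf ([])) (.leaf ([]))))) (.node (.node (.node (.leaf ([])) (.leaf ([]))) (.node (.leaf ([])) (.leaf ([])))) (.node (.node (.leaf ([])) (.leaf ([(0, true), (1, true), (0, false), (1, false), (0, false), (0, false), (1, true), (1, true), (0, true), (0, true), (1, true), (0, true), (1, false), (0, false)]))) (.node (.leaf ([])) (.leaf ([(0, false), (0, false), (1, false), (0, true), (1, false), (0, true), (1, true), (0, true), (1, true), (1, true), (0, false), (1, false), (0, false), (1, true), (0, true)])))))) (.node (.node (.node (.node (.node (.leaf ([])) (.leaf ([(1, false), (0, true), (1, true), (0, true), (1, true), (0, true), (0, true), (1, false), (0, false), (1, false), (0, true), (1, true), (0, false), (1, true)]))) (.leaf ([(0, false), (1, true), (0, false), (0, false), (1,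 true), (0, true), (1, true), (0, true), (0, true), (1, true), (0, false), (0, false), (1, true), (0, true), (1, false)]))) (.node (.leaf ([])) (.leaf ([])))) (.node (.node (.leaf ([(1, true), (1, true)])) (.leaf ([(0, false), (1, true), (0, true), (0, true), (1, true), (1, true), (0, true), (0, true), (1, true), (0, false), (1, true), (0, false), (1, false), (0, true), (0, true)]))) (.node (.leaf ([])) (.leaf ([(0, true), (1, false), (0, false), (1, true), (1, true), (0, true), (1, true), (0, false), (1, false), (0, true), (0, true), (1, true), (0, true), (0, true), (1, false), (0, false), (0, false)]))))) (.node (.node (.node (.leaf ([])) (.leaf ([]))) (.node (.leaf ([])) (.leaf ([(0, true), (1, true), (0, true), (1, false), (0, true), (1, true), (0, true), (0, true), (1, true), (0, false), (1, false)])))) (.node (.node (.leaf ([])) (.leaf ([(1, false), (0, false), (0, false), (1, false), (0, true), (1, true), (0, true), (1, true), (1, true), (0, false), (0, false),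 (1, true), (0, true), (1, false), (0, true), (0, true)]))) (.node (.leaf ([(0, true), (1, true), (1, true), (0, true), (1, true), (0, false), (1, true), (1, true), (0, false), (1, false), (0, true), (1, true), (0, true), (1, false), (0, false), (1, true)])) (.leaf ([(1, true), (0, false), (1, true), (0, true), (1, true), (0, true), (0, true), (1, false), (0, true), (1, true), (1, true), (0, false), (1, true), (1, true), (0, true)]))))))))) (.node (.node (.node (.node (.node (.node (.node (.node (.leaf ([])) (.leaf ([(0, true), (1, true), (0, false), (1, true), (0, true), (0, true), (1, false), (0, true), (0, true), (1, true), (0, true), (1, false), (0, true), (1, false), (0, false)]))) (.leaf ([(1, false), (0, false), (0, false), (1, true), (0, false), (1, false), (0, false), (1, false), (0, true), (0, true), (1, true), (0, false), (1, true), (0, true)]))) (.node (.leaf ([])) (.leaf ([])))) (.node (.node (.leaf ([])) (.leaf ([(0, true), (1, true), (0, false), (1, false),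 (0, true), (1, true), (0, true), (0, true), (1, false), (0, false), (1, false), (0, true), (1, true), (0, true)]))) (.node (.leaf ([])) (.leaf ([]))))) (.node (.node (.node (.node (.leaf ([])) (.leaf ([(0, false), (1, true), (1, true), (0, true), (1, false), (0, true), (1, true), (0, false), (1, true), (0, true), (1, true), (0, true), (1, false), (0, false)]))) (.leaf ([(0, true), (1, true), (1, true), (0, true), (1, true), (0, false), (1, true), (0, true), (1, true), (0, true), (0, true), (1, true), (0, false), (1, false)]))) (.node (.leaf ([(1, true), (0, false), (1, true), (0, false), (1, true), (0, false), (1, false), (0, true), (1, true), (0, false), (1, true), (1, true), (0, true), (1, false), (0, true), (1, true)])) (.leaf ([])))) (.node (.node (.leaf ([])) (.leaf ([]))) (.node (.leaf ([])) (.leaf ([])))))) (.node (.node (.node (.node (.node (.leaf ([])) (.leaf ([(1, true), (0, true), (0, true), (1, false), (0, true), (1, false), (0, false), (0, false), (1, true),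 (0, false), (0, false), (1, true), (0, true), (1, true), (0, false)]))) (.leaf ([(0, true), (1, true), (0, true), (1, true), (1, true), (0, false), (1, true), (0, false), (1, false), (0, true), (1, true), (1, true), (0, false), (1, true), (0, true), (0, true)]))) (.node (.leaf ([])) (.leaf ([])))) (.node (.node (.leaf ([])) (.leaf ([]))) (.node (.leaf ([(1, true), (1, true)])) (.leaf ([]))))) (.node (.node (.node (.leaf ([])) (.leaf ([(1, true), (0, true), (0, true), (1, true), (1, true), (0, false), (0, false), (1, false), (0, true), (1, true), (1, true), (0, true), (1, true), (0, false), (0, false)]))) (.node (.leaf ([])) (.leaf ([])))) (.node (.node (.leaf ([])) (.leaf ([]))) (.node (.leaf ([])) (.leaf ([(1, false), (0, true), (1, false), (0, false), (1, false), (0, false), (1, true), (0, false), (1, false), (0, true), (1, false), (0, false), (1, true), (1, true), (0, true), (1, true), (0, true)]))))))) (.node (.node (.node (.node (.node (.node (.leaf ([])) (.leaf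 ([(1, true), (1, true), (0, true), (0, true), (1, true), (0, true), (0, true), (1, true), (0, true), (1, false), (0, false), (1, false), (0, false)]))) (.leaf ([(1, false), (0, true), (0, true), (1, true), (0, false), (1, false), (0, true), (0, true), (1, false), (0, false), (0, false), (1, false), (0, false)]))) (.node (.leaf ([(1, false), (0, true), (1, true), (0, true), (1, true), (0, false), (1, true), (0, true), (1, true), (1, true), (0, true), (1, false), (0, false), (0, false)])) (.leaf ([(0, false), (1, false), (0, true), (1, true), (0, false), (1, false), (0, true), (1, true), (0, true), (0, true), (1, true), (0, false), (1, true), (1, true), (0, true)])))) (.node (.node (.leaf ([])) (.leaf ([]))) (.node (.leaf ([(0, true), (0, true), (1, true), (0, false), (1, true), (1, true), (0, false), (1, false), (0, true), (1, false), (0, false), (1, false), (0, false), (1, true)])) (.leaf ([(1, false), (0, true), (0, true), (1, true), (0, true), (1, true), (0, true),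 (1, false), (0, true), (1, true), (0, true), (1, false), (0, true), (0, true), (1, false), (0, true)]))))) (.node (.node (.node (.leaf ([(1, true), (1, true), (0, false), (0, false), (1, false), (0, false), (1, true), (0, true), (1, false), (0, false), (0, false), (1, false), (0, false), (0, false), (1, true)])) (.leaf ([(0, false), (1, false), (0, true), (1, true), (0, false), (0, false), (1, false), (0, false), (1, false), (0, true), (1, true), (0, true), (0, true), (1, false), (0, false)]))) (.node (.leaf ([])) (.leaf ([(1, false), (0, false), (1, true), (0, false), (0, false), (1, true), (0, false), (1, false), (0, true), (1, false), (0, true), (1, true), (1, true), (0, true), (1, true)])))) (.node (.node (.leaf ([])) (.leaf ([]))) (.node (.leaf ([])) (.leaf ([(1, true), (1, true), (0, false), (0, false), (1, true), (0, false), (1, false), (0, false), (1, false), (0, true), (0, true), (1, true), (0, false), (1, true), (0, true), (1, true)])))))) (.node (.node (.node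 (.node (.node (.leaf ([])) (.leaf ([(1, false), (0, false), (1, false), (0, false), (0, false), (1, false), (0, false), (1, false), (0, true), (1, true), (0, false), (0, false), (1, true), (0, true)]))) (.leaf ([]))) (.node (.leaf ([])) (.leaf ([])))) (.node (.node (.leaf ([(1, true), (0, true), (1, true), (1, true), (0, true), (1, true), (0, false), (0, false), (1, false), (0, true), (1, true), (0, true), (1, true), (0, false)])) (.leaf ([(0, true), (0, true), (1, false), (0, false), (1, true), (1, true), (0, false), (1, true), (0, true), (0, true), (1, true), (1, true), (0, false), (0, false), (1, false)]))) (.node (.leaf ([(1, true), (0, false), (0, false), (1, false), (0, true), (1, true), (0, true), (0, true), (1, true), (1, true), (0, false), (1, false), (0, false), (1, true)])) (.leaf ([(0, true), (1, true), (0, true), (1, true), (1, true), (0, false), (1, false), (0, false), (1, true), (0, true), (1, true), (1, true), (0, true), (1, true), (1, true)]))))) (.node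 (.node (.node (.leaf ([])) (.leaf ([(1, true), (0, false), (1, false), (0, true), (1, false), (0, true), (1, false), (0, false), (1, true), (1, true), (0, false), (0, false)]))) (.node (.leaf ([])) (.leaf ([(1, false), (0, false), (1, true), (0, false), (1, false), (0, true), (0, true), (1, false), (0, false), (1, true), (0, false), (1, true), (1, true), (0, true), (1, true), (0, true)])))) (.node (.node (.leaf ([])) (.leaf ([]))) (.node (.leaf ([(0, false), (1, false), (0, true), (1, true), (1, true), (0, false), (1, false), (0, true), (1, true), (0, false), (0, false), (1, true), (0, true), (0, true), (1, true), (0, true)])) (.leaf ([(1, true), (0, false), (1, false), (0, true), (1, false), (0, false), (1, true), (1, true), (0, false), (1, false), (0, true), (1, true), (0, false), (1, false), (0, false), (1, false)])))))))) (.node (.node (.node (.node (.node (.node (.node (.leaf ([])) (.leaf ([(0, true), (1, true), (0, false), (1, false), (0, false), (1, false), (0,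 true), (1, false), (0, false), (1, true), (0, false), (1, true), (1, true), (0, true)]))) (.leaf ([]))) (.node (.leaf ([])) (.leaf ([(0, true), (1, true), (0, false), (0, false), (1, false), (0, false), (1, true), (0, true), (1, true), (0, true), (0, true), (1, false), (0, false), (1, true), (0, true)])))) (.node (.node (.leaf ([])) (.leaf ([]))) (.node (.leaf ([])) (.leaf ([(0, true), (1, true), (0, false), (1, true), (0, true), (1, false), (0, true), (1, false), (0, false), (1, true), (1, true), (0, true), (1, true), (0, true)]))))) (.node (.node (.node (.leaf ([])) (.leaf ([]))) (.node (.leaf ([(1, true), (1, true), (0, true), (1, false), (0, true), (1, false), (0, true), (1, true), (1, true), (0, true), (0, true), (1, true), (0, true), (0, true), (1, true), (1, true)])) (.leaf ([])))) (.node (.node (.leaf ([])) (.leaf ([(0, true), (1, false), (0, true), (1, true), (0, true), (1, false), (0, false), (0, false), (1, true), (0, true), (1, true), (0, true), (1, true),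 (1, true), (0, false)]))) (.node (.leaf ([])) (.leaf ([(1, true), (1, true), (0, false), (0, false), (1, false), (0, false), (0, false), (1, true), (0, true), (1, false), (0, false), (1, false), (0, true), (0, true)])))))) (.node (.node (.node (.node (.node (.leaf ([])) (.leaf ([(0, true), (1, true), (0, true), (1, true), (0, false), (1, false), (0, false), (0, false), (1, false), (0, false), (0, false), (1, true), (1, true)]))) (.leaf ([]))) (.node (.leaf ([])) (.leaf ([])))) (.node (.node (.leaf ([])) (.leaf ([]))) (.node (.leaf ([])) (.leaf ([]))))) (.node (.node (.node (.leaf ([])) (.leaf ([(1, true), (0, false), (0, false), (1, true), (0, true), (1, false), (0, false), (1, false), (0, false), (1, true), (0, true), (1, true), (0, false), (1, true), (0, false), (0, false)]))) (.node (.leaf ([])) (.leaf ([])))) (.node (.node (.leaf ([])) (.leaf ([(1, true), (0, true), (1, false), (0, true), (1, false), (0, false), (1, false), (0, true), (1, true), (0, false), (1, false),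 (0, false), (1, true), (1, true)]))) (.node (.leaf ([])) (.leaf ([(0, false), (1, true), (1, true), (0, true), (1, true), (1, true), (0, false), (1, true), (0, false), (0, false), (1, false), (0, false), (1, false), (0, true), (1, false)]))))))) (.node (.node (.node (.node (.node (.node (.leaf ([])) (.leaf ([]))) (.leaf ([]))) (.node (.leaf ([(1, true), (0, true), (1, true), (0, false), (1, false), (0, true), (1, true), (1, true), (0, false), (1, false), (0, true), (0, true), (1, false), (0, true), (1, true)])) (.leaf ([(1, true), (0, false), (0, false), (1, true), (1, true), (0, true), (1, false), (0, true), (0, true), (1, true), (0, true), (0, true), (1, true), (0, true), (0, true)])))) (.node (.node (.leaf ([(0, true), (1, true), (0, true), (1, true), (1, true), (0, false), (1, true), (0, false), (1, false), (0, true), (0, true), (1, true), (0, true), (1, true), (0, false), (0, false)])) (.leaf ([(1, true), (0, true), (1, true), (1, true), (0, true), (1, true), (0,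 false), (0, false), (1, false), (0, true), (1, true), (0, true), (1, true), (0, false)]))) (.node (.leaf ([])) (.leaf ([(1, true), (0, true), (0, true), (1, true), (0, false), (0, false), (1, false), (0, true), (0, true), (1, true), (0, false), (0, false), (1, true), (0, true)]))))) (.node (.node (.node (.leaf ([])) (.leaf ([]))) (.node (.leaf ([])) (.leaf ([(0, true), (0, true), (1, false), (0, true), (0, true), (1, false), (0, true), (1, true), (0, true), (1, true), (0, false), (1, true), (1, true), (0, false), (1, true), (1, true)])))) (.node (.node (.leaf ([])) (.leaf ([]))) (.node (.leaf ([])) (.leaf ([])))))) (.node (.node (.node (.node (.node (.leaf ([])) (.leaf ([(1, true), (0, true), (1, false), (0, false), (1, true), (0, false), (1, true), (0, false), (0, false), (1, false), (0, true), (1, true), (0, false), (0, false)]))) (.leaf ([]))) (.node (.leaf ([])) (.leaf ([(0, true), (1, true), (0, true), (1, true), (1, true), (0, false), (0, false), (1, true), (0,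 false), (1, true), (1, true), (0, false), (0, false), (1, true), (0, true), (0, true)])))) (.node (.node (.leaf ([(1, false), (0, false), (1, false), (0, true), (1, false), (0, false), (1, false), (0, true), (1, false), (0, true), (1, false), (0, true), (1, true), (0, true), (1, true), (0, true)])) (.leaf ([]))) (.node (.leaf ([])) (.leaf ([(1, false), (0, false), (1, true), (0, true), (0, true), (1, false), (0, true), (0, true), (1, false), (0, true), (0, true), (1, true), (0, false)]))))) (.node (.node (.node (.leaf ([])) (.leaf ([(0, true), (1, true), (0, true), (1, false), (0, false), (1, false), (0, false), (1, false), (0, true), (1, false), (0, true), (0, true), (1, false), (0, true), (0, true), (1, false), (0, false)]))) (.node (.leaf ([])) (.leaf ([])))) (.node (.node (.leaf ([])) (.leaf ([]))) (.node (.leaf ([(1, false), (0, true), (1, false), (0, true), (1, true), (1, true), (0, true), (1, true), (1, true), (0, false), (1, true), (0, false), (1, false), (0,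 true), (1, true), (0, true)])) (.leaf ([(1, false), (0, true), (1, true), (0, false), (1, false), (0, false), (0, false), (1, false), (0, false), (0, false), (1, false), (0, true), (0, true), (1, true), (1, true), (0, false), (0, false)]))))))))))

/-- data -/
def val0 : Trie (Vec) := .node (.node (.node (.node (.node (.node (.node (.node (.node (.node (.leaf ([])) (.leaf ([0, 0, 0, 0, 0, 0, 0, 0, 0, 0, 0, 0, 0, 0, 0, 0, 0, 0, 0, 0, 0, 0, 0, 0, 0, 0, 0, 0, 0, 0, 0, 0, 0, 0, 0, 0, 0, 0, 0, 0, 0, 0, 1]))) (.leaf ([(-15815), (-11818), 9934, 19799, 11310, 56072, 11902, (-14307), 19706, (-10717), (-12683), (-40397), 23426, (-14730), 5159, 14015, (-1509), (-7144), (-1088), 171, (-132), (-72), (-412), 162, (-192), (-521), 28, 16, 204, (-132), 467, 67, (-417), 196, 541, (-245), (-180), 102, 496, 8, (-32), (-297), (-60), 0, 6, 3, 1, 7, 17, 11, 7, (-3), 14, 4, (-4), 0, (-5), 4, (-4), 0, 0, 0, (-10), 5, (-5), 0, 0, 0, (-4), (-2), 1, 5, 0, 3, 0, 1]))) (.node (.leaf ([])) (.leaf ([(-1759), (-1929), 1414, 2762, 766, 6164, 941, (-1906), 1337, (-851), (-935), (-4236), 3294, (-1789), 871, 1628, (-313), (-759), (-245), 21, (-5), (-5), (-27), (-3), (-10), (-28), 2, 0, 46, (-10), 19, (-15), (-20), 5, 1, 0, (-4), 8, 19, 2, (-11), (-8), (-1), 1, 0, 0, (-1), 0, 0, 1, 0, 0, 1, 0, 0, 0, 0, 0, 0, 0, 0, 0, (-1), 0, 0, 0, 0, 0, (-1)])))) (.node (.node (.leaf ([0, 0, 0, 0, 0, 0, 0, 0, 0, 0, 0, 0, 0, 0, 0, 0, 0, 0, 0, 0, 0, 0, 0, 0, 0, 0, 0, 0, 0, 0, 0, 0, 0, 0, 0, 0, 0, 0, 0, 0, 0, 0, 1])) (.leaf ([]))) (.node (.leaf ([])) (.leaf ([32865, 35002, (-24722), (-45451), (-7837), (-64940), (-16628), 24965, (-14309), 13496, 3748, 70527, (-47148), 21014, (-11582), (-22695), 5243, 8707, 2401, (-720), (-680), 102, 140, (-5), 257, 444, (-34), (-29), (-348), 62, (-423), 365, 396, (-278), (-635), 90, 382, (-359), (-649), 51, 306, 180, 16, 27, (-2), 2, (-18), (-7), 11, 14, 7, 18, (-7), (-9), 12, 0, 6, (-2), 5, 0, 0, 0, 4, 4, (-4), 0, 0, 0, 5, 0, (-3), 4, 2, (-1), (-3), (-2)]))))) (.node (.node (.node (.node (.leaf ([])) (.leaf ([(-7545), (-1532), 2941, 18225, 18865, 69286, 15099, (-15969), 36642, (-15449), (-20193), (-49654), 16213, (-17980), 3736, 16250, (-135), (-9347), (-983), 3, (-401), (-123), (-835), 334, (-335), (-924), 53, 26, 455, (-285), 839, 185, (-696), 303, 873, (-489), (-406), 46, 925, 36, 73, (-452), (-136), 34, 6, 9, (-17), 19, 43, 29, 16, 0, 30, 7, (-9), (-2), (-9), 8, (-4), 2, (-1), 0, (-16), 10, (-10), 1, 1, 2, (-5), (-5), 2, 10, 0, 10, 0, (-1)]))) (.leaf ([(-2028), (-2130), 1480, 2742, (-1268), 1658, 183, (-1483), 565, 5, 816, (-4530), 2077, (-1003), 694, 901, (-346), (-354), (-93), 47, 82, 9, 10, (-10), (-13), (-21), 2, 2, 20, 0, 26, (-57), (-17), 10, 21, 15, (-36), 18, 11, (-5), (-32), 3, 4, (-5), 0, (-1), 2, 0, (-2), (-3), (-1), (-1), (-1), 0, (-1), 0, 0, 0, 0, 0, 0, 0, 0, (-1), 1, 0, 0, 0, 0, 0, 1, (-1), 0, 0, 1]))) (.node (.leaf ([0, 0, 0, 0, 0, 0, 0, 0, 0, 0, 0, 0, 0, 0, 0, 0, 0, 0, 0, 0, 0, 0, 0, 0, 0, 0, 0, 0, 0, 0, 0, 0, 0, 0, 0, 0, 0, 0, 0, 0, 0, 0, 1])) (.leaf ([])))) (.node (.node (.leaf ([0, 0, 0, 0, 0, 0, 0, 0, 0, 0, 0, 0, 0, 0, 0, 0, 0, 0, 0, (-1), 0, 0, 0, 0, 0, 0, 0, 0, 0, 0, 0, 0, 0, 0, 0, 0, 0, 0, 0, 0, 0, 0, 1, 0, 0, 0, 0, (-1)])) (.leaf ([0, 0, 0, 0, 0, 0, 0, 0, 0, 0, 0, 0, 0, 0, 0, 0, 0, 0, 0, 0, 0, 0, 0, 0, 0, 0, 0, 0, 0, 0, 0, 0, 0, 0, 0, 0, 0, 0, 0, 0, 0, 0, 1]))) (.node (.leaf ([190, 1346, (-581), (-1730), 752, 2119, 56, 362, 1147, (-110), (-1562), 1424, (-909), (-69), (-391), (-252), 306, (-139), 36, (-41), (-87), 2, (-37), 9, 8, (-9), 0, (-2), 5, (-11), 2, 42, (-2), (-6), (-23), (-10), 24, (-18), (-23), 7, 23, (-15), (-2), 4, 0, 1, (-1), 0, 2, 2, 2, 2, 0, (-1), 1, 0, 0, 0, 0, 0, 0, 0, (-1), 1, (-1), 0, 0, 0, 0, 0, 0, 1])) (.leaf ([(-84065), (-115759), 75839, 128711, 51703, 186226, 55746, (-68091), (-16504), (-40893), (-7983), (-145376), 163707, (-54843), 36026, 66405, (-17029), (-19725), (-11201), 1736, 1233, (-469), 384, (-425), (-227), (-20), 17, 34, 746, 154, (-137), (-691), (-94), 267, 122, 241, 57, 835, 499, (-124), (-581), (-125), 51, (-64), (-5), (-11), 50, 9, (-40), (-30), (-28), (-26), 2, 17, (-15), 6, (-2), 6, (-9), 0, (-2), (-2), (-7), (-9), 10, (-7), (-8), (-8), (-8), 5, 2, (-8), 0, (-14), 12, 13])))))) (.node (.node (.node (.node (.node (.leaf ([])) (.leaf ([(-19576), (-27356), 17888, 26921, 15029, 40437, 13060, (-14014), (-9119), (-9534), (-1728), (-25595), 38608, (-10963), 8389, 14631, (-4235), (-3685), (-2631), 422, 201, (-132), 168, (-135), (-5), 162, (-4), 4, 78, 74, (-191), (-98), 103, 27, (-124), 86, 145, 213, (-87), (-21), (-106), 12, 19, (-14), (-1), (-2), 14, (-4), (-9), (-7), (-6), (-5), (-2), 2, (-1), 2, 0, 0, (-1), (-1), 0, 0, 0, (-2), 2, (-1), (-1), (-2), (-1), 2, 0, (-2), 0, (-3), 2, 3]))) (.leaf ([(-12009), (-14615), 9858, 18396, 5215, 25386, 7148, (-9781), 2873, (-5815), (-1081), (-25410), 20367, (-7866), 4717, 9093, (-2198), (-3078), (-1209), 283, 285, (-67), 12, (-23), (-96), (-117), 16, 10, 155, (-9), 109, (-131), (-109), 100, 193, (-14), (-115), 138, 202, (-21), (-120), (-49), (-1), (-14), 0, (-1), 13, 1, (-5), (-7), (-5), (-8), 2, 4, (-5), 1, (-2), 1, (-2), 0, 0, 0, (-1), (-2), 2, 0, 0, (-1), (-2), 1, 1, (-2), 0, (-1), 2, 2]))) (.node (.leaf ([(-37332), (-40802), 28684, 48637, 5654, 65344, 15856, (-25803), 8752, (-12771), (-1433), (-70986), 53942, (-21438), 13849, 23672, (-6699), (-8850), (-2331), 755, 798, (-84), 31, 11, (-243), (-364), 19, 22, 117, 6, 353, (-377), (-368), 297, 724, (-74), (-315), 361, 528, (-56), (-355), (-181), (-28), (-37), 7, (-3), 18, 6, (-8), (-10), (-12), (-22), 12, 12, (-12), 0, (-5), 2, (-4), 0, 0, (-1), (-1), (-5), 5, 0, 0, 0, (-5), 0, 2, (-6), 0, 0, 0, 1])) (.leaf ([0, 0, 0, 0, 0, 0, 0, 0, 0, 0, 0, 0, 0, 0, 0, 0, 0, 0, 0, (-1), 0, 0, 0, 0, 0, 0, 0, 0, 0, 0, 0, 0, 0, 0, 0, 0, 0, 0, 0, 0, 0, 0, 1, 0, 0, 0, 0, 0, 0, (-1)])))) (.node (.node (.leaf ([])) (.leaf ([(-141450), (-189649), 125006, 211713, 75746, 296427, 88157, (-110331), (-21199), (-65351), (-9943), (-246546), 264400, (-88608), 59509, 107483, (-28660), (-32391), (-16891), 2971, 2364, (-715), 671, (-573), (-474), (-209), 35, 66, 990, 257, 16, (-1211), (-355), 600, 759, 263, (-129), 1423, 1039, (-222), (-1069), (-313), 56, (-126), (-1), (-22), 84, 11, (-65), (-54), (-55), (-58), 12, 35, (-33), 9, (-6), 11, (-15), 0, (-2), (-2), (-7), (-18), 19, (-9), (-10), (-11), (-15), 8, 4, (-18), 0, (-25), 16, 19]))) (.node (.leaf ([0, 0, 0, 0, 0, 0, 0, 0, 0, 0, 0, 0, 0, 0, 0, 0, 0, 0, 0, 0, 0, 0, 0, 0, 0, 0, 0, 0, 0, 0, 0, 0, 0, 0, 0, 0, 0, 0, 0, 0, 0, 0, 0, 0, 0, 0, (-1), 1])) (.leaf ([(-32860), (-34998), 24719, 45445, 7842, 64941, 16625, (-24959), 14312, (-13498), (-3754), (-70511), 47144, (-21014), 11582, 22695, (-5243), (-8707), (-2401), 719, 680, (-102), (-140), 5, (-257), (-444), 34, 29, 348, (-62), 423, (-365), (-396), 278, 635, (-90), (-382), 359, 649, (-51), (-306), (-180), (-15), (-27), 2, (-2), 18, 7, (-11), (-14), (-7), (-18), 7, 9, (-12), 0, (-6), 2, (-5), 0, 0, 0, (-4), (-4), 4, 0, 0, 0, (-5), 0, 3, (-4), (-2), 1, 3, 2]))))) (.node (.node (.node (.leaf ([])) (.leaf ([]))) (.node (.leaf ([0, 0, 0, 0, 0, 0, 0, 0, 0, 0, 0, 0, 0, 0, 0, 0, 0, 0, 0, 0, 0, 0, 0, 0, 0, 0, 0, 0, 0, 0, 0, 0, 0, 0, 0, 0, 0, 0, 0, 0, 0, 0, 1])) (.leaf ([])))) (.node (.node (.leaf ([])) (.leaf ([]))) (.node (.leaf ([])) (.leaf ([]))))))) (.node (.node (.node (.node (.node (.node (.leaf ([])) (.leaf ([]))) (.leaf ([]))) (.node (.leaf ([1759, 1929, (-1414), (-2762), (-766), (-6164), (-941), 1906, (-1337), 851, 935, 4236, (-3294), 1789, (-871), (-1628), 313, 759, 245, (-22), 5, 5, 27, 3, 10, 28, (-2), 0, (-46), 10, (-19), 15, 20, (-5), (-1), 0, 4, (-8), (-19), (-2), 11, 8, 2, (-1), 0, 0, 1, 0, 0, (-1), 0, 0, (-1), 0, 0, 0, 0, 0, 0, 0, 0, 0, 1, 0, 0, 0, 0, 0, 1])) (.leaf ([(-8262), (-9440), 6562, 14635, 8178, 29475, 7665, (-9048), 7486, (-6815), (-4758), (-23641), 16312, (-8369), 3834, 9032, (-1510), (-3695), (-1021), 160, 47, (-68), (-152), 49, (-106), (-222), 17, 11, 152, (-53), 199, (-27), (-179), 105, 258, (-106), (-113), 87, 271, (-5), (-40), (-111), (-25), (-3), 2, 0, 1, 4, 5, 2, 1, (-4), 7, 3, (-4), 0, (-3), 2, (-2), 0, 0, 0, (-4), 1, (-1), 0, 0, 0, (-2), (-1), 1, 1, 0, 1, 1, 1])))) (.node (.node (.leaf ([(-9809), (-10880), 7545, 12847, 1760, 15525, 4196, (-6757), 1809, (-3331), 314, (-18511), 13767, (-5247), 3531, 6019, (-1768), (-2073), (-640), 218, 237, (-27), 21, (-14), (-64), (-72), 6, 7, 53, 4, 77, (-120), (-75), 75, 149, (-3), (-88), 107, 117, (-15), (-99), (-37), 1, (-10), 1, (-1), 5, 1, (-5), (-5), (-3), (-5), 1, 2, (-3), 0, (-1), 0, (-1), 0, 0, 0, 0, (-2), 2, 0, 0, 0, (-1), 0, 1, (-2), 0, 0, 1])) (.leaf ([]))) (.node (.leaf ([0, 0, 0, 0, 0, 0, 0, 0, 0, 0, 0, 0, 0, 0, 0, 0, 0, 0, 0, 0, 0, 0, 0, 0, 0, 0, 0, 0, 0, 0, 0, 0, 0, 0, 0, 0, 0, 0, 0, 0, 0, 0, (-1), 0, 0, 0, 0, 0, 1, 1])) (.leaf ([(-20545), (-30404), 18884, 29579, 389, 4492, 5651, (-10715), (-14210), (-4539), 13045, (-28602), 31750, (-5524), 9903, 10904, (-6444), (-1288), (-1085), 769, 969, (-84), 470, (-153), (-86), 215, (-10), 19, (-210), 160, (-165), (-413), 83, 126, 271, 114, (-83), 359, 8, (-76), (-330), 148, 23, (-41), 2, (-8), 32, (-8), (-18), (-19), (-20), (-26), 3, 10, (-9), 0, (-2), (-2), 0, (-1), 1, 1, 15, (-9), 10, 3, 2, 1, (-1), 1, (-1), (-12), 0, (-5), (-3), 2]))))) (.node (.node (.node (.leaf ([])) (.leaf ([23439, 23894, (-17289), (-28595), (-1509), (-39188), (-8904), 15295, (-7322), 7284, 1235, 43865, (-31053), 13253, (-8123), (-14062), 3843, 5559, 1240, (-449), (-481), 31, 17, (-13), 153, 265, (-13), (-14), (-75), 10, (-255), 235, 254, (-178), (-462), 45, 203, (-209), (-340), 33, 228, 121, 14, 21, (-4), 2, (-11), (-3), 5, 6, 6, 13, (-7), (-7), 7, 0, 3, (-1), 3, 0, 0, 0, 1, 3, (-3), 0, 0, 0, 3, 0, (-1), 3, 0, 2, 0, (-1)]))) (.node (.leaf ([])) (.leaf ([1117, 860, (-730), (-1092), (-223), (-2987), (-484), 813, (-733), 352, 562, 1966, (-1470), 747, (-250), (-619), 54, 328, 91, (-11), 2, (-1), 12, 1, 4, 16, (-1), 0, (-20), 5, (-11), 3, 12, (-5), (-5), 0, 4, (-4), (-11), 0, 5, 7, (-1), 0, 0, 0, 0, 0, 0, 0, (-1), 0, 0, 0, 0, 0, 0, 0, 0, 0, 0, 0, 1])))) (.node (.node (.leaf ([])) (.leaf ([(-1682), (-464), 770, (-232), (-478), 2345, 5, (-127), 712, 18, (-892), (-383), 642, (-497), 178, 224, (-40), (-265), 24, 2, (-33), 17, (-12), (-3), 9, (-1), 0, (-1), (-13), (-4), 2, 12, (-1), (-4), (-13), 5, 20, (-4), (-35), 3, (-4), (-12), 1, 2, 0, 0, (-2), 0, 0, 0, 1, 1, 0, (-1), 0, 0, 0, 0, 0, 0, 0, 1]))) (.node (.leaf ([0, 0, 0, 0, 0, 0, 0, 0, 0, 0, 0, 0, 0, 0, 0, 0, 0, 0, 0, 0, 0, 0, 0, 0, 0, 0, 0, 0, 0, 0, 0, 0, 0, 0, 0, 0, 0, 0, 0, 0, 0, 0, 1])) (.leaf ([24019, 31160, (-20733), (-32196), (-11264), (-44659), (-13112), 16525, 6294, 9380, 849, 35544, (-42515), 12521, (-9463), (-15849), 4769, 4512, 2516, (-524), (-383), 110, (-196), 115, 56, (-74), 1, (-9), (-62), (-73), 91, 164, (-12), (-91), (-52), (-74), (-42), (-263), (-22), 33, 179, 28, (-13), 26, (-3), 2, (-18), 4, 12, 10, 8, 9, 1, (-4), 3, (-2), 1, 0, 2, 1, 0, 0, 0, 3, (-3), 1, 1, 2, 2, (-2), 0, 3, 0, 3, (-1), (-3)])))))) (.node (.node (.node (.node (.node (.leaf ([])) (.leaf ([1081, 946, (-874), (-1219), (-2132), (-7691), (-1228), 1255, (-1152), 1212, 2264, 1721, (-3143), 1737, (-672), (-1583), 167, 811, 216, 25, 77, 4, 38, (-15), 1, 36, (-1), 1, (-8), 13, (-23), (-36), 24, (-2), (-19), 23, (-28), 18, 2, (-7), (-10), 31, 8, (-3), 0, 0, 4, 0, (-3), (-3), (-1), (-1), (-2), 0, 0, 0, 0, (-1), 0, 0, 0, 0, 2, (-1), 1, 0, 0, 0, 1, 0, 0, (-1)]))) (.leaf ([0, 0, 0, 0, 0, 0, 0, 0, 0, 0, 0, 0, 0, 0, 0, 0, 0, 0, 0, 0, 0, 0, 0, 0, 0, 0, 0, 0, 0, 0, 0, 0, 0, 0, 0, 0, 0, 0, 0, 0, 0, 0, 1]))) (.node (.leaf ([(-190), (-1346), 581, 1730, (-752), (-2119), (-56), (-362), (-1147), 110, 1562, (-1424), 909, 69, 391, 252, (-306), 139, (-36), 40, 87, (-2), 37, (-9), (-8), 9, 0, 2, (-5), 11, (-2), (-42), 2, 6, 23, 10, (-24), 18, 23, (-7), (-23), 15, 3, (-4), 0, (-1), 1, 0, (-2), (-2), (-2), (-2), 0, 1, (-1), 0, 0, 0, 0, 0, 0, 0, 1, (-1), 1, 0, 0, 0, 0, 0, 0, (-1)])) (.leaf ([(-4443), (-7903), 4639, 12312, 12909, 22974, 8654, (-7556), 3040, (-7524), (-3188), (-17275), 14536, (-5824), 3057, 7782, (-1409), (-2327), (-1165), 103, 28, (-103), (-103), 33, (-91), (-130), 11, 10, 163, (-37), 106, (-3), (-91), 91, 153, (-90), (-94), 75, 183, 1, 6, (-76), (-30), 16, (-3), 2, (-7), 5, 10, 5, 1, (-1), 8, 3, (-5), 0, (-3), 2, 0, 1, 0, 0, (-2), 1, (-1), 0, 0, 0, 0, (-1), 1, 1, 0, 3, 2])))) (.node (.node (.leaf ([])) (.leaf ([]))) (.node (.leaf ([1005, (-439), (-119), 977, 1265, 700, 603, (-315), (-917), (-440), 63, 93, 1058, (-62), 169, 363, (-97), 34, (-175), (-1), 6, (-15), 9, (-7), 0, 11, 0, 1, 14, 2, (-15), 0, 11, (-4), (-15), 2, 4, 3, 10, (-1), 6, 5, (-4), 0, 0, 0, 0, 0, 1, 0, (-1), (-1), 1, 1, (-1), 0, 0, 1])) (.leaf ([7581, 8134, (-5601), (-10187), 387, (-8909), (-2646), 5276, (-2055), 1994, (-1593), 16152, (-9229), 3709, (-2559), (-4189), 1337, 1435, 343, (-179), (-250), 12, (-17), 4, 67, 87, (-4), (-7), (-38), (-1), (-95), 133, 81, (-71), (-157), 0, 116, (-89), (-114), 14, 93, 26, (-2), 10, 0, 2, (-4), 0, 3, 6, 2, 5, 0, (-2), 3, 0, 1, 0, 1, 0, 0, 0, 0, 2, (-2), 0, 0, 0, 0, 0, (-2), 2, 0, 0, (-1)]))))) (.node (.node (.node (.leaf ([])) (.leaf ([]))) (.node (.leaf ([])) (.leaf ([])))) (.node (.node (.leaf ([])) (.leaf ([(-10236), (-10961), 7776, 12404, 1419, 17170, 3882, (-6664), 1899, (-3112), (-482), (-17678), 14109, (-5522), 3751, 6104, (-1831), (-2299), (-633), 229, 179, (-23), 8, (-17), (-53), (-54), 1, 6, 22, 6, 51, (-90), (-67), 63, 120, (-1), (-47), 118, 91, (-11), (-92), (-29), (-9), (-9), 3, 0, 5, (-1), 0, (-1), (-2), (-5), 3, 3, (-2), 0, (-1), 0, (-1), 0, 0, 0, 0, (-1), 1, 0, 0, 0, (-1), 0, 0, (-1), 0, 0, (-1)]))) (.node (.leaf ([12009, 14615, (-9858), (-18396), (-5215), (-25386), (-7148), 9781, (-2873), 5815, 1081, 25410, (-20367), 7866, (-4717), (-9093), 2198, 3078, 1209, (-283), (-285), 67, (-12), 23, 96, 117, (-16), (-10), (-155), 9, (-109), 131, 109, (-100), (-193), 14, 115, (-138), (-202), 21, 120, 49, 2, 14, 0, 1, (-13), (-1), 5, 7, 5, 8, (-2), (-4), 5, (-1), 2, (-1), 2, 0, 0, 0, 1, 2, (-2), 0, 0, 1, 2, (-1), (-1), 2, 0, 1, (-2), (-2)])) (.leaf ([(-96842), (-115548), 78883, 131470, 31775, 179620, 49092, (-69459), 3976, (-37605), (-4082), (-173053), 156142, (-55888), 37481, 65213, (-18273), (-21630), (-8365), 1977, 1861, (-338), 298, (-176), (-470), (-498), 35, 51, 459, 105, 434, (-904), (-566), 605, 1183, 1, (-467), 961, 958, (-140), (-828), (-330), (-17), (-85), 7, (-10), 51, 9, (-31), (-33), (-33), (-48), 18, 26, (-27), 3, (-9), 5, (-9), 0, 0, (-2), (-2), (-13), 13, (-2), (-2), (-3), (-10), 3, 5, (-15), 0, (-6), 6, 6])))))))) (.node (.node (.node (.node (.node (.node (.node (.leaf ([])) (.leaf ([818, 1448, (-839), (-2357), (-369), (-2585), (-727), 1298, (-615), 545, (-83), 3444, (-1929), 921, (-546), (-1022), 247, 355, 161, (-31), (-36), 8, 10, 1, 10, 18, (-1), (-1), (-31), 3, (-16), 25, 17, (-10), (-20), 1, 23, (-18), (-43), 2, 13, 1, 3, 0, 0, 0, 0, 0, 0, 0, 1, 1, (-1), (-1), 1, 0, 0, 0, 0, 0, 0, 0, 0, 1]))) (.leaf ([8166, 7991, (-5865), (-9685), (-496), (-15172), (-3171), 5580, (-3066), 2298, 1032, 15385, (-10646), 4534, (-2528), (-4578), 1107, 1915, 486, (-157), (-133), 8, 15, 5, 43, 75, (-5), (-4), (-63), 6, (-75), 74, 76, (-58), (-107), 4, 65, (-80), (-105), 8, 71, 48, 5, 8, (-2), 0, (-4), (-2), 3, 3, 1, 3, (-1), (-1), 2, 0, 1, 0, 1, 0, 0, 0, 1, 1, (-1), 0, 0, 0, 1, 0, (-1), 1, 0, 0, (-1)]))) (.node (.leaf ([])) (.leaf ([])))) (.node (.node (.leaf ([])) (.leaf ([]))) (.node (.leaf ([0, 0, 0, 0, 0, 0, 0, 0, 0, 0, 0, 0, 0, 0, 0, 0, 0, 0, 0, 0, 0, 0, 0, 0, 0, 0, 0, 0, 0, 0, 0, 0, 0, 0, 0, 0, 0, 0, 0, 0, 0, 0, 1])) (.leaf ([(-14543), (-20859), 12917, 19672, (-1196), (-3790), 3004, (-6254), (-10414), (-2662), 11213, (-19574), 19841, (-2485), 6837, 6740, (-4774), (-387), (-303), 612, 769, (-63), 359, (-90), (-83), 150, (-7), 16, (-235), 124, (-99), (-317), 45, 120, 293, 60, (-96), 293, 12, (-58), (-251), 112, 16, (-34), 2, (-6), 29, (-6), (-13), (-15), (-16), (-22), 3, 8, (-7), 0, (-2), (-2), 0, (-1), 1, 1, 13, (-7), 8, 3, 2, 1, (-1), 1, (-1), (-10), 0, (-4), (-3), 2]))))) (.node (.node (.node (.node (.leaf ([])) (.leaf ([(-17085), (-19421), 13361, 24881, (-941), 29442, 5831, (-13390), 5568, (-4724), 1038, (-37666), 24969, (-10716), 7011, 11123, (-3355), (-4424), (-1016), 411, 430, (-31), 10, 6, (-150), (-212), 8, 15, 80, (-3), 208, (-252), (-205), 139, 350, (-24), (-188), 195, 243, (-23), (-201), (-55), (-6), (-25), 6, (-2), 8, (-1), (-9), (-8), (-4), (-10), 3, 4, (-4), 0, (-1), 0, (-2), (-1), (-1), 0, (-3), (-3), 3, 0, 0, 0, (-4), 0, 2, (-3), 0, 1]))) (.leaf ([(-8262), (-9440), 6562, 14635, 8178, 29475, 7665, (-9048), 7486, (-6815), (-4758), (-23641), 16312, (-8369), 3834, 9032, (-1510), (-3695), (-1021), 160, 47, (-68), (-152), 49, (-106), (-222), 17, 11, 152, (-53), 199, (-27), (-179), 105, 258, (-106), (-113), 87, 271, (-5), (-40), (-111), (-26), (-3), 2, 0, 0, 4, 5, 2, 1, (-4), 7, 3, (-4), 0, (-3), 2, (-2), 0, 0, 0, (-4), 1, (-1), 0, 0, 0, (-2), (-1), 1, 1, 0, 1, 1, 1]))) (.node (.leaf ([0, 0, 0, 0, 0, 0, 0, 0, 0, 0, 0, 0, 0, 0, 0, 0, 0, 0, 0, 0, 0, 0, 0, 0, 0, 0, 0, 0, 0, 0, 0, 0, 0, 0, 0, 0, 0, 0, 0, 0, 0, 0, 0, 0, 0, 0, (-1), 1])) (.leaf ([458, (-343), 101, 1455, 2614, 6361, 1221, (-1303), 1126, (-1290), (-1735), (-1755), 2465, (-1448), 610, 1443, (-168), (-674), (-250), (-38), (-73), (-18), (-39), 17, (-13), (-35), 4, (-1), 33, (-14), 24, 28, (-22), 1, 12, (-29), 13, (-22), 14, 7, 19, (-22), (-7), 3, 0, 0, (-4), 0, 3, 3, 1, 1, 2, 0, 0, 0, 0, 1, 0, 0, 0, 0, (-2), 1, (-1), 0, 0, 0, (-1), 0, 0, 1])))) (.node (.node (.leaf ([0, 0, 0, 0, 0, 0, 0, 0, 0, 0, 0, 0, 0, 0, 0, 0, 0, 0, 0, 0, 0, 0, 0, 0, 0, 0, 0, 0, 0, 0, 0, 0, 0, 0, 0, 0, 0, 0, 0, 0, 0, 0, 1])) (.leaf ([0, 0, 0, 0, 0, 0, 0, 0, 0, 0, 0, 0, 0, 0, 0, 0, 0, 0, 0, 0, 0, 0, 0, 0, 0, 0, 0, 0, 0, 0, 0, 0, 0, 0, 0, 0, 0, 0, 0, 0, 0, 0, (-1), 0, 0, 0, 0, 0, 1]))) (.node (.leaf ([37332, 40802, (-28684), (-48637), (-5654), (-65344), (-15856), 25803, (-8752), 12771, 1433, 70986, (-53942), 21438, (-13849), (-23672), 6699, 8850, 2331, (-756), (-798), 84, (-31), (-11), 243, 364, (-19), (-22), (-117), (-6), (-353), 377, 368, (-297), (-724), 74, 315, (-361), (-528), 56, 355, 181, 29, 37, (-7), 3, (-18), (-6), 8, 10, 12, 22, (-12), (-12), 12, 0, 5, (-2), 4, 0, 0, 1, 1, 5, (-5), 0, 0, 0, 5, 0, (-2), 6, 0, 0, 0, (-1)])) (.leaf ([97758, 115558, (-79177), (-131365), (-29110), (-178886), (-48295), 68709, (-5271), 37126, 4316, 173882, (-155549), 55969, (-37587), (-65090), 18386, 21938, 7973, (-2027), (-1896), 320, (-289), 147, 480, 560, (-30), (-54), (-351), (-106), (-499), 891, 627, (-623), (-1324), 32, 468, (-974), (-1018), 149, 855, 374, 23, 93, (-10), 11, (-53), (-9), 31, 33, 35, 51, (-20), (-28), 28, (-3), 9, (-6), 10, 0, 0, 1, 1, 13, (-13), 2, 2, 3, 11, (-3), (-4), 15, 0, 8, (-4), (-7)])))))) (.node (.node (.node (.node (.node (.leaf ([])) (.leaf ([7178, 11841, (-7310), (-11010), (-4112), (-10507), (-4195), 5055, 7217, 2506, (-1856), 8022, (-15397), 2939, (-3239), (-4644), 1796, 644, 1092, (-185), (-180), 40, (-162), 91, (-18), (-136), 9, (-2), (-23), (-57), 143, 82, (-96), 7, 117, (-88), (-67), (-88), 86, 18, 68, (-49), (-18), 10, 1, 2, (-4), 2, 8, 6, 5, 2, 3, (-1), 1, (-1), (-1), 0, 0, 0, 0, 0, (-1), 2, (-2), 1, 1, 1, 0, (-1), 0, 2, 0, 1, (-1), (-1)]))) (.leaf ([]))) (.node (.leaf ([])) (.leaf ([(-8262), (-9440), 6562, 14635, 8178, 29475, 7665, (-9048), 7486, (-6815), (-4758), (-23641), 16312, (-8369), 3834, 9032, (-1510), (-3695), (-1021), 160, 47, (-68), (-152), 49, (-106), (-222), 17, 11, 152, (-53), 199, (-27), (-179), 105, 258, (-106), (-113), 87, 271, (-5), (-40), (-111), (-26), (-3), 2, 0, 0, 5, 5, 2, 1, (-4), 7, 3, (-4), 0, (-3), 2, (-2), 0, 0, 0, (-4), 1, (-1), 0, 0, 0, (-2), (-1), 1, 1, 0, 1, 1, 1])))) (.node (.node (.leaf ([])) (.leaf ([]))) (.node (.leaf ([(-9297), (-10097), 7059, 13973, (-435), 16344, 3817, (-7196), 4944, (-3221), 36, (-22169), 12792, (-6254), 3519, 6454, (-1611), (-2604), (-556), 227, 266, (-15), (-35), 9, (-90), (-168), 13, 9, 92, (-21), 166, (-148), (-149), 90, 254, (-32), (-155), 105, 240, (-19), (-112), (-49), (-4), (-13), 1, (-2), 8, 3, (-5), (-6), (-4), (-8), 3, 4, (-5), 0, (-2), 1, (-2), 0, 0, 0, (-1), (-2), 2, 0, 0, 0, (-2), 0, 1, (-2), 0, (-1), 1, 1])) (.leaf ([20133, 20995, (-15031), (-25765), (-2635), (-34494), (-7562), 14064, (-7286), 6881, 736, 39204, (-27041), 11951, (-7848), (-12900), 3834, 5084, 1162, (-435), (-427), 42, 29, 15, 157, 201, (-15), (-13), (-104), 17, (-198), 230, 192, (-152), (-338), 33, 185, (-209), (-252), 23, 199, 64, 12, 19, (-3), 3, (-11), (-2), 3, 5, 3, 12, (-7), (-5), 5, 1, 4, 0, 3, 1, 0, 0, 0, 2, (-3), (-1), 0, (-1), 3, 1, (-1), 3, 0, 1, 0, (-1)]))))) (.node (.node (.node (.leaf ([])) (.leaf ([]))) (.node (.leaf ([])) (.leaf ([16356, 22488, (-14341), (-24868), (-9000), (-24617), (-10167), 11109, 3341, 8381, (-2142), 30006, (-29161), 8125, (-7417), (-12223), 4305, 3145, 1105, (-545), (-477), 119, (-122), (-9), 117, 82, (-3), (-23), 112, (-57), (-84), 143, 128, (-170), (-471), 82, 87, (-273), (-269), 52, 178, 74, 24, 22, (-4), 3, (-20), 2, (-1), 4, 12, 18, (-10), (-10), 9, (-1), 3, (-2), 1, 0, (-1), (-1), (-6), 3, (-3), (-2), (-2), 0, 2, 0, 1, 5, 0, 2, 3, (-2)])))) (.node (.node (.leaf ([0, 0, 0, 0, 0, 0, 0, 0, 0, 0, 0, 0, 0, 0, 0, 0, 0, 0, 0, 0, 0, 0, 0, 0, 0, 0, 0, 0, 0, 0, 0, 0, 0, 0, 0, 0, 0, 0, 0, 0, 0, 0, 0, 0, 0, 0, 0, 1])) (.leaf ([53079, 67360, (-45044), (-73592), (-24467), (-98783), (-30358), 37713, 6499, 22835, 1792, 89047, (-91410), 30326, (-21163), (-37480), 10582, 11249, 5163, (-1154), (-955), 238, (-236), 141, 201, 152, (-6), (-32), (-173), (-98), (-96), 448, 206, (-278), (-530), (-33), 103, (-558), (-428), 90, 421, 159, (-7), 47, (-1), 8, (-33), (-3), 19, 18, 22, 26, (-8), (-15), 14, (-3), 3, (-4), 5, 0, 0, 0, (-1), 7, (-7), 2, 2, 3, 5, (-2), (-1), 8, 0, 8, (-3), (-6)]))) (.node (.leaf ([])) (.leaf ([(-98558), (-116250), 79709, 131883, 29176, 179869, 48603, (-68939), 5129, (-37274), (-4412), (-174610), 156478, (-56099), 37731, 65307, (-18476), (-21999), (-7966), 2031, 1900, (-318), 297, (-140), (-479), (-558), 30, 53, 333, 112, 503, (-885), (-633), 633, 1349, (-39), (-467), 974, 1025, (-151), (-857), (-388), (-24), (-93), 10, (-11), 52, 9, (-30), (-32), (-35), (-51), 20, 28, (-28), 3, (-9), 6, (-10), 0, 0, (-1), (-1), (-13), 13, (-2), (-2), (-3), (-11), 3, 4, (-15), 0, (-8), 4, 7]))))))) (.node (.node (.node (.node (.node (.node (.leaf ([9811, 10869, (-7539), (-12835), (-1743), (-15483), (-4197), 6752, (-1812), 3323, (-327), 18523, (-13743), 5231, (-3521), (-6001), 1764, 2067, 636, (-219), (-237), 27, (-21), 14, 64, 72, (-6), (-7), (-53), (-4), (-77), 120, 75, (-75), (-149), 3, 88, (-107), (-117), 15, 99, 37, 0, 10, (-1), 1, (-5), (-1), 5, 5, 3, 5, (-1), (-2), 3, 0, 1, 0, 1, 0, 0, 0, 0, 2, (-2), 0, 0, 0, 1, 0, (-1), 2, 0, 0, (-1)])) (.leaf ([11348, 12517, (-8776), (-14773), (-3954), (-21569), (-5645), 8173, (-2504), 4697, 952, 21362, (-17139), 6728, (-4387), (-7693), 2139, 2715, 825, (-216), (-208), 36, 0, (-2), 74, 102, (-9), (-8), (-61), 2, (-101), 104, 99, (-88), (-194), 28, 84, (-102), (-134), 13, 97, 58, 12, 8, (-1), 1, (-4), (-2), 1, 3, 3, 6, (-4), (-3), 4, 0, 2, (-1), 1, 0, 0, 0, 0, 1, (-1), 0, 0, 0, 1, 0, (-1), 2, 0, (-1), (-1)]))) (.leaf ([0, 0, 0, 0, 0, 0, 0, 0, 0, 0, 0, 0, 0, 0, 0, 0, 0, 0, 0, 0, 0, 0, 0, 0, 0, 0, 0, 0, 0, 0, 0, 0, 0, 0, 0, 0, 0, 0, 0, 0, 0, 0, 1, 0, 0, 0, 0, (-1)]))) (.node (.leaf ([0, 0, 0, 0, 0, 0, 0, 0, 0, 0, 0, 0, 0, 0, 0, 0, 0, 0, 0, 0, 0, 0, 0, 0, 0, 0, 0, 0, 0, 0, 0, 0, 0, 0, 0, 0, 0, 0, 0, 0, 0, 0, 1])) (.leaf ([33782, 35510, (-25259), (-43224), (-4738), (-57698), (-14340), 23097, (-10495), 11735, 1373, 65845, (-46304), 19323, (-12020), (-21186), 5792, 8006, 1939, (-683), (-737), 69, 22, (-24), 243, 382, (-24), (-23), (-147), 14, (-383), 356, 370, (-285), (-696), 83, 338, (-327), (-525), 49, 329, 178, 21, 30, (-5), 3, (-15), (-6), 8, 10, 9, 19, (-10), (-10), 11, 0, 5, (-1), 4, 0, 0, 0, 1, 5, (-5), 0, 0, 0, 4, 0, (-2), 5, 0, 1, (-1), (-1)])))) (.node (.node (.leaf ([])) (.leaf ([76400, 82242, (-58172), (-97753), (-9947), (-132192), (-31465), 52091, (-18687), 25303, 3080, 144067, (-108348), 43482, (-27937), (-47605), 13466, 18011, 4588, (-1532), (-1604), 157, (-45), (-26), 487, 750, (-37), (-44), (-232), (-10), (-726), 764, 756, (-600), (-1469), 147, 634, (-732), (-1066), 112, 725, 374, 57, 74, (-14), 6, (-35), (-11), 16, 20, 24, 44, (-24), (-24), 24, 0, 10, (-4), 8, 0, 0, 2, 2, 10, (-10), 0, 0, 0, 10, 0, (-4), 12, 0, 0, 0, (-2)]))) (.node (.leaf ([19972, 20824, (-14859), (-26222), (-269), (-34503), (-7625), 13874, (-7773), 6193, 869, 40735, (-26852), 11797, (-7078), (-12363), 3318, 4995, 1050, (-437), (-455), 24, 33, (-17), 151, 264, (-15), (-16), (-93), 18, (-261), 227, 252, (-170), (-440), 48, 223, (-210), (-365), 33, 209, 116, 13, 23, (-4), 2, (-12), (-4), 6, 7, 6, 13, (-6), (-7), 7, 0, 3, (-1), 3, 0, 0, 0, 1, 3, (-3), 0, 0, 0, 3, 0, (-1), 3, 0, 1, 0, (-1)])) (.leaf ([]))))) (.node (.node (.node (.leaf ([])) (.leaf ([0, 0, 0, 0, 0, 0, 0, 0, 0, 0, 0, 0, 0, 0, 0, 0, 0, 0, 0, 0, 0, 0, 0, 0, 0, 0, 0, 0, 0, 0, 0, 0, 0, 0, 0, 0, 0, 0, 0, 0, 0, 0, 0, 0, 0, 0, (-2), 1]))) (.node (.leaf ([(-8166), (-7991), 5865, 9685, 496, 15172, 3171, (-5580), 3066, (-2298), (-1032), (-15385), 10646, (-4534), 2528, 4578, (-1107), (-1915), (-486), 156, 133, (-8), (-15), (-5), (-43), (-75), 5, 4, 63, (-6), 75, (-74), (-76), 58, 107, (-4), (-65), 80, 105, (-8), (-71), (-48), (-4), (-8), 2, 0, 4, 2, (-3), (-3), (-1), (-3), 1, 1, (-2), 0, (-1), 0, (-1), 0, 0, 0, (-1), (-1), 1, 0, 0, 0, (-1), 0, 1, (-1), 0, 0, 1])) (.leaf ([])))) (.node (.node (.leaf ([])) (.leaf ([(-2620), (-3791), 2300, 6889, 8543, 14808, 5717, (-4649), 3571, (-4975), (-2600), (-11640), 7805, (-3600), 1426, 4695, (-587), (-1515), (-609), 47, (-10), (-68), (-100), 46, (-70), (-125), 9, 7, 110, (-33), 112, 11, (-89), 75, 140, (-81), (-82), 43, 150, 4, 14, (-82), (-19), 12, (-2), 2, (-5), 4, 6, 3, 2, 1, 4, 1, (-3), 0, (-2), 1, 0, 1, 0, 0, (-2), 1, (-1), 0, 0, 0, 0, 0, 1, 1, 0, 2, 2]))) (.node (.leaf ([20133, 20995, (-15031), (-25765), (-2635), (-34494), (-7562), 14064, (-7286), 6881, 736, 39204, (-27041), 11951, (-7848), (-12900), 3834, 5084, 1162, (-435), (-427), 42, 29, 15, 157, 201, (-15), (-13), (-104), 17, (-198), 230, 192, (-152), (-338), 33, 185, (-209), (-252), 23, 199, 64, 12, 20, (-3), 3, (-13), 0, 3, 5, 3, 12, (-7), (-5), 5, 1, 4, 0, 3, 1, 0, 0, 0, 2, (-3), (-1), 0, (-1), 3, 1, (-1), 3, 0, 0, 0, (-1)])) (.leaf ([(-33820), (-35564), 25294, 43281, 4773, 57801, 14366, (-23131), 10482, (-11754), (-1381), (-65901), 46384, (-19346), 12041, 21215, (-5803), (-8016), (-1944), 681, 737, (-69), (-22), 24, (-243), (-382), 24, 23, 147, (-14), 383, (-356), (-370), 285, 696, (-83), (-338), 327, 525, (-49), (-329), (-178), (-20), (-30), 5, (-3), 15, 6, (-8), (-10), (-9), (-19), 10, 10, (-11), 0, (-5), 1, (-4), 0, 0, 0, (-1), (-5), 5, 0, 0, 0, (-4), 0, 2, (-5), 0, (-1), 1, 1])))))) (.node (.node (.node (.node (.node (.leaf ([])) (.leaf ([14543, 20859, (-12917), (-19672), 1196, 3790, (-3004), 6254, 10414, 2662, (-11213), 19574, (-19841), 2485, (-6837), (-6740), 4774, 387, 303, (-612), (-769), 63, (-359), 90, 83, (-150), 7, (-16), 235, (-124), 99, 317, (-45), (-120), (-293), (-60), 96, (-293), (-12), 58, 251, (-112), (-15), 34, (-2), 6, (-29), 6, 13, 15, 16, 22, (-3), (-8), 7, 0, 2, 2, 0, 1, (-1), (-1), (-13), 7, (-8), (-3), (-2), (-1), 1, (-1), 1, 10, 0, 4, 3, (-2)]))) (.leaf ([]))) (.node (.leaf ([])) (.leaf ([14776, 15802, (-11414), (-20651), (-18266), (-47551), (-13819), 12742, (-8231), 12387, 9041, 30170, (-27508), 12119, (-5655), (-14172), 2288, 5280, 1889, (-184), (-29), 143, 160, (-37), 135, 213, (-30), (-6), (-222), 60, (-194), (-56), 176, (-150), (-265), 142, 77, (-98), (-296), 4, 36, 178, 31, 4, (-4), (-1), (-4), (-2), (-4), (-4), (-2), 3, (-9), (-2), 4, 0, 4, (-2), 3, 0, 0, 0, 4, (-2), 2, 0, 0, 0, 2, 1, 0, (-2), 0, 0, (-2), (-2)])))) (.node (.node (.leaf ([])) (.leaf ([1903, 3181, (-2052), (-7622), (-6122), (-21171), (-4610), 5218, (-6343), 4356, 5112, 12492, (-8585), 5506, (-1895), (-5449), 481, 2635, 689, (-21), 111, 49, 155, (-56), 65, 165, (-12), (-3), (-106), 51, (-144), (-47), 128, (-53), (-144), 100, 46, (-17), (-191), (-9), (-22), 93, 26, (-2), (-3), (-1), 4, (-4), (-5), (-5), (-2), 0, (-6), (-1), 1, 0, 1, (-2), 1, 0, 1, 0, 4, (-2), 2, 0, 0, 0, 2, 1, 0, (-2), 0, (-1)]))) (.node (.leaf ([])) (.leaf ([9542, 10411, (-7381), (-15531), (-7978), (-31093), (-7927), 9606, (-7761), 6977, 4873, 25179, (-17483), 8892, (-4127), (-9493), 1631, 3906, 1078, (-165), (-64), 65, 149, (-45), 107, 226, (-18), (-10), (-161), 53, (-204), 36, 184, (-107), (-260), 100, 115, (-88), (-272), 5, 51, 114, 27, 3, (-2), 0, 0, (-4), (-5), (-2), (-1), 4, (-7), (-3), 4, 0, 3, (-2), 2, 0, 0, 0, 4, (-1), 1, 0, 0, 0, 2, 1, (-1), (-1), 0, (-1), (-1), (-1)]))))) (.node (.node (.node (.leaf ([])) (.leaf ([(-135), 642, (-328), (-223), (-2584), (-3125), (-975), 177, 1157, 922, 1097, (-1565), (-1948), 462, (-329), (-771), 135, 140, 224, 16, 59, 15, (-2), 8, (-10), (-26), 0, 0, 2, (-1), 33, (-33), (-26), 14, 45, 1, (-47), 10, 39, (-4), (-18), 3, 5, (-1), 0, 0, 1, 0, (-2), (-1), 0, 0, (-1), 0, 0, 0, 0, (-1), 0, 0, 0, 0, 0, (-1), 1]))) (.node (.leaf ([])) (.leaf ([(-4327), (-4143), 3046, 4754, 2013, 8028, 2336, (-2725), 1420, (-1922), (-788), (-7484), 5693, (-2176), 1261, 2585, (-608), (-908), (-255), 75, 66, (-17), (-8), 2, (-32), (-39), 3, 3, 26, (-4), 38, (-21), (-37), 39, 68, (-13), (-32), 42, 52, (-3), (-31), (-30), (-2), (-2), 0, 0, 2, 0, 0, (-1), 0, (-2), 1, 1, (-1), 0, (-1), 0, (-1)])))) (.node (.node (.leaf ([9542, 10411, (-7381), (-15531), (-7978), (-31093), (-7927), 9606, (-7761), 6977, 4873, 25179, (-17483), 8892, (-4127), (-9493), 1631, 3906, 1078, (-165), (-64), 65, 149, (-45), 107, 226, (-18), (-10), (-161), 53, (-204), 36, 184, (-107), (-260), 100, 115, (-88), (-272), 5, 51, 114, 26, 3, (-2), 0, (-2), (-4), (-5), (-2), (-1), 4, (-7), (-3), 4, 0, 3, (-2), 2, 0, 0, 0, 4, (-1), 1, 0, 0, 0, 2, 1, (-1), (-1), 0, (-1), (-1), (-1)])) (.leaf ([0, 0, 0, 0, 0, 0, 0, 0, 0, 0, 0, 0, 0, 0, 0, 0, 0, 0, 0, 0, 0, 0, 0, 0, 0, 0, 0, 0, 0, 0, 0, 0, 0, 0, 0, 0, 0, 0, 0, 0, 0, 0, 1, 0, 0, 0, (-1), 1]))) (.node (.leaf ([])) (.leaf ([(-61283), (-74219), 50383, 86923, 25490, 123412, 34541, (-45909), 5968, (-27189), (-5526), (-115164), 102514, (-37695), 24337, 44253, (-11748), (-14841), (-5599), 1295, 1140, (-262), 96, (-78), (-351), (-428), 36, 41, 339, 31, 384, (-531), (-442), 423, 880, (-76), (-325), 624, 748, (-92), (-516), (-280), (-24), (-53), 5, (-7), 34, 7, (-16), (-19), (-20), (-33), 15, 18, (-19), 2, (-7), 5, (-7), 0, 0, 0, (-2), (-7), 7, (-1), (-1), (-2), (-7), 2, 3, (-9), 0, (-7), 4, 5]))))))))) (.node (.node (.node (.node (.node (.node (.node (.node (.leaf ([])) (.leaf ([11027, 17894, (-11341), (-15740), (-11792), (-26194), (-8438), 7947, 10665, 5865, 1722, 9034, (-26363), 6112, (-5285), (-8832), 2672, 1823, 2027, (-243), (-31), 95, (-184), 132, (-52), (-235), 8, 1, (-27), (-73), 260, 5, (-171), 38, 257, (-101), (-213), (-119), 197, 11, 33, (-45), (-17), 11, (-1), 1, (-11), 5, 8, 4, 5, 1, 3, 0, (-1), (-2), (-1), 0, 0, 1, 0, 0, 0, 1, (-1), 1, 1, 2, 1, (-2), 1, 1, 0, 3, (-1), (-3)]))) (.leaf ([4443, 7903, (-4639), (-12312), (-12909), (-22974), (-8654), 7556, (-3040), 7524, 3188, 17275, (-14536), 5824, (-3057), (-7782), 1409, 2327, 1165, (-103), (-28), 103, 103, (-33), 91, 130, (-11), (-10), (-163), 37, (-106), 3, 91, (-91), (-153), 90, 94, (-75), (-183), (-1), (-6), 76, 31, (-16), 3, (-2), 7, (-5), (-10), (-5), (-1), 1, (-8), (-3), 5, 0, 3, (-2), 0, (-1), 0, 0, 2, (-1), 1, 0, 0, 0, 0, 1, (-1), (-1), 0, (-3), (-2)]))) (.node (.leaf ([(-9809), (-10880), 7545, 12847, 1760, 15525, 4196, (-6757), 1809, (-3331), 314, (-18511), 13767, (-5247), 3531, 6019, (-1768), (-2073), (-640), 218, 237, (-27), 21, (-14), (-64), (-72), 6, 7, 53, 4, 77, (-120), (-75), 75, 149, (-3), (-88), 107, 117, (-15), (-99), (-37), 0, (-10), 1, (-1), 5, 2, (-5), (-5), (-3), (-5), 1, 2, (-3), 0, (-1), 0, (-1), 0, 0, 0, 0, (-2), 2, 0, 0, 0, (-1), 0, 1, (-2), 0, 0, 1])) (.leaf ([1444, 1820, (-1165), (-2556), 1326, (-451), (-63), 1280, (-326), (-89), (-1130), 4045, (-1527), 809, (-570), (-745), 289, 229, 101, (-43), (-90), (-5), (-10), 12, 11, 19, (-2), (-2), (-30), 0, (-22), 63, 15, (-6), (-17), (-19), 40, (-18), (-25), 5, 32, (-11), (-3), 5, 0, 1, (-2), 0, 2, 3, 1, 1, 1, 0, 1, 0, 0, 0, 0, 0, 0, 0, 0, 1, (-1), 0, 0, 0, 0, 0, (-1), 1, 0, 0, (-1)])))) (.node (.node (.leaf ([])) (.leaf ([(-75468), (-81644), 57638, 97226, 10624, 131547, 31585, (-51763), 18329, (-25406), (-3163), (-142853), 107847, (-43148), 27672, 47386, (-13333), (-17850), (-4626), 1519, 1595, (-160), 51, 25, (-486), (-742), 38, 44, 240, 8, 718, (-755), (-747), 599, 1458, (-148), (-636), 728, 1064, (-112), (-716), (-367), (-56), (-74), 14, (-6), 35, 11, (-16), (-20), (-24), (-44), 24, 24, (-24), 0, (-10), 4, (-8), 0, 0, (-2), (-2), (-10), 10, 0, 0, 0, (-10), 0, 4, (-12), 0, 0, 0, 2]))) (.node (.leaf ([])) (.leaf ([]))))) (.node (.node (.node (.node (.leaf ([])) (.leaf ([(-2240), (-1500), 1363, 1076, 371, 3071, 587, (-809), 442, (-534), (-489), (-2047), 1968, (-957), 577, 943, (-271), (-415), (-51), 4, 5, 5, (-8), 2, (-2), (-11), 0, (-1), (-9), (-1), 7, (-3), (-9), 6, 15, (-2), 6, (-2), (-5), 1, (-11), (-10), (-2), 2, 0, 0, (-2), 0, 1, 1, 1, 0, 1, 0, 0, (-1), 0, 0, 0, 0, 0, 0, 0, 0, 0, 0, 0, 1]))) (.leaf ([]))) (.node (.leaf ([])) (.leaf ([0, 0, 0, 0, 0, 0, 0, 0, 0, 0, 0, 0, 0, 0, 0, 0, 0, 0, 0, (-1), 0, 0, 0, 0, 0, 0, 0, 0, 0, 0, 0, 0, 0, 0, 0, 0, 0, 0, 0, 0, 0, 0, 1, 0, 0, 0, 0, 0, (-1), 0, (-1)])))) (.node (.node (.leaf ([])) (.leaf ([15720, 11866, (-9925), (-20063), (-11568), (-56551), (-12076), 14466, (-19872), 10872, 12781, 40780, (-23621), 14870, (-5201), (-14187), 1521, 7202, 1120, (-177), 132, 76, 418, (-162), 194, 525, (-28), (-16), (-212), 134, (-469), (-67), 419, (-198), (-543), 247, 182, (-106), (-504), (-8), 32, 297, 61, 0, (-6), (-3), (-1), (-7), (-17), (-11), (-7), 3, (-14), (-4), 4, 0, 5, (-4), 4, 0, 0, 0, 10, (-5), 5, 0, 0, 0, 4, 2, (-1), (-5), 0, (-3), 0, (-1)]))) (.node (.leaf ([])) (.leaf ([])))))) (.node (.node (.node (.node (.node (.leaf ([])) (.leaf ([(-430), (-951), 502, 1259, 190, 472, 399, (-408), (-200), (-329), 311, (-1479), 1146, (-273), 340, 502, (-215), (-118), (-24), 34, 21, (-9), 8, 4, (-9), (-2), (-1), 1, (-16), 6, 8, (-10), (-7), 9, 25, (-8), (-6), 19, 12, (-2), (-5), (-8), 3, (-2), 0, 0, 2, 0, (-1), (-1), (-1), 0, (-1), 0, 0, 1, 0, 0, 0, 0, 0, 0, 0, 0, 0, 0, 0, (-1)]))) (.leaf ([]))) (.node (.leaf ([])) (.leaf ([88684, 122133, (-79997), (-137556), (-50613), (-197029), (-57449), 72337, 14689, 42193, 8141, 156942, (-172436), 58190, (-38277), (-69762), 18037, 21089, 11677, (-1814), (-1401), 467, (-433), 434, 268, 55, (-28), (-34), (-810), (-158), 81, 765, 147, (-316), (-219), (-236), 20, (-861), (-596), 131, 649, 154, (-48), 79, 2, 14, (-51), (-8), 46, 36, 33, 32, (-4), (-20), 19, (-6), 3, (-7), 10, 0, 2, 2, 8, 11, (-12), 7, 8, 8, 10, (-6), (-3), 10, 0, 17, (-13), (-13)])))) (.node (.node (.leaf ([])) (.leaf ([]))) (.node (.leaf ([])) (.leaf ([]))))) (.node (.node (.node (.leaf ([])) (.leaf ([]))) (.node (.leaf ([])) (.leaf ([86054, 102892, (-70206), (-116058), (-26868), (-156895), (-43049), 60889, (-1441), 32531, 2903, 151379, (-138480), 48848, (-32971), (-57114), 16109, 18835, 7388, (-1760), (-1663), 293, (-306), 169, 394, 401, (-24), (-42), (-362), (-112), (-341), 797, 475, (-524), (-1020), (-24), 385, (-854), (-818), 129, 734, 282, 6, 77, (-6), 9, (-47), (-7), 30, 30, 30, 42, (-14), (-23), 23, (-3), 7, (-4), 8, 0, 0, 2, 2, 12, (-12), 2, 2, 3, 9, (-3), (-4), 13, 0, 7, (-5), (-6)])))) (.node (.node (.leaf ([])) (.leaf ([(-20378), (-21315), 15247, 25870, 3345, 35167, 7934, (-14086), 6939, (-7159), (-981), (-38934), 27562, (-12022), 7870, 13106, (-3846), (-5092), (-1204), 436, 418, (-46), (-26), (-15), (-155), (-193), 15, 13, 99, (-16), 191, (-221), (-186), 152, 332, (-35), (-178), 211, 248, (-23), (-195), (-67), (-11), (-20), 3, (-3), 11, 1, (-3), (-5), (-3), (-12), 7, 5, (-5), (-1), (-4), 0, (-3), (-1), 0, 0, 0, (-2), 3, 1, 0, 1, (-3), (-1), 1, (-3), 0, 0, 0, 1]))) (.node (.leaf ([0, 0, 0, 0, 0, 0, 0, 0, 0, 0, 0, 0, 0, 0, 0, 0, 0, 0, 0, 0, 0, 0, 0, 0, 0, 0, 0, 0, 0, 0, 0, 0, 0, 0, 0, 0, 0, 0, 0, 0, 0, 0, 0, 0, 0, 0, 1, (-1)])) (.leaf ([3479, 2914, (-2267), (-8316), (-9476), (-25798), (-7122), 6502, (-9848), 6420, 6594, 17851, (-9055), 6573, (-1553), (-6733), 223, 3144, 650, (-76), 141, 77, 260, (-90), 106, 284, (-17), (-12), (-174), 88, (-242), (-53), 206, (-99), (-257), 148, 111, (-66), (-294), (-10), (-31), 135, 31, (-4), (-1), (-2), 1, (-5), (-10), (-6), (-6), 0, (-7), (-1), 2, 0, 3, (-2), 2, 0, 0, 0, 6, (-3), 3, 0, 0, 0, 2, 1, (-1), (-3), 0, (-4), (-1), (-1)]))))))) (.node (.node (.node (.node (.node (.node (.leaf ([])) (.leaf ([(-6510), (-11173), 6853, 10005, 3772, 9135, 3686, (-4459), (-7562), (-2193), 1833, (-6282), 14271, (-2889), 3283, 4507, (-1821), (-665), (-1040), 166, 128, (-37), 152, (-85), 33, 147, (-13), 0, (-22), 57, (-154), (-78), 108, (-22), (-141), 85, 86, 85, (-111), (-11), (-45), 43, 21, (-10), (-1), (-2), 6, (-2), (-9), (-6), (-5), (-2), (-3), 1, (-1), 1, 1, 0, 0, 0, 0, 0, 1, (-2), 2, (-1), (-1), (-1), 0, 1, 0, (-2), 0, (-1), 1, 1]))) (.leaf ([]))) (.node (.leaf ([0, 0, 0, 0, 0, 0, 0, 0, 0, 0, 0, 0, 0, 0, 0, 0, 0, 0, 0, 0, 0, 0, 0, 0, 0, 0, 0, 0, 0, 0, 0, 0, 0, 0, 0, 0, 0, 0, 0, 0, 0, 0, 0, 0, 0, 0, 0, 1])) (.leaf ([0, 0, 0, 0, 0, 0, 0, 0, 0, 0, 0, 0, 0, 0, 0, 0, 0, 0, 0, (-1), 0, 0, 0, 0, 0, 0, 0, 0, 0, 0, 0, 0, 0, 0, 0, 0, 0, 0, 0, 0, 0, 0, 0, 0, 0, 0, 0, 0, 1, 0, 1])))) (.node (.node (.leaf ([])) (.leaf ([]))) (.node (.leaf ([])) (.leaf ([]))))) (.node (.node (.node (.leaf ([0, 0, 0, 0, 0, 0, 0, 0, 0, 0, 0, 0, 0, 0, 0, 0, 0, 0, 0, 0, 0, 0, 0, 0, 0, 0, 0, 0, 0, 0, 0, 0, 0, 0, 0, 0, 0, 0, 0, 0, 0, 0, 1])) (.leaf ([]))) (.node (.leaf ([(-13354), (-12818), 9516, 15897, (-1069), 23630, 4513, (-8605), 5895, (-3527), (-1522), (-25923), 16903, (-7690), 4357, 7611, (-1951), (-3405), (-530), 253, 242, 1, (-39), 30, (-91), (-194), 7, 8, 19, (-12), 185, (-109), (-187), 111, 318, (-46), (-124), 117, 235, (-20), (-128), (-99), (-12), (-13), 3, (-1), 7, 2, (-1), (-2), (-3), (-8), 5, 5, (-4), 0, (-2), 1, (-2), 0, 0, 0, (-1), (-1), 1, 0, 0, 0, (-2), 0, 0, (-1), 0, (-1), (-1), 1])) (.leaf ([7575, 8568, (-5889), (-10720), (-2828), (-14305), (-4208), 6008, (-2137), 3339, 248, 16091, (-11386), 4718, (-2859), (-5413), 1373, 1827, 636, (-160), (-158), 35, 20, 8, 55, 76, (-7), (-5), (-85), 4, (-71), 92, 69, (-57), (-109), 7, 68, (-80), (-114), 9, 71, 30, (-1), 3, 2, 1, (-3), (-1), 1, 3, 1, 4, (-1), (-2), 2, 0, 1, 0, 1, 0, 0, 0, 0, 1, (-1), 0, 0, 0, 0, 0, (-1), 1, 0, 0, (-1)])))) (.node (.node (.leaf ([10491, 12093, (-8231), (-14812), (-3473), (-18087), (-5462), 7847, (-2221), 4444, (-236), 21504, (-15827), 5958, (-4020), (-7136), 2039, 2357, 762, (-238), (-267), 42, (-16), 1, 84, 94, (-9), (-8), (-65), (-2), (-102), 123, 97, (-101), (-208), 26, 121, (-121), (-158), 17, 101, 46, 7, 9, (-1), 1, (-4), (-2), 3, 4, 3, 6, (-3), (-3), 4, 0, 2, 0, 1, 0, 0, 0, 0, 2, (-2), 0, 0, 0, 1, 0, (-1), 2, 0, (-1), (-1)])) (.leaf ([2620, 3791, (-2300), (-6889), (-8543), (-14808), (-5717), 4649, (-3571), 4975, 2600, 11640, (-7805), 3600, (-1426), (-4695), 587, 1515, 609, (-47), 10, 68, 100, (-46), 70, 125, (-9), (-7), (-110), 33, (-112), (-11), 89, (-75), (-140), 81, 82, (-43), (-150), (-4), (-14), 82, 20, (-12), 2, (-2), 5, (-4), (-6), (-3), (-2), (-1), (-4), (-1), 3, 0, 2, (-1), 0, (-1), 0, 0, 2, (-1), 1, 0, 0, 0, 0, 0, (-1), (-1), 0, (-2), (-2)]))) (.node (.leaf ([(-17742), (-23877), 15427, 25686, 9240, 26596, 10417, (-11502), (-4032), (-8612), 1892, (-30204), 31087, (-8616), 7919, 12775, (-4556), (-3315), (-1222), 556, 480, (-114), 143, (-8), (-109), (-55), 3, 23, (-118), 63, 58, (-142), (-108), 163, 443, (-70), (-62), 274, 231, (-53), (-186), (-66), (-23), (-22), 4, (-3), 20, (-2), 1, (-4), (-12), (-18), 10, 10, (-9), 1, (-3), 2, (-1), 0, 1, 1, 6, (-3), 3, 2, 2, 0, (-2), 0, (-1), (-5), 0, (-2), (-3), 2])) (.leaf ([(-6283), (-8223), 5497, 12709, 12982, 28280, 8931, (-7644), 5807, (-8388), (-5654), (-18361), 15658, (-7472), 3352, 9032, (-1333), (-3319), (-1224), 90, 14, (-116), (-132), 44, (-101), (-166), 21, 6, 146, (-50), 150, 47, (-130), 105, 212, (-123), (-77), 59, 256, (-1), (-2), (-119), (-31), (-4), 4, 0, 2, 1, 6, 4, 0, (-4), 9, 3, (-4), 0, (-3), 2, (-2), 0, 0, 0, (-2), 1, (-1), 0, 0, 0, (-1), (-1), 0, 1, 1, (-1), 1, 1])))))) (.node (.node (.node (.node (.node (.leaf ([])) (.leaf ([(-818), (-1448), 839, 2357, 369, 2585, 727, (-1298), 615, (-545), 83, (-3444), 1929, (-921), 546, 1022, (-247), (-355), (-161), 30, 36, (-8), (-10), (-1), (-10), (-18), 1, 1, 31, (-3), 16, (-25), (-17), 10, 20, (-1), (-23), 18, 43, (-2), (-13), (-1), (-2), 0, 0, 0, 0, 0, 0, 0, (-1), (-1), 1, 1, (-1), 0, 0, 0, 0, 0, 0, 0, 0, (-1)]))) (.leaf ([]))) (.node (.leaf ([0, 0, 0, 0, 0, 0, 0, 0, 0, 0, 0, 0, 0, 0, 0, 0, 0, 0, 0, 0, 0, 0, 0, 0, 0, 0, 0, 0, 0, 0, 0, 0, 0, 0, 0, 0, 0, 0, 0, 0, 0, 0, 1])) (.leaf ([8194, 8516, (-6075), (-10032), 925, (-12087), (-2358), 5169, (-2149), 1828, (-261), 15188, (-10525), 4151, (-2849), (-4381), 1400, 1769, 338, (-188), (-192), 5, (-18), 0, 55, 75, (-1), (-6), (-5), (-4), (-75), 90, 81, (-65), (-156), 6, 73, (-95), (-107), 12, 90, 33, 8, 10, (-3), 0, (-3), (-2), 1, 2, 2, 5, (-2), (-3), 2, 0, 1, 0, 1, 0, 0, 0, 0, 1, (-1), 0, 0, 0, 1, 0, 0, 1, 0, 0, 1])))) (.node (.node (.leaf ([])) (.leaf ([]))) (.node (.leaf ([0, 0, 0, 0, 0, 0, 0, 0, 0, 0, 0, 0, 0, 0, 0, 0, 0, 0, 0, 0, 0, 0, 0, 0, 0, 0, 0, 0, 0, 0, 0, 0, 0, 0, 0, 0, 0, 0, 0, 0, 0, 0, 1])) (.leaf ([1545, 2683, (-1589), (-3451), 1046, (-977), (-256), 1426, 381, 182, (-1260), 4268, (-2804), 1075, (-994), (-1204), 544, 359, 127, (-66), (-97), 2, (-18), 11, 15, 23, 3, (-3), 5, (-3), (-16), 62, 16, (-10), (-39), (-13), 29, (-32), (-26), 5, 34, (-10), 4, 4, 0, 1, 0, 1, (-1), 2, 2, 3, (-1), (-2), 2, 0, 0, (-1), 0, 0, 0, 0, 0, 1, (-1), 0, 0, 0, 0, 0, (-1), 1]))))) (.node (.node (.node (.leaf ([])) (.leaf ([0, 0, 0, 0, 0, 0, 0, 0, 0, 0, 0, 0, 0, 0, 0, 0, 0, 0, 0, (-1), 0, 0, 0, 0, 0, 0, 0, 0, 0, 0, 0, 0, 0, 0, 0, 0, 0, 0, 0, 0, 0, 0, 1, 0, 0, 0, 2, (-1)]))) (.node (.leaf ([])) (.leaf ([])))) (.node (.node (.leaf ([])) (.leaf ([]))) (.node (.leaf ([])) (.leaf ([])))))))) (.node (.node (.node (.node (.node (.node (.node (.leaf ([])) (.leaf ([(-10982), (-10757), 7989, 10945, 304, 15817, 2835, (-5949), 1294, (-2416), (-401), (-15318), 13438, (-5171), 3738, 5513, (-1849), (-2165), (-527), 227, 164, (-8), 30, (-33), (-43), (-19), (-1), 4, (-7), 12, 19, (-86), (-36), 47, 69, 19, (-13), 111, 12, (-8), (-96), (-11), (-1), (-10), 3, 0, 6, (-2), (-3), (-2), (-1), (-4), 1, 1, 0, 0, (-1), (-1), (-1), (-1), 0, 0, 0, (-1), 1, 0, 0, 0, (-1), 0, 0, (-1), 0, 0, (-1)]))) (.leaf ([59533, 92918, (-58736), (-102340), (-49699), (-147519), (-46530), 53478, 24615, 33573, 6036, 102301, (-134324), 42127, (-28620), (-52927), 13544, 14287, 10186, (-1258), (-808), 440, (-436), 451, 80, (-255), (-9), (-18), (-705), (-166), 400, 495, (-169), (-80), 349, (-298), (-244), (-598), (-174), 93, 363, (-16), (-66), 47, 9, 12, (-37), (-4), 37, 25, 26, 16, 3, (-12), 10, (-6), (-1), (-6), 6, 0, 2, 2, 6, 7, (-8), 7, 8, 8, 6, (-5), (-1), 6, 0, 15, (-12), (-12)]))) (.node (.leaf ([])) (.leaf ([4353, 4132, (-3052), (-4724), (-1975), (-8011), (-2303), 2713, (-1440), 1913, 788, 7468, (-5681), 2189, (-1274), (-2586), 613, 916, 254, (-76), (-66), 17, 8, (-2), 32, 39, (-3), (-3), (-26), 4, (-38), 21, 37, (-39), (-68), 13, 32, (-42), (-50), 3, 31, 30, 3, 2, 0, 0, (-2), 0, 0, 1, 0, 2, (-1), (-1), 1, 0, 1, 0, 1])))) (.node (.node (.leaf ([])) (.leaf ([(-8337), (-11712), 7613, 10137, 3252, 10615, 3994, (-4737), (-6864), (-2223), 1574, (-7995), 15142, (-2803), 3053, 4309, (-1699), (-674), (-916), 160, 179, (-26), 171, (-73), 23, 117, (-11), 0, (-21), 60, (-122), (-68), 77, 6, (-66), 78, 62, 74, (-90), (-17), (-68), 24, 19, (-10), (-1), (-2), 4, (-2), (-8), (-6), (-5), (-2), (-3), 1, (-1), 1, 1, 0, 0, 0, 0, 0, 1, (-2), 2, (-1), (-1), (-1), 0, 1, 0, (-2), 0, (-1), 1, 1]))) (.node (.leaf ([2284, 1758, (-1422), 40, 7733, 9726, 3340, (-1310), 2750, (-3165), (-3907), (-1204), 1556, (-1437), (-82), 1878, 248, (-811), (-325), (-85), (-194), (-52), (-121), 51, (-29), (-74), 5, 2, 59, (-35), 56, 104, (-44), 20, 32, (-81), 10, (-25), 55, 15, 74, (-60), (-21), 10, 1, 2, (-6), 1, 10, 8, 5, 4, 4, (-1), 1, 0, (-1), 1, 0, 0, 0, 0, (-3), 3, (-3), 0, 0, 0, 0, (-1), 0, 3, 0, 2])) (.leaf ([(-16733), (-14016), 11120, 22199, 11991, 56013, 12621, (-15088), 18301, (-11266), (-11616), (-42206), 25753, (-15047), 5663, 14870, (-1846), (-7128), (-1259), 229, (-41), (-88), (-375), 144, (-198), (-505), 29, 17, 216, (-120), 451, 32, (-407), 203, 548, (-230), (-193), 133, 527, (-1), (-57), (-286), (-57), (-1), 5, 2, 2, 6, 16, 10, 5, (-4), 14, 5, (-5), 0, (-5), 4, (-4), 0, 0, 0, (-9), 4, (-4), 0, 0, 0, (-4), (-2), 1, 4, 0, 3, 0, 1]))))) (.node (.node (.node (.leaf ([])) (.leaf ([]))) (.node (.leaf ([(-21413), (-23717), 16574, 29340, 2593, 38522, 9278, (-15430), 6294, (-7495), (-818), (-43282), 31294, (-12970), 7989, 14071, (-3774), (-5332), (-1416), 444, 494, (-49), (-4), 6, (-153), (-249), 14, 15, 115, (-6), 237, (-240), (-241), 174, 443, (-43), (-210), 211, 372, (-36), (-221), (-105), (-14), (-23), 4, (-2), 13, 3, (-5), (-6), (-7), (-14), 7, 8, (-7), 0, (-3), 1, (-3), 0, 0, (-1), (-1), (-3), 3, 0, 0, 0, (-3), 0, 1, (-3), 0, (-2), 0, 1])) (.leaf ([(-37332), (-40802), 28684, 48637, 5654, 65344, 15856, (-25803), 8752, (-12771), (-1433), (-70986), 53942, (-21438), 13849, 23672, (-6699), (-8850), (-2331), 755, 798, (-84), 31, 11, (-243), (-364), 19, 22, 117, 6, 353, (-377), (-368), 297, 724, (-74), (-315), 361, 528, (-56), (-355), (-181), (-28), (-37), 7, (-3), 18, 5, (-8), (-10), (-12), (-22), 12, 12, (-12), 0, (-5), 2, (-4), 0, 0, (-1), (-1), (-5), 5, 0, 0, 0, (-5), 0, 2, (-6), 0, 0, 0, 1])))) (.node (.node (.leaf ([])) (.leaf ([(-59686), (-92800), 58728, 102151, 49493, 147671, 46516, (-53452), (-24434), (-33485), (-6147), (-102402), 134203, (-42074), 28514, 52799, (-13476), (-14285), (-10157), 1255, 806, (-438), 433, (-449), (-79), 251, 9, 17, 707, 166, (-397), (-490), 165, 82, (-346), 298, 243, 597, 179, (-94), (-363), 11, 67, (-47), (-9), (-12), 37, 4, (-37), (-25), (-26), (-16), (-3), 12, (-10), 6, 1, 6, (-6), 0, (-2), (-2), (-6), (-7), 8, (-7), (-8), (-8), (-6), 5, 1, (-6), 0, (-15), 12, 12]))) (.node (.leaf ([])) (.leaf ([74000, 90539, (-61275), (-101733), (-28256), (-138556), (-39575), 53030, 1207, 30106, 3151, 129662, (-123087), 42250, (-28939), (-50573), 14278, 16170, 6708, (-1547), (-1409), 286, (-292), 159, 341, 302, (-22), (-41), (-307), (-108), (-257), 643, 373, (-451), (-846), (-10), 277, (-744), (-662), 116, 625, 258, 1, 65, (-4), 9, (-38), (-7), 26, 26, 25, 35, (-11), (-19), 20, (-3), 6, (-4), 7, 0, 0, 0, 1, 10, (-10), 2, 2, 3, 7, (-3), (-3), 11, 0, 7, (-5), (-6)])))))) (.node (.node (.node (.node (.node (.leaf ([])) (.leaf ([70765, 87351, (-59018), (-98252), (-29179), (-136547), (-38720), 51349, 1172, 29760, 4255, 123931, (-119552), 41485, (-28195), (-49562), 13832, 15852, 6674, (-1476), (-1299), 283, (-259), 163, 323, 290, (-26), (-41), (-322), (-90), (-241), 610, 346, (-414), (-768), (-13), 246, (-711), (-625), 105, 585, 245, 6, 63, (-4), 9, (-37), (-6), 24, 25, 25, 35, (-12), (-19), 20, (-3), 6, (-5), 7, 0, 0, 0, 1, 9, (-9), 2, 2, 3, 7, (-3), (-3), 11, 0, 8, (-5), (-6)]))) (.leaf ([]))) (.node (.leaf ([])) (.leaf ([4864, 4484, (-3310), (-5437), (-3246), (-8682), (-3261), 3128, (-1999), 2782, 756, 9374, (-6270), 2505, (-1422), (-3226), 726, 1036, 250, (-79), (-89), 29, 22, (-20), 47, 71, (-6), (-4), (-34), 9, (-69), 24, 64, (-61), (-138), 37, 64, (-47), (-97), 5, 32, 37, 10, 2, 0, 0, (-1), 0, (-4), (-1), 0, 3, (-3), (-2), 2, 0, 2, 0, 1, 0, (-1)])))) (.node (.node (.leaf ([])) (.leaf ([]))) (.node (.leaf ([(-9809), (-10880), 7545, 12847, 1760, 15525, 4196, (-6757), 1809, (-3331), 314, (-18511), 13767, (-5247), 3531, 6019, (-1768), (-2073), (-640), 218, 237, (-27), 21, (-14), (-64), (-72), 6, 7, 53, 4, 77, (-120), (-75), 75, 149, (-3), (-88), 107, 117, (-15), (-99), (-37), 0, (-10), 1, (-1), 5, 3, (-5), (-5), (-3), (-5), 1, 2, (-3), 0, (-1), 0, (-1), 0, 0, 0, 0, (-2), 2, 0, 0, 0, (-1), 0, 1, (-2), 0, 0, 1])) (.leaf ([0, 0, 0, 0, 0, 0, 0, 0, 0, 0, 0, 0, 0, 0, 0, 0, 0, 0, 0, 0, 0, 0, 0, 0, 0, 0, 0, 0, 0, 0, 0, 0, 0, 0, 0, 0, 0, 0, 0, 0, 0, 0, 1]))))) (.node (.node (.node (.leaf ([])) (.leaf ([910, 182, (-255), 711, 7147, 9201, 3089, (-1356), 1156, (-3027), (-3239), (-724), 3075, (-1687), 472, 2275, (-78), (-798), (-403), (-44), (-159), (-45), (-75), 29, (-15), (-36), 4, 2, 36, (-22), 22, 88, (-19), 12, 13, (-59), 34, (-10), 23, 11, 54, (-40), (-23), 6, 2, 1, (-6), 1, 9, 7, 3, 2, 5, 0, 0, 0, (-1), 1, 0, 0, 0, 0, (-2), 2, (-2), 0, 0, 0, 0, (-1), 0, 2, 1, 1]))) (.node (.leaf ([])) (.leaf ([35706, 41970, (-28475), (-49297), (-10542), (-56604), (-16773), 24454, (-5132), 14830, (-1631), 68452, (-53811), 19765, (-14973), (-24541), 7994, 8160, 2066, (-959), (-909), 153, (-76), (-6), 285, 312, (-21), (-37), 10, (-30), (-315), 384, 338, (-323), (-838), 125, 294, (-469), (-539), 73, 379, 139, 35, 42, (-7), 6, (-34), 2, 2, 9, 15, 30, (-17), (-15), 14, 0, 7, (-2), 4, 1, (-1), (-1), (-6), 5, (-6), (-3), (-2), (-1), 5, 1, 0, 8, 0, 2, 3, (-3)])))) (.node (.node (.leaf ([0, 0, 0, 0, 0, 0, 0, 0, 0, 0, 0, 0, 0, 0, 0, 0, 0, 0, 0, (-1), 0, 0, 0, 0, 0, 0, 0, 0, 0, 0, 0, 0, 0, 0, 0, 0, 0, 0, 0, 0, 0, 0, 1])) (.leaf ([]))) (.node (.leaf ([])) (.leaf ([93, (-716), 373, 311, 2671, 3318, 1039, (-229), (-1162), (-971), (-1129), 1464, 2075, (-505), 367, 833, (-156), (-159), (-234), (-17), (-59), (-15), 2, (-8), 10, 26, 0, 0, (-2), 1, (-33), 33, 26, (-14), (-45), (-1), 47, (-10), (-39), 4, 18, (-3), (-4), 1, 0, 0, (-1), 0, 2, 1, 0, 0, 1, 0, 0, 0, 0, 1, 0, 0, 0, 0, 0, 1, (-1)]))))))) (.node (.node (.node (.node (.node (.node (.leaf ([0, 0, 0, 0, 0, 0, 0, 0, 0, 0, 0, 0, 0, 0, 0, 0, 0, 0, 0, 0, 0, 0, 0, 0, 0, 0, 0, 0, 0, 0, 0, 0, 0, 0, 0, 0, 0, 0, 0, 0, 0, 0, 1])) (.leaf ([(-23899), (-30589), 20428, 31435, 10479, 42927, 12654, (-16080), (-6150), (-9012), (-529), (-35054), 41388, (-12174), 9246, 15387, (-4678), (-4388), (-2384), 512, 385, (-103), 195, (-108), (-57), 65, (-1), 9, 50, 73, (-80), (-167), 4, 91, 66, 72, 35, 258, 25, (-32), (-179), (-32), 14, (-26), 3, (-2), 18, (-4), (-12), (-10), (-8), (-9), (-1), 4, (-3), 2, (-1), 0, (-2), (-1), 0, 0, 0, (-3), 3, (-1), (-1), (-2), (-2), 2, 0, (-3), 0, (-3), 1, 3]))) (.leaf ([502, (-1916), 662, 3039, 3739, 3995, 2187, (-1457), (-1174), (-1740), (-273), (-2098), 3671, (-843), 696, 1651, (-370), (-217), (-417), 28, 11, (-34), 5, (-11), (-9), 12, 2, 3, 50, (-1), (-20), 0, 12, 7, (-8), (-6), (-7), 24, 39, (-2), 9, 10, (-10), 1, 0, 0, (-1), 0, 3, 1, (-1), (-2), 3, 2, (-2), 0, (-1), 1, 0, 0, 0, 0, 0, 0, 0, 0, 0, 0, 0, 0, 0, 0, 0, 1]))) (.node (.leaf ([])) (.leaf ([(-1044), (-1773), 1088, 2281, 1162, 3221, 987, (-1207), (-43), (-850), (-146), (-2633), 2713, (-967), 678, 1204, (-327), (-367), (-198), 18, 19, (-13), 1, (-3), (-8), (-4), 1, 0, 19, 1, 1, (-9), (-5), 7, 9, (-2), (-3), 8, 17, (-1), (-7), (-2), (-3), 0, 0, 0, 0, 0, 2, 1, 0, (-1), 1, 1])))) (.node (.node (.leaf ([])) (.leaf ([]))) (.node (.leaf ([9542, 10411, (-7381), (-15531), (-7978), (-31093), (-7927), 9606, (-7761), 6977, 4873, 25179, (-17483), 8892, (-4127), (-9493), 1631, 3906, 1078, (-165), (-64), 65, 149, (-45), 107, 226, (-18), (-10), (-161), 53, (-204), 36, 184, (-107), (-260), 100, 115, (-88), (-272), 5, 51, 114, 26, 3, (-2), 0, (-1), (-4), (-5), (-2), (-1), 4, (-7), (-3), 4, 0, 3, (-2), 2, 0, 0, 0, 4, (-1), 1, 0, 0, 0, 2, 1, (-1), (-1), 0, (-1), (-1), (-1)])) (.leaf ([36387, 40044, (-28026), (-47739), (-5452), (-62378), (-15494), 25081, (-8162), 12502, 794, 69585, (-52563), 20739, (-13628), (-23142), 6672, 8557, 2203, (-748), (-807), 86, (-42), (-19), 245, 356, (-18), (-22), (-89), (-11), (-351), 373, 363, (-300), (-741), 83, 319, (-359), (-525), 56, 350, 177, 30, 37, (-7), 3, (-18), (-5), 8, 10, 13, 22, (-12), (-12), 12, 0, 5, (-2), 4, 0, 0, 1, 0, 5, (-5), 0, 0, 0, 5, 0, (-2), 6, 0, 0, 0, (-1)]))))) (.node (.node (.node (.leaf ([])) (.leaf ([]))) (.node (.leaf ([])) (.leaf ([7008, 10722, (-6772), (-9395), (-2838), (-8318), (-3507), 4193, 6940, 1886, (-1966), 6784, (-13602), 2357, (-2794), (-3837), 1584, 463, 865, (-155), (-173), 27, (-164), 74, (-24), (-120), 10, 0, 9, (-58), 124, 74, (-81), 3, 80, (-80), (-60), (-72), 78, 16, 65, (-35), (-19), 10, 1, 2, (-4), 2, 9, 6, 5, 2, 3, (-1), 1, (-1), (-1), 0, 0, 0, 0, 0, (-1), 2, (-2), 1, 1, 1, 0, (-1), 0, 2, 0, 1, (-1), (-1)])))) (.node (.node (.leaf ([])) (.leaf ([10920, 11933, (-8423), (-13383), (-1870), (-18677), (-4240), 7086, (-1647), 3482, 591, 18486, (-15585), 5943, (-4148), (-6665), 2043, 2468, 704, (-235), (-195), 25, (-22), 17, 57, 50, (-3), (-6), (-12), (-10), (-51), 90, 67, (-67), (-132), 5, 45, (-116), (-85), 13, 98, 33, 10, 9, (-3), 0, (-5), 1, 0, 1, 2, 5, (-3), (-3), 2, 0, 1, 0, 1, 0, 0, 0, 0, 1, (-1), 0, 0, 0, 1, 0, 0, 1, 0, 0, 1]))) (.node (.leaf ([])) (.leaf ([(-71049), (-86589), 58728, 97428, 26449, 133465, 37634, (-50873), (-429), (-28686), (-3382), (-124434), 117643, (-40863), 27749, 48574, (-13626), (-15646), (-6434), 1488, 1346, (-264), 267, (-158), (-321), (-304), 25, 40, 315, 94, 262, (-632), (-366), 422, 805, 18, (-275), 714, 651, (-111), (-602), (-244), 0, (-65), 4, (-9), 38, 6, (-26), (-27), (-25), (-35), 11, 19, (-20), 3, (-6), 4, (-7), 0, 0, 0, (-1), (-10), 10, (-2), (-2), (-3), (-7), 3, 3, (-11), 0, (-7), 5, 6])))))) (.node (.node (.node (.node (.node (.leaf ([])) (.leaf ([9725, 9332, (-6977), (-9502), (-182), (-13798), (-2563), 5136, (-1375), 2146, 442, 13621, (-11556), 4556, (-3190), (-4844), 1573, 1915, 426, (-204), (-147), 9, (-18), 25, 39, 27, 0, (-4), 7, (-8), (-26), 78, 40, (-44), (-77), (-13), 19, (-100), (-24), 8, 84, 11, 2, 10, (-3), 0, (-6), 2, 3, 2, 1, 4, (-1), (-1), 0, 0, 1, 1, 1, 1, 0, 0, 0, 1, (-1), 0, 0, 0, 1, 0, 0, 1, 0, 0, 1]))) (.leaf ([(-9883), (-9834), 7100, 11382, 1277, 13306, 3718, (-6100), 2372, (-3098), 552, (-17741), 12002, (-4786), 3192, 5498, (-1640), (-1924), (-444), 203, 240, (-20), 15, 0, (-69), (-86), 6, 6, 33, 2, 95, (-116), (-86), 83, 180, (-13), (-101), 98, 114, (-14), (-100), (-38), 4, (-10), 1, (-1), 5, 0, (-6), (-5), (-2), (-4), 0, 1, (-2), 0, (-1), (-1), (-1), 0, 0, 0, 0, (-2), 2, 0, 0, 0, (-1), 0, 1, (-2), 0, 0, 1]))) (.node (.leaf ([])) (.leaf ([(-11453), (-12140), 8716, 13794, 3399, 21242, 5296, (-7570), 2152, (-4336), (-1332), (-19447), 16671, (-6469), 4026, 7180, (-1897), (-2608), (-850), 188, 192, (-30), 13, (-15), (-61), (-81), 8, 4, 65, 0, 77, (-86), (-79), 72, 142, (-8), (-54), 80, 95, (-13), (-96), (-53), (-4), (-8), 1, (-1), 3, 0, (-2), (-3), (-2), (-4), 2, 2, (-3), 0, (-1), 1, (-1), 0, 0, 0, (-1), (-1), 1, 0, 0, 0, (-1), 0, 1, (-1), 0, 0, 1, 1])))) (.node (.node (.leaf ([])) (.leaf ([0, 0, 0, 0, 0, 0, 0, 0, 0, 0, 0, 0, 0, 0, 0, 0, 0, 0, 0, 0, 0, 0, 0, 0, 0, 0, 0, 0, 0, 0, 0, 0, 0, 0, 0, 0, 0, 0, 0, 0, 0, 0, 0, 0, 0, 0, 2, (-1)]))) (.node (.leaf ([])) (.leaf ([3443, 4138, (-2926), (-7746), (-4251), (-18803), (-3975), 5135, (-5464), 3692, 3886, 12907, (-8645), 5435, (-2086), (-5265), 635, 2482, 625, (-59), 46, 31, 129, (-35), 54, 159, (-11), (-6), (-104), 45, (-138), 0, 120, (-40), (-135), 70, 47, (-26), (-168), (-1), 8, 73, 17, 1, (-2), 0, 1, (-5), (-1), (-1), (-1), 1, (-4), (-1), 2, 0, 1, (-2), 1, 0, 1, 0, 4, (-1), 1, 0, 0, 0, 2, 1, (-1), (-1), 0, (-1), (-1), (-1)]))))) (.node (.node (.node (.leaf ([])) (.leaf ([]))) (.node (.leaf ([])) (.leaf ([1870, 2221, (-1702), (-1694), (-4041), (-8336), (-2189), 1091, 543, 2034, 2426, 400, (-4926), 1662, (-838), (-2047), 314, 707, 366, 9, 74, 21, 5, 3, (-6), (-8), (-3), 2, (-8), 3, 21, (-56), (-9), 2, 8, 17, (-55), 13, 17, (-2), (-16), 18, 7, (-2), (-1), (-1), 1, 0, (-1), (-3), 0, (-1), (-2), 0, 0, 0, 0, (-1), 0, 0, 0, 0, 1, (-1), 1, 0, 0, 0, 1, 0, 1, (-1), 0, 0, 0, (-1)])))) (.node (.node (.leaf ([])) (.leaf ([9029, 8530, (-6355), (-9346), (-2996), (-14876), (-4101), 5345, (-2164), 3343, 1044, 14341, (-11294), 4390, (-2626), (-5053), 1262, 1769, 537, (-154), (-143), 25, (-1), 6, 48, 52, (-9), (-4), (-61), 0, (-60), 60, 58, (-64), (-109), 12, 55, (-74), (-82), 10, 69, 44, (-3), 6, (-1), 0, (-5), (-1), 6, 3, 1, 2, 0, 0, 1, 0, 1, 1, 1, 0, 0, 0, 0, 1, (-1), 0, 0, 0, 1, 0, 0, 1, 0, 0, (-1)]))) (.node (.leaf ([(-6658), (-6183), 4596, 7057, (-2151), 8120, 1255, (-3516), 1990, (-824), 333, (-11513), 7241, (-2737), 1883, 2739, (-944), (-1252), (-70), 148, 173, 12, 26, 12, (-44), (-73), 0, 5, (-32), 6, 80, (-66), (-81), 62, 168, (-11), (-73), 74, 97, (-13), (-78), (-42), (-4), (-10), 3, 0, 3, 2, (-3), (-3), (-2), (-4), 1, 2, (-2), 0, (-1), 0, (-1), 0, 0, 0, 0, (-1), 1, 0, 0, 0, (-1), 0, 0, (-1), 0, 0, (-1)])) (.leaf ([])))))))))) (.node (.node (.node (.node (.node (.node (.node (.node (.node (.leaf ([])) (.leaf ([(-9809), (-11995), 8129, 15989, (-1474), 20116, 3082, (-8883), 3601, (-2454), 318, (-23452), 15951, (-7420), 4630, 7151, (-2078), (-2981), (-826), 232, 228, (-3), (-13), (-13), (-77), (-138), 5, 10, 96, (-12), 124, (-180), (-118), 55, 148, 10, (-100), 100, 123, (-10), (-122), (-26), 0, (-14), 2, (-2), 2, 1, (-7), (-6), (-3), (-5), 1, 2, (-3), 0, 0, 1, (-1), 0, (-1), 0, (-3), (-2), 2, 0, 0, 0, (-3), 0, 2, (-2), 0, 1, 1]))) (.leaf ([0, 0, 0, 0, 0, 0, 0, 0, 0, 0, 0, 0, 0, 0, 0, 0, 0, 0, 0, 0, 0, 0, 0, 0, 0, 0, 0, 0, 0, 0, 0, 0, 0, 0, 0, 0, 0, 0, 0, 0, 0, 0, 1, 0, 0, 0, 1]))) (.node (.leaf ([])) (.leaf ([5045, 4105, (-3232), (-4942), (-2144), (-9729), (-2608), 3217, (-2639), 2145, 1255, 9141, (-5821), 2688, (-1249), (-2901), 538, 1166, 240, (-80), (-58), 18, 35, (-11), 38, 69, (-4), (-3), (-37), 12, (-66), 25, 58, (-47), (-90), 22, 45, (-45), (-63), 1, 32, 43, 1, 3, 0, 0, (-2), 0, 1, 2, (-1), 1, 0, 0, 1, 0, 1, 0, 1, 0, 0, 0, 1, 0, 0, 0, 0, 0, 0, 0, (-1), 0, 0, 0, (-1)])))) (.node (.node (.leaf ([])) (.leaf ([0, 0, 0, 0, 0, 0, 0, 0, 0, 0, 0, 0, 0, 0, 0, 0, 0, 0, 0, 0, 0, 0, 0, 0, 0, 0, 0, 0, 0, 0, 0, 0, 0, 0, 0, 0, 0, 0, 0, 0, 0, 0, 0, 1]))) (.node (.leaf ([])) (.leaf ([]))))) (.node (.node (.node (.node (.leaf ([])) (.leaf ([1149, 1452, (-973), (-1923), (-847), (-2977), (-711), 1199, (-473), 697, 152, 2803, (-2106), 1038, (-675), (-1140), 324, 437, 130, (-23), (-7), 7, 14, 1, 9, 14, 0, (-1), (-11), 3, (-10), 14, 10, (-4), (-8), 4, 3, (-11), (-11), 0, 6, 3, 1, (-1), 0, 0, 1, 0, 0, 0, 0, 0, (-1), 0, 0, 0, 0, 0, 0, 0, 0, 0, 0, 0, 0, 0, 0, 0, 0, 1]))) (.leaf ([]))) (.node (.leaf ([])) (.leaf ([])))) (.node (.node (.leaf ([])) (.leaf ([(-41308), (-57665), 37710, 63214, 25235, 92774, 27204, (-33300), (-10120), (-19633), (-4297), (-68924), 81898, (-26780), 17798, 32390, (-8370), (-9522), (-5697), 824, 569, (-222), 234, (-234), (-81), 62, 4, 13, 362, 91, (-136), (-322), 7, 107, (-40), 149, 82, 394, 170, (-56), (-278), (-49), 28, (-34), (-1), (-6), 22, 2, (-22), (-15), (-15), (-12), 0, 8, (-7), 3, 0, 3, (-4), 0, (-1), (-1), (-4), (-5), 5, (-4), (-4), (-4), (-4), 3, 1, (-4), 0, (-8), 6, 6]))) (.node (.leaf ([(-5061), (-5043), 3650, 6473, 2613, 11552, 2981, (-3982), 2456, (-2448), (-1230), (-10465), 7448, (-3094), 1626, 3408, (-712), (-1319), (-396), 92, 71, (-25), (-24), 2, (-41), (-59), 4, 3, 58, (-10), 53, (-27), (-52), 49, 76, (-16), (-44), 51, 70, (-3), (-36), (-36), (-3), (-2), 0, 0, 2, 0, 1, (-1), 1, (-2), 1, 1, (-1), 0, (-1), 0, (-1), 0, 0, 0, (-1), 0, 0, 0, 0, 0, 0, 0, 1])) (.leaf ([2611, 4113, (-2587), (-3854), 2788, 1199, 863, 1092, 2291, (-635), (-2425), 2665, (-3615), 680, (-1543), (-894), 934, 103, 167, (-52), (-173), (-18), (-103), 39, (-2), (-56), 0, 1, 30, (-28), 39, 86, (-31), 6, 10, (-46), 14, (-6), 39, 11, 57, (-39), (-6), 6, 0, 2, (-2), 1, 4, 4, 4, 4, 0, (-2), 2, 0, 0, 0, 0, 0, 0, 0, (-2), 2, (-2), 0, 0, 0, 0, 0, 0, 2, 0, 3])))))) (.node (.node (.node (.node (.node (.leaf ([])) (.leaf ([]))) (.leaf ([(-11568), (-12870), 8939, 17770, 2478, 23314, 5934, (-9572), 6159, (-5212), (-794), (-27800), 17279, (-8281), 4766, 8926, (-2203), (-3452), (-876), 264, 287, (-39), (-56), 15, (-115), (-196), 18, 10, 129, (-28), 193, (-157), (-175), 115, 298, (-53), (-176), 126, 279, (-19), (-121), (-63), (-12), (-11), 1, (-2), 9, 2, (-2), (-4), (-4), (-9), 6, 5, (-6), 0, (-3), 1, (-2), 0, 0, 0, (-1), (-2), 2, 0, 0, 0, (-2), 0, 1, (-2), 0, (-1), 1, 1]))) (.node (.leaf ([])) (.leaf ([])))) (.node (.node (.leaf ([])) (.leaf ([(-23196), (-24004), 16876, 28751, 4250, 31048, 10273, (-14087), 6448, (-8908), 1497, (-45419), 29724, (-11137), 7931, 13902, (-4338), (-4720), (-652), 616, 665, (-86), 18, 69, (-215), (-327), 19, 29, (-29), 2, 337, (-251), (-322), 272, 763, (-132), (-296), 303, 470, (-56), (-262), (-161), (-22), (-26), 2, (-3), 25, 2, (-2), (-10), (-12), (-22), 10, 11, (-12), 1, (-5), 2, (-3), 0, 1, 1, 4, (-4), 4, 2, 2, 0, (-3), 0, 1, (-6), 0, (-1), (-1), 2]))) (.node (.leaf ([])) (.leaf ([(-9212), (-10850), 7275, 15945, 1987, 18802, 5428, (-8376), 5605, (-4549), (-89), (-25407), 14403, (-6865), 3797, 7573, (-1766), (-2850), (-713), 247, 288, (-41), (-53), 25, (-112), (-197), 16, 11, 122, (-27), 195, (-149), (-175), 116, 310, (-58), (-193), 125, 307, (-22), (-107), (-59), (-11), (-12), 1, (-2), 7, 3, (-3), (-5), (-4), (-9), 5, 5, (-6), 0, (-3), 1, (-2), 0, 0, 0, (-1), (-2), 2, 0, 0, 0, (-2), 0, 1, (-2), 0, 0, 1, 1]))))) (.node (.node (.node (.leaf ([])) (.leaf ([]))) (.node (.leaf ([])) (.leaf ([(-21737), (-35425), 22170, 31881, 20206, 42419, 16416, (-15886), (-22178), (-10317), 834, (-21012), 49188, (-10648), 9427, 15990, (-4876), (-2508), (-3991), 451, 248, (-162), 388, (-288), 108, 449, (-23), (-2), 163, 152, (-498), (-142), 346, (-74), (-546), 265, 318, 222, (-335), (-32), (-105), 122, 69, (-10), (-9), (-5), 15, (-6), (-23), (-14), (-11), 1, (-12), 0, 0, 3, 4, 0, 0, 0, 0, 0, 0, (-5), 4, (-4), (-4), (-4), 1, 4, 0, (-3), 0, (-8), 6, 5])))) (.node (.node (.leaf ([])) (.leaf ([]))) (.node (.leaf ([])) (.leaf ([(-398), 232, (-219), (-2605), (-8966), (-20487), (-4207), 3568, (-4346), 4021, 6583, 4145, (-6136), 4063, (-969), (-3866), (-34), 1942, 781, 73, 302, 54, 168, (-30), 22, 84, (-7), (-1), (-133), 53, (-43), (-119), 41, 3, 62, 65, (-67), 28, (-14), (-25), (-79), 70, 20, (-12), 0, (-2), 9, (-2), (-10), (-10), (-6), (-6), (-4), 2, (-2), 0, 0, (-2), 0, 0, 0, 0, 6, (-4), 4, 0, 0, 0, 2, 0, 0, (-4), 0, (-2)]))))))) (.node (.node (.node (.node (.node (.node (.leaf ([])) (.leaf ([(-100479), (-120573), 82294, 133148, 34264, 182854, 50717, (-70153), (-2970), (-37902), (-3787), (-169599), 162748, (-55726), 38054, 65821, (-18629), (-21164), (-8964), 2038, 1857, (-346), 424, (-267), (-400), (-312), 17, 47, 439, 157, 234, (-888), (-420), 554, 936, 105, (-320), 989, 765, (-149), (-834), (-279), 13, (-84), 4, (-11), 52, 5, (-38), (-35), (-33), (-44), 12, 24, (-24), 3, (-7), 4, (-9), 0, 0, (-2), (-3), (-14), 14, (-4), (-4), (-4), (-9), 4, 5, (-15), 0, (-8), 6, 7]))) (.leaf ([]))) (.node (.leaf ([])) (.leaf ([])))) (.node (.node (.leaf ([])) (.leaf ([18585, 30019, (-18812), (-27757), (-18275), (-38403), (-14572), 13745, 17203, 9786, 73, 20036, (-42749), 9528, (-8451), (-14392), 4443, 2608, 3155, (-378), (-225), 147, (-320), 184, (-60), (-306), 14, 0, (-61), (-125), 339, 85, (-221), 12, 264, (-148), (-231), (-181), 203, 31, 88, (-47), (-40), 12, 6, 4, (-12), 4, 14, 11, 10, 3, 6, (-2), 2, (-3), (-2), (-1), 0, 0, 0, 0, (-1), 3, (-3), 2, 2, 3, 0, (-3), 0, 3, 0, 5, (-4), (-4)]))) (.node (.leaf ([19115, 18722, (-13786), (-31608), (-24405), (-78376), (-20547), 21625, (-23287), 18263, 16017, 57317, (-36822), 20433, (-7911), (-21636), 2737, 9422, 2240, (-270), 120, 179, 538, (-200), 287, 670, (-40), (-27), (-387), 178, (-587), (-64), 517, (-286), (-697), 341, 284, (-177), (-702), (-10), 18, 372, 91, (-18), (-2), (-5), 5, (-12), (-28), (-17), (-8), 4, (-22), (-7), 9, 0, 8, (-6), 4, (-1), 0, 0, 12, (-6), 6, 0, 0, 0, 4, 3, (-2), (-6), 0, (-6), (-2), (-1)])) (.leaf ([(-3567), (-6786), 3985, 6565, 1584, 2448, 1921, (-2430), (-4578), (-1309), 2348, (-4551), 8010, (-1307), 2033, 2546, (-1256), (-197), (-482), 105, 164, (-21), 108, (-44), 0, 69, (-3), 2, (-16), 38, (-67), (-71), 45, 3, (-9), 38, 14, 44, (-17), (-16), (-52), 34, 9, (-7), 0, (-2), 2, (-1), (-5), (-4), (-3), (-3), (-1), 1, (-1), 0, 0, 0, 0, 0, 0, 0, 2, (-1), 2, 0, 0, 0, 0, 0, 0, (-2), 0, (-1)]))))) (.node (.node (.node (.leaf ([0, 0, 0, 0, 0, 0, 0, 0, 0, 0, 0, 0, 0, 0, 0, 0, 0, 0, 0, 0, 0, 0, 0, 0, 0, 0, 0, 0, 0, 0, 0, 0, 0, 0, 0, 0, 0, 0, 0, 0, 0, 0, 0, 1])) (.leaf ([]))) (.node (.leaf ([])) (.leaf ([0, 0, 0, 0, 0, 0, 0, 0, 0, 0, 0, 0, 0, 0, 0, 0, 0, 0, 0, 0, 0, 0, 0, 0, 0, 0, 0, 0, 0, 0, 0, 0, 0, 0, 0, 0, 0, 0, 0, 0, 0, 0, 0, 1])))) (.node (.node (.leaf ([(-8151), (-7940), 5836, 9623, 496, 15094, 3162, (-5557), 3085, (-2295), (-1018), (-15368), 10587, (-4501), 2525, 4547, (-1111), (-1902), (-479), 157, 133, (-8), (-15), (-5), (-43), (-75), 5, 4, 63, (-6), 75, (-74), (-76), 58, 107, (-4), (-65), 80, 101, (-8), (-71), (-48), (-4), (-7), 2, 0, 3, 1, (-3), (-3), (-1), (-3), 1, 1, (-2), 0, (-1), 0, (-1), 0, 0, 0, (-1), (-1), 1, 0, 0, 0, (-1), 0, 1, (-1), 0, 0, 1])) (.leaf ([]))) (.node (.leaf ([])) (.leaf ([4837, 4049, (-3145), (-3987), (-4491), (-9336), (-3619), 2260, (-1254), 2990, 1781, 6493, (-6241), 1694, (-1019), (-2660), 563, 827, 193, (-50), (-48), 33, (-1), (-24), 34, 31, (-4), 1, 16, (-3), (-38), (-42), 43, (-66), (-127), 47, 25, (-36), (-72), 4, 16, 61, 11, (-2), 0, (-1), (-2), 1, (-6), (-3), (-1), 2, (-3), (-2), 1, 0, 2, 0, 1, 0, (-1), 0, (-1), (-1), 1, 0, 0, 0, (-1), 0, 1, (-1), 0, 1, 1])))))) (.node (.node (.node (.node (.node (.leaf ([])) (.leaf ([]))) (.leaf ([]))) (.node (.leaf ([])) (.leaf ([])))) (.node (.node (.leaf ([])) (.leaf ([]))) (.node (.leaf ([0, 0, 0, 0, 0, 0, 0, 0, 0, 0, 0, 0, 0, 0, 0, 0, 0, 0, 0, 0, 0, 0, 0, 0, 0, 0, 0, 0, 0, 0, 0, 0, 0, 0, 0, 0, 0, 0, 0, 0, 0, 0, 0, 1])) (.leaf ([(-2923), (-946), 1281, 111, 7168, 7581, 3621, (-764), 1800, (-3425), (-3005), (-1386), 2660, (-858), (-45), 1796, 43, (-427), (-243), (-29), (-35), (-45), (-35), 11, (-22), (-11), 12, (-2), 55, (-15), 20, 75, (-7), 41, 28, (-39), (-6), (-3), 29, 4, 20, (-53), (-3), 3, 0, 1, 1, 1, 1, 2, 2, 1, 1, (-1), 0, 0, (-2), (-1), (-1), 0, 1, 0, 1, 1, (-1), 0, 0, 0, 1, 0, (-1), 1, 0, (-1), 1]))))) (.node (.node (.node (.leaf ([])) (.leaf ([]))) (.node (.leaf ([])) (.leaf ([(-5607), (-6409), 4309, 8278, 1949, 9798, 3157, (-4533), 1746, (-2412), 252, (-12685), 8214, (-3088), 1971, 3726, (-994), (-1198), (-427), 125, 161, (-24), 6, (-2), (-52), (-55), 7, 5, 63, 0, 66, (-76), (-57), 58, 103, (-10), (-82), 66, 97, (-10), (-59), (-32), 2, (-6), 0, (-1), 4, 0, (-3), (-4), (-1), (-3), 0, 1, (-2), 0, (-1), 0, (-1), 0, 0, 0, 0, (-1), 1, 0, 0, 0, 0, 0, 1, (-1), 0, 0, 1])))) (.node (.node (.leaf ([])) (.leaf ([60, (-1019), 395, 1938, 1212, 2170, 1067, (-914), 13, (-802), (-33), (-2350), 1892, (-520), 369, 847, (-192), (-210), (-138), 2, 29, (-12), 5, 10, (-9), (-21), 1, 1, 11, 1, 20, (-3), (-21), 16, 49, (-15), (-21), 3, 52, (-3), (-4), (-14), (-8), 1, 0, 0, (-1), 0, 3, 1, (-1), (-1), 2, 2, (-2), 0, 0, 1, 0, 1]))) (.node (.leaf ([23203, 24090, (-16920), (-28868), (-4302), (-31248), (-10318), 14139, (-6411), 8938, (-1460), 45471, (-29867), 11198, (-7951), (-13971), 4342, 4743, 667, (-616), (-665), 86, (-18), (-69), 215, 327, (-19), (-29), 29, (-2), (-337), 251, 322, (-272), (-763), 132, 296, (-303), (-474), 56, 262, 161, 22, 27, (-2), 3, (-25), (-2), 2, 10, 12, 22, (-10), (-11), 12, (-1), 5, (-2), 3, 0, (-1), (-1), (-4), 4, (-4), (-2), (-2), 0, 3, 0, (-1), 6, 0, 1, 1, (-2)])) (.leaf ([(-34537), (-38632), 26932, 46510, 8193, 64176, 16144, (-24912), 8175, (-13161), (-2089), (-67006), 51993, (-20689), 13150, 23103, (-6310), (-8427), (-2477), 691, 725, (-99), 12, 0, (-234), (-339), 22, 23, 172, (-3), 323, (-346), (-332), 272, 635, (-68), (-289), 331, 489, (-50), (-323), (-165), (-26), (-30), 5, (-3), 16, 4, (-6), (-9), (-10), (-20), 11, 11, (-11), 0, (-5), 2, (-4), 0, 0, (-1), (-1), (-4), 4, 0, 0, 0, (-4), 0, 2, (-5), 0, (-1), 1, 1])))))))) (.node (.node (.node (.node (.node (.node (.node (.leaf ([])) (.leaf ([2978, 6605, (-3658), (-7481), (-1025), (-2042), (-1954), 2903, 3659, 1270, (-2845), 6761, (-7700), 1370, (-1983), (-2606), 1224, 235, 467, (-118), (-212), 26, (-102), 31, 16, (-38), 2, (-3), (-6), (-35), 34, 90, (-15), (-21), (-44), (-27), 29, (-54), (-48), 19, 63, (-31), (-6), 8, 0, 2, (-2), 1, 4, 4, 4, 4, 0, (-2), 2, 0, 0, 0, 0, 0, 0, 0, (-2), 2, (-2), 0, 0, 0, 0, 0, 0, 2, 0, 1]))) (.leaf ([0, 0, 0, 0, 0, 0, 0, 0, 0, 0, 0, 0, 0, 0, 0, 0, 0, 0, 0, 0, 0, 0, 0, 0, 0, 0, 0, 0, 0, 0, 0, 0, 0, 0, 0, 0, 0, 0, 0, 0, 0, 0, 0, 1]))) (.node (.leaf ([])) (.leaf ([])))) (.node (.node (.leaf ([])) (.leaf ([]))) (.node (.leaf ([])) (.leaf ([44385, 41906, (-31046), (-68305), (-42812), (-152581), (-40713), 44892, (-48408), 35626, 28303, 124770, (-74812), 41349, (-16169), (-43647), 5790, 18727, 4407, (-770), (-93), 335, 1022, (-338), 610, 1344, (-90), (-61), (-885), 362, (-1209), 71, 1045, (-623), (-1435), 612, 744, (-473), (-1463), (-2), 136, 678, 153, (-25), 0, (-10), (-2), (-27), (-39), (-18), (-12), 14, (-37), (-14), 21, 0, 17, (-10), 9, (-2), 0, 0, 23, (-8), 8, 0, 0, 0, 9, 4, (-6), (-8), 2, (-14), (-7), (-3)]))))) (.node (.node (.node (.node (.leaf ([])) (.leaf ([(-2718), 9661, (-3681), 9207, 17668, 58250, 13208, (-11922), 47675, (-15407), (-21223), (-48975), 607, (-14930), 604, 12539, 1339, (-8782), 367, (-132), (-391), (-102), (-1042), 460, (-432), (-1159), 64, 31, 470, (-365), 1091, 250, (-869), 415, 1202, (-637), (-634), 7, 1169, 45, 103, (-532), (-183), 62, 2, 13, (-29), 26, 64, 41, 22, (-1), 41, 10, (-13), (-4), (-14), 8, (-4), 3, 0, 0, (-14), 12, (-12), 2, 2, 4, (-2), (-7), 2, 12, 1, 15, (-1), (-4)]))) (.leaf ([8802, 11136, (-7228), (-16952), (-2830), (-18866), (-6205), 8678, (-5647), 5167, (-189), 26893, (-15009), 6948, (-3891), (-7978), 1847, 2877, 736, (-243), (-313), 51, 53, (-42), 122, 223, (-17), (-12), (-127), 26, (-219), 150, 200, (-132), (-372), 80, 216, (-124), (-370), 25, 110, 74, 19, 12, (-1), 2, (-6), (-3), 0, 4, 5, 10, (-7), (-7), 8, 0, 3, (-2), 2, (-1), 0, 0, 1, 2, (-2), 0, 0, 0, 2, 0, (-1), 2, 0, 0, (-1), (-1)]))) (.node (.leaf ([])) (.leaf ([])))) (.node (.node (.leaf ([])) (.leaf ([]))) (.node (.leaf ([])) (.leaf ([0, 0, 0, 0, 0, 0, 0, 0, 0, 0, 0, 0, 0, 0, 0, 0, 0, 0, 0, 0, 0, 0, 0, 0, 0, 0, 0, 0, 0, 0, 0, 0, 0, 0, 0, 0, 0, 0, 0, 0, 0, 0, 0, 1])))))) (.node (.node (.node (.node (.node (.leaf ([])) (.leaf ([5254, 4913, (-3725), (-5778), (-1466), (-10772), (-2402), 3688, (-2031), 1887, 1148, 9425, (-6910), 3250, (-1748), (-3313), 748, 1373, 388, (-85), (-35), 11, 33, 0, 20, 49, 0, 0, (-38), 7, (-40), 35, 44, (-27), (-47), 6, 18, (-42), (-48), 1, 30, 26, 4, (-2), 0, 0, 2, 0, 0, (-2), 1, 0, (-2), (-1), 1, 0, 0, 0, 0, 0, 0, 0, 1, 1, 0, 1, 1]))) (.leaf ([4130, 3578, (-2816), (-3297), (-1273), (-5704), (-1547), 1967, (-461), 1436, 344, 5297, (-4716), 1998, (-1465), (-2297), 779, 862, 112, (-30), (-36), 2, 10, (-11), 14, 27, 3, 1, 36, (-4), (-24), 17, 26, (-21), (-65), 17, (-1), (-7), (-3), 1, 24, 22, 3, (-3), 0, 0, 3, 0, (-1), (-2), (-1), 0, (-2), 0, 0, 1, 0, 0, 0, 0, 0, 0, 0, 0, 0, 0, 0, (-1), 0, 1, 0, 0, 0, 0, 0, 1]))) (.node (.leaf ([(-190), (-1346), 581, 1730, (-752), (-2119), (-56), (-362), (-1147), 110, 1562, (-1424), 909, 69, 391, 252, (-306), 139, (-36), 40, 87, (-2), 37, (-9), (-8), 9, 0, 2, (-5), 11, (-2), (-42), 2, 6, 23, 10, (-24), 18, 23, (-7), (-23), 15, 3, (-4), 0, (-1), 2, (-1), (-2), (-2), (-2), (-2), 0, 1, (-1), 0, 0, 0, 0, 0, 0, 0, 1, (-1), 1, 0, 0, 0, 0, 0, 0, (-1)])) (.leaf ([(-4864), (-4484), 3310, 5437, 3246, 8682, 3261, (-3128), 1999, (-2782), (-756), (-9374), 6270, (-2505), 1422, 3226, (-726), (-1036), (-250), 79, 89, (-29), (-22), 20, (-47), (-71), 6, 4, 34, (-9), 69, (-24), (-64), 61, 138, (-37), (-64), 47, 97, (-5), (-32), (-37), (-9), (-1), 0, 0, 1, 0, 3, 1, 0, (-3), 3, 2, (-2), 0, (-2), 0, (-1), 0, 1])))) (.node (.node (.leaf ([])) (.leaf ([]))) (.node (.leaf ([1004, 1488, (-934), (-2118), (-1610), (-3490), (-1272), 1216, (-406), 1087, 348, 2987, (-2489), 935, (-573), (-1246), 281, 369, 169, (-21), (-21), 12, 5, (-5), 13, 17, (-2), (-1), (-19), 3, (-15), 5, 16, (-18), (-37), 13, 20, (-13), (-32), 1, 5, 6, 6, (-1), 0, 0, 1, 0, (-2), (-1), 0, 1, (-2), (-1), 1, 0, 1])) (.leaf ([90639, 124392, (-81581), (-140357), (-51539), (-202151), (-58362), 74185, 13977, 43034, 8577, 160994, (-175790), 59748, (-39302), (-71362), 18514, 21759, 11887, (-1841), (-1412), 470, (-418), 438, 277, 73, (-28), (-35), (-829), (-153), 69, 785, 159, (-320), (-222), (-238), 23, (-873), (-597), 131, 661, 159, (-46), 78, 2, 14, (-51), (-9), 45, 34, 33, 32, (-5), (-20), 19, (-6), 3, (-7), 10, 0, 2, 2, 8, 11, (-12), 7, 8, 8, 10, (-5), (-3), 10, 0, 17, (-13), (-13)]))))) (.node (.node (.node (.leaf ([])) (.leaf ([(-1161), (-1308), 952, 1431, 1247, 3497, 844, (-945), 262, (-786), (-623), (-1737), 2117, (-984), 573, 1097, (-249), (-392), (-174), 11, (-13), (-7), (-11), (-4), (-2), (-1), 1, 0, 15, (-3), (-2), (-1), 0, 0, (-10), (-1), 9, 5, (-5), 2, (-1), (-3), (-2), 1, 0, 0, (-1), 0, 1, 1, 0, 0, 1]))) (.node (.leaf ([])) (.leaf ([0, 0, 0, 0, 0, 0, 0, 0, 0, 0, 0, 0, 0, 0, 0, 0, 0, 0, 0, (-1), 0, 0, 0, 0, 0, 0, 0, 0, 0, 0, 0, 0, 0, 0, 0, 0, 0, 0, 0, 0, 0, 0, (-1), 1, 0, 0, (-1), 0, 1, 1, 0, 1])))) (.node (.node (.leaf ([])) (.leaf ([(-90639), (-124392), 81581, 140357, 51539, 202151, 58362, (-74185), (-13977), (-43034), (-8577), (-160994), 175790, (-59748), 39302, 71362, (-18514), (-21759), (-11887), 1840, 1412, (-470), 418, (-438), (-277), (-73), 28, 35, 829, 153, (-69), (-785), (-159), 320, 222, 238, (-23), 873, 597, (-131), (-661), (-159), 46, (-77), (-2), (-14), 51, 9, (-45), (-34), (-33), (-32), 5, 20, (-19), 6, (-3), 7, (-10), 0, (-2), (-2), (-8), (-11), 12, (-7), (-8), (-8), (-10), 5, 3, (-10), 0, (-17), 13, 13]))) (.node (.leaf ([0, 0, 0, 0, 0, 0, 0, 0, 0, 0, 0, 0, 0, 0, 0, 0, 0, 0, 0, 0, 0, 0, 0, 0, 0, 0, 0, 0, 0, 0, 0, 0, 0, 0, 0, 0, 0, 0, 0, 0, 0, 0, (-1), 1, 0, 0, (-1)])) (.leaf ([24157, 53538, (-31242), (-55455), (-45787), (-86777), (-32248), 28992, 32127, 21979, 5599, 34732, (-82515), 21908, (-14912), (-30549), 6806, 5904, 8058, (-555), 3, 368, (-355), 467, (-157), (-588), 7, 0, (-648), (-146), 733, 127, (-516), 210, 1074, (-372), (-549), (-269), 299, 41, 11, (-183), (-97), 11, 16, 9, (-20), 1, 30, 15, 13, (-6), 15, 0, (-2), (-6), (-6), (-4), 2, 0, 2, 1, 6, 2, (-3), 7, 8, 8, 1, (-5), 1, 0, 0, 15, (-12), (-11)]))))))) (.node (.node (.node (.node (.node (.node (.leaf ([])) (.leaf ([338, (-1029), 293, 2123, 1206, 1241, 881, (-989), (-132), (-724), 399, (-2333), 1586, (-510), 402, 860, (-217), (-149), (-188), 32, 29, (-17), (-1), (-3), (-13), (-8), 1, 2, 33, (-2), 7, (-18), (-6), 8, 11, (-4), (-23), 22, 37, (-2), (-3), 9, (-4), 0, 0, 0, 0, 0, 1, 0, (-1), (-1), 1, 1, (-1), 1]))) (.leaf ([]))) (.node (.leaf ([])) (.leaf ([(-18337), (-29831), 18648, 27562, 18496, 37864, 14653, (-13594), (-17346), (-9847), 8, (-19717), 42497, (-9372), 8361, 14308, (-4413), (-2534), (-3147), 374, 223, (-149), 320, (-184), 60, 308, (-14), 0, 63, 125, (-341), (-83), 223, (-12), (-264), 146, 231, 181, (-201), (-31), (-86), 49, 40, (-11), (-6), (-4), 12, (-4), (-14), (-11), (-10), (-3), (-6), 2, (-2), 3, 2, 1, 0, 0, 0, 0, 1, (-3), 3, (-2), (-2), (-3), 0, 3, 0, (-3), 0, (-5), 4, 4])))) (.node (.node (.leaf ([])) (.leaf ([]))) (.node (.leaf ([])) (.leaf ([0, 0, 0, 0, 0, 0, 0, 0, 0, 0, 0, 0, 0, 0, 0, 0, 0, 0, 0, 0, 0, 0, 0, 0, 0, 0, 0, 0, 0, 0, 0, 0, 0, 0, 0, 0, 0, 0, 0, 0, 0, 0, 0, 1]))))) (.node (.node (.node (.leaf ([])) (.leaf ([]))) (.node (.leaf ([])) (.leaf ([])))) (.node (.node (.leaf ([])) (.leaf ([1219, 3291, (-1721), (-3660), 1539, 3081, 56, 851, 2551, (-155), (-2893), 2848, (-2792), 88, (-1010), (-703), 727, (-187), 99, (-69), (-184), 2, (-89), 22, 9, (-27), 0, (-1), 19, (-25), 16, 82, (-11), (-11), (-48), (-25), 38, (-23), (-26), 15, 51, (-36), (-6), 8, 0, 2, (-2), 1, 4, 4, 4, 4, 0, (-2), 2, 0, 0, 0, 0, 0, 0, 0, (-2), 2, (-2), 0, 0, 0, 0, 0, 0, 2, 0, 1]))) (.node (.leaf ([])) (.leaf ([(-89042), (-101737), 70592, 116829, 28402, 167044, 44349, (-62744), 10618, (-34735), (-6723), (-159905), 138200, (-51670), 33589, 59288, (-16241), (-20588), (-7066), 1760, 1586, (-292), 127, (-90), (-462), (-587), 39, 44, 372, 56, 536, (-768), (-624), 589, 1231, (-84), (-456), 842, 944, (-119), (-735), (-385), (-28), (-66), 7, (-8), 39, 11, (-23), (-23), (-26), (-41), 20, 23, (-24), 1, (-9), 4, (-8), 0, 0, (-1), (-3), (-12), 11, (-2), (-2), (-2), (-9), 2, 4, (-12), 0, (-5), 4, 5])))))) (.node (.node (.node (.node (.node (.leaf ([])) (.leaf ([(-80146), (-99226), 66547, 115452, 46177, 165503, 51287, (-60940), 4616, (-41053), (-7769), (-152426), 140002, (-48848), 32799, 60645, (-16423), (-19347), (-7299), 1803, 1433, (-460), 108, (-7), (-515), (-600), 34, 63, 288, 62, 518, (-559), (-620), 652, 1420, (-249), (-403), 906, 1022, (-125), (-620), (-443), (-66), (-54), 6, (-6), 46, 9, (-4), (-15), (-27), (-44), 28, 27, (-28), 4, (-11), 8, (-7), 1, 1, 1, 0, (-7), 7, 0, 0, (-3), (-8), 2, 2, (-10), 0, (-5), 3, 8]))) (.leaf ([(-1864), (-2819), 1670, 2735, (-4976), (-7182), (-1530), (-159), (-2229), 1539, 4102, (-2830), 678, 569, 670, (-370), (-590), 471, 137, 82, 238, 26, 108, (-26), (-3), 32, 0, 0, (-32), 30, (-10), (-116), 7, 11, 57, 43, (-63), 26, 24, (-19), (-72), 48, 11, (-8), 0, (-2), 4, (-1), (-7), (-6), (-5), (-5), (-1), 2, (-2), 0, 0, (-1), 0, 0, 0, 0, 3, (-3), 3, 0, 0, 0, 0, 0, 0, (-3), 0, (-2)]))) (.node (.leaf ([])) (.leaf ([])))) (.node (.node (.leaf ([0, 0, 0, 0, 0, 0, 0, 0, 0, 0, 0, 0, 0, 0, 0, 0, 0, 0, 0, (-1), 0, 0, 0, 0, 0, 0, 0, 0, 0, 0, 0, 0, 0, 0, 0, 0, 0, 0, 0, 0, 0, 0, 1, 0, 0, 0, 1])) (.leaf ([34529, 46783, (-30766), (-50161), (-17858), (-67736), (-20737), 26034, 9133, 14722, 977, 55230, (-63695), 20457, (-14116), (-25091), 6818, 6989, 4413, (-734), (-571), 168, (-214), 220, 63, (-87), (-1), (-14), (-297), (-82), 142, 331, (-37), (-82), 68, (-165), (-36), (-357), (-108), 52, 256, (-10), (-34), 25, 4, 5, (-23), 0, 18, 14, 13, 11, 2, (-7), 6, (-2), 0, (-1), 3, 0, 0, 1, 1, 6, (-5), 3, 3, 3, 2, (-3), (-1), 4, 0, 8, (-5), (-5)]))) (.node (.leaf ([])) (.leaf ([102425, 122035, (-83551), (-134490), (-34043), (-186018), (-51019), 71039, 2418, 38180, 4201, 171852, (-164801), 56623, (-38610), (-66599), 18873, 21574, 9012, (-2049), (-1874), 342, (-431), 267, 403, 324, (-17), (-45), (-433), (-158), (-247), 893, 433, (-562), (-959), (-106), 318, (-989), (-758), 147, 851, 290, (-13), 85, (-4), 11, (-52), (-5), 38, 35, 33, 44, (-12), (-24), 24, (-3), 7, (-4), 9, 0, 0, 2, 3, 14, (-14), 4, 4, 4, 9, (-4), (-5), 15, 0, 8, (-6), (-7)]))))) (.node (.node (.node (.leaf ([])) (.leaf ([]))) (.node (.leaf ([])) (.leaf ([254, 797, (-390), (-1426), (-533), (-1319), (-558), 748, (-223), 438, (-141), 2000, (-1183), 422, (-290), (-580), 149, 162, 87, (-16), (-24), 7, 1, (-3), 8, 14, (-1), (-1), (-15), 1, (-14), 11, 13, (-10), (-26), 6, 19, (-10), (-30), 2, 5, 2, 3, 0, 0, 0, 0, 0, (-1), 0, 0, 1, (-1), (-1), 1])))) (.node (.node (.leaf ([])) (.leaf ([(-2942), (-4507), 2998, 8602, 7436, 23835, 5388, (-5833), 5731, (-4975), (-5628), (-12781), 10519, (-6196), 2332, 6281, (-656), (-2820), (-944), 47, (-135), (-58), (-159), 29, (-52), (-132), 13, 4, 143, (-51), 105, 47, (-99), 36, 70, (-79), (-12), 31, 166, 9, 22, (-81), (-23), 2, 3, 1, (-1), 3, 5, 5, 2, 0, 6, 1, (-1), 0, (-1), 2, (-1), 0, (-1), 0, (-4), 2, (-2), 0, 0, 0, (-2), (-1), 0, 2, 0, 1, 0, 1]))) (.node (.leaf ([(-83036), (-117064), 76107, 131658, 52552, 188586, 56350, (-69290), (-16822), (-41497), (-7731), (-147491), 166144, (-55548), 36709, 67392, (-17366), (-19945), (-11489), 1722, 1286, (-486), 408, (-430), (-239), (-16), 24, 32, 795, 155, (-136), (-716), (-95), 275, 136, 238, 30, 821, 543, (-127), (-586), (-117), 52, (-68), (-5), (-14), 49, 7, (-42), (-31), (-32), (-29), 4, 19, (-17), 6, (-2), 7, (-9), 0, (-2), (-2), (-7), (-10), 11, (-7), (-8), (-8), (-9), 5, 2, (-9), 0, (-17), 12, 13])) (.leaf ([125688, 145279, (-100275), (-166484), (-33087), (-225851), (-59852), 87957, (-11475), 46089, 4861, 225929, (-194295), 71625, (-47274), (-82047), 22942, 28199, 9875, (-2572), (-2467), 382, (-296), 168, 648, 788, (-42), (-66), (-523), (-106), (-705), 1198, 855, (-828), (-1739), 47, 710, (-1246), (-1369), 185, 1101, 452, 34, 112, (-13), 12, (-65), (-13), 39, 38, 42, 63, (-27), (-35), 35, (-2), 12, (-6), 12, 0, 0, 3, 4, 18, (-17), 3, 3, 3, 14, (-3), (-6), 19, 0, 7, (-5), (-7)]))))))))) (.node (.node (.node (.node (.node (.node (.node (.node (.leaf ([])) (.leaf ([(-8893), (-5797), 5002, 7187, (-6851), 4895, (-650), (-4011), 5694, 449, 1903, (-16401), 4350, (-3205), 2087, 2335, (-1061), (-1532), 318, 158, 272, 49, (-19), 20, (-68), (-144), 1, 6, (-12), (-10), 158, (-158), (-134), 76, 221, 1, (-150), 71, 132, (-13), (-124), (-41), (-1), (-10), 2, (-1), 0, 2, (-3), (-4), (-1), (-5), 1, 2, (-2), (-1), (-1), (-1), (-1), 0, 0, 0, 1, (-2), 2, 0, 0, 1, 0, (-1), 1, (-2), 0, 2, (-1), (-2)]))) (.leaf ([(-1845), (-2723), 1702, 3031, 92, 1053, 686, (-1216), (-711), (-598), 1019, (-3448), 2897, (-897), 982, 1328, (-585), (-289), (-127), 60, 84, (-3), 30, (-5), (-13), 2, 0, 2, (-17), 10, 7, (-39), (-7), 15, 40, 1, (-23), 27, 19, (-6), (-27), 4, 0, (-3), 0, (-1), 1, 0, (-1), (-1), (-2), (-2), 1, 1, (-1), 0, 0, 0, 0, 0, 0, 0, 1, (-1), 1, 0, 0, 0, 0, 0, 0, (-1), 1]))) (.node (.leaf ([])) (.leaf ([0, 0, 0, 0, 0, 0, 0, 0, 0, 0, 0, 0, 0, 0, 0, 0, 0, 0, 0, 0, 0, 0, 0, 0, 0, 0, 0, 0, 0, 0, 0, 0, 0, 0, 0, 0, 0, 0, 0, 0, 0, 0, 0, 1])))) (.node (.node (.leaf ([])) (.leaf ([21737, 35425, (-22170), (-31881), (-20206), (-42419), (-16416), 15886, 22178, 10317, (-834), 21012, (-49188), 10648, (-9427), (-15990), 4876, 2508, 3991, (-451), (-248), 162, (-388), 288, (-108), (-449), 23, 2, (-163), (-152), 498, 142, (-346), 74, 546, (-265), (-318), (-222), 335, 32, 105, (-122), (-69), 11, 9, 5, (-15), 6, 23, 14, 11, (-1), 12, 0, 0, (-3), (-4), 0, 0, 0, 0, 0, 0, 5, (-4), 4, 4, 4, (-1), (-4), 0, 3, 0, 8, (-6), (-5)]))) (.node (.leaf ([0, 0, 0, 0, 0, 0, 0, 0, 0, 0, 0, 0, 0, 0, 0, 0, 0, 0, 0, 0, 0, 0, 0, 0, 0, 0, 0, 0, 0, 0, 0, 0, 0, 0, 0, 0, 0, 0, 0, 0, 0, 0, 0, 1])) (.leaf ([]))))) (.node (.node (.node (.node (.leaf ([])) (.leaf ([(-15963), (-13203), 10472, 33386, 30129, 95008, 23874, (-24686), 38708, (-22930), (-22874), (-69924), 34736, (-24945), 8007, 25194, (-2196), (-12071), (-2252), 166, (-290), (-203), (-884), 342, (-417), (-1026), 62, 36, 587, (-305), 926, 149, (-777), 396, 1027, (-550), (-485), 137, 1070, 31, 32, (-524), (-164), 47, 2, 10, (-21), 24, 52, 33, 15, (-3), 38, 11, (-15), (-2), (-12), 10, (-4), 3, (-1), 0, (-17), 10, (-10), 1, 1, 2, (-5), (-5), 3, 10, 1, 13, 2, (-1)]))) (.leaf ([1044, 1773, (-1088), (-2281), (-1162), (-3221), (-987), 1207, 43, 850, 146, 2633, (-2713), 967, (-678), (-1204), 327, 367, 198, (-18), (-19), 13, (-1), 3, 8, 4, (-1), 0, (-19), (-1), (-1), 9, 5, (-7), (-9), 2, 3, (-8), (-17), 1, 7, 2, 2, 0, 0, 0, 0, 0, (-2), (-1), 0, 1, (-1), (-1), 0, 0, 0, 0, 0, 0, 0, 0, 0, 0, 0, 0, 0, 0, 0, 0, 0, 0, 0, 0, 1]))) (.node (.leaf ([23261, 23891, (-17226), (-28834), (-1803), (-39947), (-9157), 15380, (-7525), 7464, 1497, 44194, (-31329), 13299, (-8132), (-14168), 3850, 5610, 1229, (-452), (-473), 32, 19, (-21), 157, 270, (-13), (-14), (-65), 9, (-264), 223, 263, (-186), (-479), 57, 205, (-209), (-345), 32, 226, 134, 14, 22, (-4), 2, (-11), (-3), 5, 6, 6, 13, (-7), (-7), 7, 0, 3, (-1), 3, 0, 0, 0, 1, 3, (-3), 0, 0, 0, 3, 0, (-1), 3, 0, 2, 0, (-1)])) (.leaf ([])))) (.node (.node (.leaf ([0, 0, 0, 0, 0, 0, 0, 0, 0, 0, 0, 0, 0, 0, 0, 0, 0, 0, 0, 0, 0, 0, 0, 0, 0, 0, 0, 0, 0, 0, 0, 0, 0, 0, 0, 0, 0, 0, 0, 0, 0, 0, 0, 1])) (.leaf ([]))) (.node (.leaf ([])) (.leaf ([])))))) (.node (.node (.node (.node (.node (.leaf ([])) (.leaf ([(-9749), (-17129), 10544, 15953, 13837, 25169, 9700, (-8092), (-10258), (-6889), (-1401), (-10260), 25621, (-6103), 5040, 9230, (-2585), (-1698), (-2070), 193, 37, (-110), 149, (-110), 43, 189, (-5), (-1), 63, 64, (-217), (-18), 147, (-25), (-204), 75, 174, 95, (-138), (-10), (-19), 26, 22, (-2), (-5), (-2), 8, (-3), (-6), (-5), (-5), (-1), (-3), 1, (-1), 2, 1, 1, 0, 0, 0, 0, 0, (-1), 1, (-1), (-1), (-2), 0, 2, 0, (-1), 0, (-3), 3, 3]))) (.leaf ([(-83324), (-116497), 76144, 127989, 51448, 188484, 55090, (-67571), (-20116), (-39851), (-8885), (-139733), 165847, (-54170), 36084, 65565, (-16984), (-19319), (-11516), 1652, 1159, (-449), 481, (-464), (-168), 122, 12, 25, 729, 186, (-263), (-641), 5, 225, (-55), 290, 159, 784, 352, (-116), (-564), (-110), 56, (-68), (-2), (-12), 44, 5, (-44), (-30), (-30), (-24), 0, 16, (-14), 6, 0, 6, (-8), 0, (-2), (-2), (-8), (-10), 10, (-8), (-8), (-8), (-8), 6, 2, (-8), 0, (-16), 12, 12]))) (.node (.leaf ([])) (.leaf ([])))) (.node (.node (.leaf ([])) (.leaf ([0, 0, 0, 0, 0, 0, 0, 0, 0, 0, 0, 0, 0, 0, 0, 0, 0, 0, 0, 0, 0, 0, 0, 0, 0, 0, 0, 0, 0, 0, 0, 0, 0, 0, 0, 0, 0, 0, 0, 0, 0, 0, 0, 1]))) (.node (.leaf ([0, 0, 0, 0, 0, 0, 0, 0, 0, 0, 0, 0, 0, 0, 0, 0, 0, 0, 0, 0, 0, 0, 0, 0, 0, 0, 0, 0, 0, 0, 0, 0, 0, 0, 0, 0, 0, 0, 0, 0, 0, 0, (-1), 1, 0, 0, (-1)])) (.leaf ([]))))) (.node (.node (.node (.leaf ([])) (.leaf ([(-19911), (-19275), 14252, 32106, 24032, 78682, 20520, (-21898), 23512, (-18273), (-15834), (-58390), 37286, (-20656), 8145, 21843, (-2871), (-9537), (-2216), 283, (-106), (-178), (-537), 201, (-292), (-675), 39, 27, 377, (-177), 593, 57, (-523), 291, 708, (-341), (-287), 184, 701, 10, (-25), (-377), (-91), 17, 3, 5, (-5), 12, 27, 16, 8, (-4), 22, 7, (-9), 0, (-8), 6, (-4), 1, 0, 0, (-12), 6, (-6), 0, 0, 0, (-4), (-3), 2, 6, 0, 6, 2, 1]))) (.node (.leaf ([])) (.leaf ([])))) (.node (.node (.leaf ([])) (.leaf ([0, 0, 0, 0, 0, 0, 0, 0, 0, 0, 0, 0, 0, 0, 0, 0, 0, 0, 0, 0, 0, 0, 0, 0, 0, 0, 0, 0, 0, 0, 0, 0, 0, 0, 0, 0, 0, 0, 0, 0, 0, 0, 0, 1]))) (.node (.leaf ([])) (.leaf ([(-3392), (-3114), 2297, 3271, 5295, 7973, 3748, (-1762), 900, (-3131), (-1777), (-5025), 5228, (-1313), 676, 2426, (-390), (-633), (-213), 48, 27, (-44), (-6), 23, (-35), (-23), 4, (-1), (-10), 1, 28, 53, (-33), 62, 104, (-49), (-22), 41, 78, (-3), 0, (-59), (-11), 3, 0, 1, 2, (-1), 6, 3, 1, (-2), 3, 2, (-1), 0, (-2), 0, (-1), 0, 1, 0, 1, 1, (-1), 0, 0, 0, 1, 0, (-1), 1, 0, (-1), (-1)]))))))) (.node (.node (.node (.node (.node (.node (.leaf ([])) (.leaf ([5819, 5831, (-4321), (-6686), (-1933), (-12595), (-2707), 4151, (-1781), 2169, 1420, 9965, (-8300), 3733, (-2083), (-3858), 892, 1539, 513, (-94), (-32), 11, 30, 8, 18, 39, 0, (-1), (-45), 6, (-29), 35, 36, (-24), (-30), 1, 8, (-47), (-42), 1, 33, 25, 4, (-1), 0, 0, 1, 0, 0, (-1), 1, 1, (-2), (-1), 1, 0, 0, 0, 0, 0, 0, 0, 1, 1, 0, 1]))) (.leaf ([(-1004), (-1488), 934, 2118, 1610, 3490, 1272, (-1216), 406, (-1087), (-348), (-2987), 2489, (-935), 573, 1246, (-281), (-369), (-169), 21, 21, (-12), (-5), 5, (-13), (-17), 2, 1, 19, (-3), 15, (-5), (-16), 18, 37, (-13), (-20), 13, 32, (-1), (-5), (-6), (-6), 2, 0, 0, (-1), 0, 2, 1, 0, (-1), 2, 1, (-1), 0, (-1)]))) (.node (.leaf ([804, 1223, (-776), (-1654), (-887), (-2423), (-682), 952, (-220), 676, 106, 2199, (-1894), 844, (-592), (-992), 296, 352, 118, (-14), (-9), 6, 8, (-1), 8, 10, 0, (-1), (-5), 1, (-8), 9, 8, (-5), (-13), 7, 2, (-4), (-8), 1, 5, 4, 2, (-1), 0, 0, 1, 0, (-1), (-1), 0, 0, (-1), 0, 0, 0, 0, 0, 0, 0, 0, 0, 0, 0, 0, 0, 0, 0, 0, 1])) (.leaf ([34537, 38632, (-26932), (-46510), (-8193), (-64176), (-16144), 24912, (-8175), 13161, 2089, 67006, (-51993), 20689, (-13150), (-23103), 6310, 8427, 2477, (-692), (-725), 99, (-12), 0, 234, 339, (-22), (-23), (-172), 3, (-323), 346, 332, (-272), (-635), 68, 289, (-331), (-489), 50, 323, 165, 26, 31, (-5), 3, (-16), (-4), 6, 9, 10, 20, (-11), (-11), 11, 0, 5, (-2), 4, 0, 0, 1, 1, 4, (-4), 0, 0, 0, 4, 0, (-2), 5, 0, 1, (-1), (-1)])))) (.node (.node (.leaf ([])) (.leaf ([]))) (.node (.leaf ([(-1454), (-1589), 1125, 2032, 1019, 3607, 909, (-1276), 660, (-848), (-372), (-3125), 2356, (-1191), 680, 1296, (-312), (-506), (-140), 28, 7, (-8), (-22), 1, (-10), (-20), 0, 1, 13, (-5), 14, (-11), (-14), 7, 15, (-7), (-4), 14, 16, (-1), (-7), (-8), (-2), 2, 0, 0, (-1), 0, 1, 1, 0, 0, 1, 0, 0, 0, 0, 0, 0, 0, 0, 0, 0, 0, 0, 0, 0, 0, 0, (-1)])) (.leaf ([3050, 1509, (-1322), (-3332), 8299, 4089, 2587, 1371, (-4085), (-2228), (-3114), 9407, 1577, 498, (-500), 449, 307, 330, (-473), (-130), (-234), (-48), (-4), (-11), 52, 94, (-1), (-7), 5, 6, (-117), 143, 92, (-50), (-146), (-15), 148, (-71), (-117), 10, 90, 7, (-2), 14, (-2), 1, (-3), (-2), 4, 6, 2, 5, 1, (-2), 2, 0, 1, 1, 1, 0, 0, 0, (-1), 2, (-2), 0, 0, 0, 0, 0, (-1), 2, 0, (-2), 1, 1]))))) (.node (.node (.node (.leaf ([(-190), (-1346), 581, 1730, (-752), (-2119), (-56), (-362), (-1147), 110, 1562, (-1424), 909, 69, 391, 252, (-306), 139, (-36), 40, 87, (-2), 37, (-9), (-8), 9, 0, 2, (-5), 11, (-2), (-42), 2, 6, 23, 10, (-24), 18, 23, (-7), (-23), 15, 3, (-4), 0, (-1), 2, 0, (-2), (-2), (-2), (-2), 0, 1, (-1), 0, 0, 0, 0, 0, 0, 0, 1, (-1), 1, 0, 0, 0, 0, 0, 0, (-1)])) (.leaf ([(-8567), (-8153), 6094, 8861, (-357), 13029, 2377, (-4778), 2122, (-1882), (-617), (-13421), 10184, (-4228), 2741, 4333, (-1307), (-1829), (-351), 172, 133, 1, 1, (-7), (-39), (-58), (-1), 4, (-7), 1, 55, (-70), (-63), 52, 109, 0, (-44), 88, 67, (-7), (-71), (-39), (-5), (-7), 2, 0, 4, 2, (-2), (-2), (-2), (-4), 2, 2, (-2), 0, (-1), 0, (-1), 0, 0, 0, 0, (-1), 1, 0, 0, 0, (-1), 0, 0, (-1), 0, 0, (-1)]))) (.node (.leaf ([])) (.leaf ([9027, 16363, (-9955), (-15462), (-13453), (-23663), (-9518), 7784, 10018, 6683, 1088, 10165, (-24608), 5627, (-4699), (-8748), 2434, 1525, 1963, (-186), (-55), 111, (-151), 99, (-35), (-175), 5, 1, (-62), (-65), 201, 15, (-133), 15, 172, (-66), (-157), (-92), 112, 12, 22, (-21), (-22), 3, 5, 2, (-8), 3, 6, 5, 5, 1, 3, (-1), 1, (-2), (-1), (-1), 0, 0, 0, 0, 0, 1, (-1), 1, 1, 2, 0, (-2), 0, 1, 0, 3, (-3), (-3)])))) (.node (.node (.leaf ([])) (.leaf ([]))) (.node (.leaf ([])) (.leaf ([267, 1518, (-691), (-2198), (-176), 230, (-483), 788, 742, 353, (-1038), 2166, (-1608), 341, (-484), (-705), 304, 39, 139, (-41), (-72), 11, (-25), 7, 10, (-6), (-2), (-2), (-12), (-6), 2, 31, 0, (-11), (-20), (-4), 25, (-20), (-29), 6, 17, (-11), 0, 3, 0, 1, (-1), 0, 1, 1, 2, 2, (-1), (-1), 1, 0, 0, 0, 0, 0, 0, 0, (-1), 1, (-1), 0, 0, 0, 0, 0, 0, 1, (-1), 1])))))) (.node (.node (.node (.node (.node (.leaf ([0, 0, 0, 0, 0, 0, 0, 0, 0, 0, 0, 0, 0, 0, 0, 0, 0, 0, 0, 0, 0, 0, 0, 0, 0, 0, 0, 0, 0, 0, 0, 0, 0, 0, 0, 0, 0, 0, 0, 0, 0, 0, 0, 1])) (.leaf ([82540, 96216, (-66173), (-111349), (-26389), (-154088), (-41678), 59069, (-8861), 32675, 4704, 151294, (-130258), 48236, (-31801), (-55861), 15503, 19127, 6650, (-1678), (-1583), 281, (-158), 79, 452, 559, (-39), (-45), (-343), (-60), (-520), 753, 598, (-569), (-1222), 88, 478, (-806), (-935), 120, 706, 347, 28, 69, (-7), 8, (-41), (-11), 22, 25, 26, 42, (-19), (-23), 24, (-2), 9, (-4), 8, 0, 0, 1, 2, 11, (-11), 1, 1, 2, 9, (-2), (-4), 12, 0, 5, (-4), (-5)]))) (.leaf ([]))) (.node (.leaf ([])) (.leaf ([])))) (.node (.node (.leaf ([(-3612), (-7891), 4445, 8783, 2323, 4909, 2672, (-3677), (-4168), (-1844), 2375, (-7386), 9718, (-2061), 2439, 3441, (-1419), (-468), (-702), 143, 190, (-33), 99, (-52), (-9), 62, (-2), 4, 28, 34, (-62), (-91), 38, 9, (-14), 41, (-6), 69, 22, (-18), (-59), 39, 7, (-7), 0, (-2), 3, (-1), (-5), (-4), (-4), (-4), 0, 2, (-2), 0, 0, 0, 0, 0, 0, 0, 2, (-2), 2, 0, 0, 0, 0, 0, 0, (-2), 0, (-1)])) (.leaf ([19863, 19225, (-14216), (-32064), (-23981), (-78541), (-20482), 21868, (-23521), 18250, 15800, 58347, (-37206), 20623, (-8137), (-21807), 2870, 9524, 2208, (-285), 106, 178, 537, (-201), 292, 675, (-39), (-27), (-377), 177, (-593), (-57), 523, (-291), (-708), 341, 287, (-184), (-701), (-10), 25, 377, 91, (-16), (-3), (-5), 5, (-12), (-27), (-16), (-8), 4, (-22), (-7), 9, 0, 8, (-6), 4, (-1), 0, 0, 12, (-6), 6, 0, 0, 0, 4, 3, (-2), (-6), 0, (-6), (-2), (-1)]))) (.node (.leaf ([1155, 439, (-478), (-125), 2164, 3083, 733, (-199), (-48), (-679), (-1289), 1102, 808, (-297), 38, 380, 56, (-157), (-173), (-42), (-66), (-14), (-16), 3, 4, 4, 1, (-1), 15, (-5), (-11), 37, 8, (-9), (-28), (-11), 27, (-20), (-13), 5, 24, (-9), (-5), 2, 0, 0, (-2), 0, 3, 2, 1, 1, 1, 0, 0, 0, 0, 1, 0, 0, 0, 0, (-1), 1, (-1), 0, 0, 0, 0, 0, 0, 1])) (.leaf ([4800, 4956, (-3525), (-5832), (-723), (-7179), (-1930), 3194, (-1176), 1535, (-147), 8950, (-6133), 2513, (-1556), (-2802), 761, 953, 293, (-99), (-125), 6, (-6), 8, 34, 49, (-3), (-5), (-31), 4, (-50), 66, 41, (-36), (-73), (-4), 56, (-50), (-51), 6, 51, 18, (-2), 7, 0, 1, (-4), 0, 3, 4, 1, 3, 0, (-1), 2, 0, 1, 0, 1, 0, 0, 0, 0, 1, (-1), 0, 0, 0, 0, 0, (-1), 1, 0, 0, (-1)]))))) (.node (.node (.node (.leaf ([])) (.leaf ([1161, 1308, (-952), (-1431), (-1247), (-3497), (-844), 945, (-262), 786, 623, 1737, (-2117), 984, (-573), (-1097), 249, 392, 174, (-12), 13, 7, 11, 4, 2, 1, (-1), 0, (-15), 3, 2, 1, 0, 0, 10, 1, (-9), (-5), 5, (-2), 1, 3, 2, 0, 0, 0, 1, 0, (-1), (-1), 0, 0, (-1)]))) (.node (.leaf ([])) (.leaf ([(-7508), (-8355), 5771, 10443, 2925, 13931, 4208, (-5827), 2217, (-3397), (-264), (-15879), 11102, (-4635), 2816, 5367, (-1368), (-1813), (-594), 151, 156, (-35), (-20), 0, (-58), (-82), 7, 5, 69, (-5), 79, (-88), (-74), 62, 127, (-15), (-74), 77, 115, (-8), (-67), (-36), 0, (-4), (-1), (-1), 4, 0, (-1), (-3), (-1), (-4), 1, 2, (-2), 0, (-1), 0, (-1), 0, 0, 0, 0, (-1), 1, 0, 0, 0, 0, 0, 1, (-1), 0, 0, 1])))) (.node (.node (.leaf ([])) (.leaf ([]))) (.node (.leaf ([(-8871), (-9764), 6977, 11271, 5896, 20909, 5673, (-6464), 1964, (-4878), (-2572), (-15442), 14798, (-5997), 3440, 6874, (-1561), (-2439), (-864), 129, 84, (-48), (-26), (-2), (-51), (-81), 9, 3, 70, (-10), 64, (-32), (-69), 55, 118, (-29), (-19), 56, 92, (-6), (-54), (-54), (-6), (-1), 0, 0, 4, 0, 0, 0, (-1), (-3), 3, 2, (-2), 0, (-1), 1, (-1), 0, 0, 0, (-1), 0, 0, 0, 0, 0, (-1), 0, 0, 0, 0, (-1), 1, 1])) (.leaf ([3567, 6786, (-3985), (-6565), (-1584), (-2448), (-1921), 2430, 4578, 1309, (-2348), 4551, (-8010), 1307, (-2033), (-2546), 1256, 197, 482, (-106), (-164), 21, (-108), 44, 0, (-69), 3, (-2), 16, (-38), 67, 71, (-45), (-3), 9, (-38), (-14), (-44), 17, 16, 52, (-34), (-9), 8, 0, 2, (-2), 1, 5, 4, 3, 3, 1, (-1), 1, 0, 0, 0, 0, 0, 0, 0, (-2), 1, (-2), 0, 0, 0, 0, 0, 0, 2, 0, 1])))))))) (.node (.node (.node (.node (.node (.node (.node (.leaf ([])) (.leaf ([15963, 13203, (-10472), (-33386), (-30129), (-95008), (-23874), 24686, (-38708), 22930, 22874, 69924, (-34736), 24945, (-8007), (-25194), 2196, 12071, 2252, (-167), 290, 203, 884, (-342), 417, 1026, (-62), (-36), (-587), 305, (-926), (-149), 777, (-396), (-1027), 550, 485, (-137), (-1070), (-31), (-32), 524, 164, (-46), (-2), (-10), 21, (-24), (-52), (-33), (-15), 3, (-38), (-11), 15, 2, 12, (-10), 4, (-3), 1, 0, 17, (-10), 10, (-1), (-1), (-2), 5, 5, (-3), (-10), (-1), (-13), (-2), 1]))) (.leaf ([]))) (.node (.leaf ([0, 0, 0, 0, 0, 0, 0, 0, 0, 0, 0, 0, 0, 0, 0, 0, 0, 0, 0, 0, 0, 0, 0, 0, 0, 0, 0, 0, 0, 0, 0, 0, 0, 0, 0, 0, 0, 0, 0, 0, 0, 0, 0, 0, 0, 0, 1])) (.leaf ([8567, 8153, (-6094), (-8861), 357, (-13029), (-2377), 4778, (-2122), 1882, 617, 13421, (-10184), 4228, (-2741), (-4333), 1307, 1829, 351, (-172), (-133), (-1), (-1), 7, 39, 58, 1, (-4), 7, (-1), (-55), 70, 63, (-52), (-109), 0, 44, (-88), (-67), 7, 71, 39, 5, 8, (-2), 0, (-4), (-2), 2, 2, 2, 4, (-2), (-2), 2, 0, 1, 0, 1, 0, 0, 0, 0, 1, (-1), 0, 0, 0, 1, 0, 0, 1, 0, 0, 1])))) (.node (.node (.leaf ([])) (.leaf ([]))) (.node (.leaf ([])) (.leaf ([(-36356), (-35870), 26305, 61713, 49498, 154467, 41000, (-42330), 46284, (-36436), (-32123), (-112064), 71608, (-40083), 15150, 42590, (-5135), (-18467), (-4480), 535, (-268), (-362), (-1092), 395, (-568), (-1325), 82, 56, 794, (-364), 1159, 139, (-1015), 565, 1360, (-681), (-575), 361, 1410, 20, (-14), (-729), (-182), 36, 4, 10, (-10), 24, 56, 34, 16, (-8), 44, 14, (-18), 0, (-16), 12, (-8), 2, 0, 0, (-24), 12, (-12), 0, 0, 0, (-8), (-6), 4, 12, 0, 13, 4, 2]))))) (.node (.node (.node (.leaf ([])) (.leaf ([0, 0, 0, 0, 0, 0, 0, 0, 0, 0, 0, 0, 0, 0, 0, 0, 0, 0, 0, 0, 0, 0, 0, 0, 0, 0, 0, 0, 0, 0, 0, 0, 0, 0, 0, 0, 0, 0, 0, 0, 0, 0, 0, 1]))) (.node (.leaf ([(-23336), (-24149), 17336, 29331, 2350, 40561, 9485, (-15705), 7665, (-7726), (-1510), (-44938), 31705, (-13440), 8209, 14420, (-3892), (-5665), (-1283), 460, 478, (-38), (-23), 21, (-161), (-272), 14, 15, 77, (-10), 266, (-226), (-265), 190, 482, (-59), (-211), 217, 357, (-33), (-227), (-134), (-14), (-21), 4, (-2), 11, 3, (-5), (-6), (-6), (-13), 7, 7, (-7), 0, (-3), 1, (-3), 0, 0, 0, (-1), (-3), 3, 0, 0, 0, (-3), 0, 1, (-3), 0, (-2), 0, 1])) (.leaf ([])))) (.node (.node (.leaf ([])) (.leaf ([58155, 62796, (-44293), (-75382), (-6635), (-99292), (-23945), 39676, (-14961), 19335, 1679, 111646, (-82257), 33098, (-21379), (-36357), 10373, 13764, 3375, (-1175), (-1289), 115, (-46), (-36), 397, 603, (-31), (-35), (-148), (-7), (-597), 592, 609, (-482), (-1203), 134, 528, (-557), (-848), 88, 570, 294, 45, 58, (-11), 5, (-29), (-8), 12, 16, 19, 35, (-19), (-19), 19, 0, 8, (-3), 7, 0, 0, 1, 1, 8, (-8), 0, 0, 0, 8, 0, (-3), 9, 0, 2, 0, (-2)]))) (.node (.leaf ([0, 0, 0, 0, 0, 0, 0, 0, 0, 0, 0, 0, 0, 0, 0, 0, 0, 0, 0, 0, 0, 0, 0, 0, 0, 0, 0, 0, 0, 0, 0, 0, 0, 0, 0, 0, 0, 0, 0, 0, 0, 0, 0, 1])) (.leaf ([(-1149), (-1452), 973, 1923, 847, 2977, 711, (-1199), 473, (-697), (-152), (-2803), 2106, (-1038), 675, 1140, (-324), (-437), (-130), 22, 7, (-7), (-14), (-1), (-9), (-14), 0, 1, 11, (-3), 10, (-14), (-10), 4, 8, (-4), (-3), 11, 11, 0, (-6), (-3), (-1), 2, 0, 0, (-1), 0, 0, 0, 0, 0, 1, 0, 0, 0, 0, 0, 0, 0, 0, 0, 0, 0, 0, 0, 0, 0, 0, (-1)])))))) (.node (.node (.node (.node (.node (.leaf ([])) (.leaf ([(-5811), (-5822), 4314, 6692, 1893, 12605, 2701, (-4156), 1793, (-2153), (-1420), (-9997), 8298, (-3730), 2079, 3849, (-890), (-1542), (-510), 93, 32, (-11), (-30), (-8), (-18), (-39), 0, 1, 45, (-6), 29, (-35), (-36), 24, 30, (-1), (-8), 47, 42, (-1), (-33), (-25), (-4), 2, 0, 0, (-1), 0, 0, 1, (-1), (-1), 2, 1, (-1), 0, 0, 0, 0, 0, 0, 0, (-1), (-1), 0, (-1)]))) (.leaf ([0, 0, 0, 0, 0, 0, 0, 0, 0, 0, 0, 0, 0, 0, 0, 0, 0, 0, 0, 0, 0, 0, 0, 0, 0, 0, 0, 0, 0, 0, 0, 0, 0, 0, 0, 0, 0, 0, 0, 0, 0, 0, 0, 1]))) (.node (.leaf ([])) (.leaf ([0, 0, 0, 0, 0, 0, 0, 0, 0, 0, 0, 0, 0, 0, 0, 0, 0, 0, 0, 0, 0, 0, 0, 0, 0, 0, 0, 0, 0, 0, 0, 0, 0, 0, 0, 0, 0, 0, 0, 0, 0, 0, 0, 1])))) (.node (.node (.leaf ([0, 0, 0, 0, 0, 0, 0, 0, 0, 0, 0, 0, 0, 0, 0, 0, 0, 0, 0, 0, 0, 0, 0, 0, 0, 0, 0, 0, 0, 0, 0, 0, 0, 0, 0, 0, 0, 0, 0, 0, 0, 0, 0, 1])) (.leaf ([]))) (.node (.leaf ([])) (.leaf ([]))))) (.node (.node (.node (.leaf ([])) (.leaf ([(-570), 369, 70, (-891), 875, 2876, 359, 48, 688, (-269), (-1452), 787, 235, (-227), (-180), 22, 181, (-171), (-26), (-28), (-65), 2, (-24), (-1), 11, 3, (-1), (-1), 13, (-6), (-9), 33, 6, (-9), (-35), 0, 29, (-13), (-24), 4, 14, (-10), 0, 3, 0, 1, (-1), 0, 1, 1, 2, 2, (-1), (-1), 1, 0, 0, 0, 0, 0, 0, 0, (-1), 1, (-1), 0, 0, 0, 0, 0, 0, 1, (-1), 1]))) (.node (.leaf ([])) (.leaf ([])))) (.node (.node (.leaf ([])) (.leaf ([10920, 11933, (-8423), (-13383), (-1870), (-18677), (-4240), 7086, (-1647), 3482, 591, 18486, (-15585), 5943, (-4148), (-6665), 2043, 2468, 704, (-235), (-195), 25, (-22), 17, 57, 50, (-3), (-6), (-12), (-10), (-51), 90, 67, (-67), (-132), 5, 45, (-116), (-85), 13, 98, 33, 9, 10, (-3), 0, (-5), 0, 0, 1, 2, 5, (-3), (-3), 2, 0, 1, 0, 1, 0, 0, 0, 0, 1, (-1), 0, 0, 0, 1, 0, 0, 1, 0, 0, 1]))) (.node (.leaf ([])) (.leaf ([(-125741), (-145303), 100297, 166520, 33156, 226017, 59904, (-88021), 11514, (-46117), (-4872), (-226083), 194375, (-71623), 47295, 82051, (-22958), (-28203), (-9875), 2571, 2467, (-382), 296, (-168), (-648), (-788), 42, 66, 523, 106, 705, (-1198), (-855), 828, 1739, (-47), (-710), 1246, 1365, (-185), (-1101), (-452), (-34), (-111), 13, (-12), 65, 13, (-39), (-38), (-42), (-63), 27, 35, (-35), 2, (-12), 6, (-12), 0, 0, (-3), (-4), (-18), 17, (-3), (-3), (-3), (-14), 3, 6, (-19), 0, (-7), 5, 7]))))))) (.node (.node (.node (.node (.node (.node (.leaf ([])) (.leaf ([]))) (.leaf ([]))) (.node (.leaf ([264, (-3107), 1168, 4182, (-271), (-3192), 394, (-1113), (-3099), (-152), 3054, (-2610), 2843, (-38), 924, 894, (-671), 286, (-264), 82, 173, (-15), 79, (-30), (-9), 36, 0, 4, 18, 22, (-29), (-86), 22, 3, 12, 30, (-40), 39, 48, (-16), (-42), 46, 6, (-8), 0, (-2), 2, (-1), (-4), (-4), (-4), (-4), 0, 2, (-2), 0, 0, 0, 0, 0, 0, 0, 2, (-2), 2, 0, 0, 0, 0, 0, 0, (-2)])) (.leaf ([1901, 2297, (-1484), (-5398), (-944), (-5944), (-2228), 2874, (-3845), 2061, 177, 10233, (-3438), 2655, (-967), (-2780), 373, 1089, 210, (-47), (-113), 14, 61, (-31), 57, 137, (-14), (-4), (-95), 30, (-136), 68, 106, (-54), (-182), 49, 126, (-16), (-186), 8, 32, 33, 3, 2, 2, 2, (-4), (-2), 2, 3, 2, 4, (-3), (-2), 4, 0, 2, (-1), 1, 0, 0, 0, 1, 1, (-1), 0, 0, 0, 1, 0, (-1), 1, 0, 1, (-2), (-1)])))) (.node (.node (.leaf ([8166, 7991, (-5865), (-9685), (-496), (-15172), (-3171), 5580, (-3066), 2298, 1032, 15385, (-10646), 4534, (-2528), (-4578), 1107, 1915, 486, (-157), (-133), 8, 15, 5, 43, 75, (-5), (-4), (-63), 6, (-75), 74, 76, (-58), (-107), 4, 65, (-80), (-105), 8, 71, 48, 4, 8, (-2), 0, (-3), (-1), 3, 3, 1, 3, (-1), (-1), 2, 0, 1, 0, 1, 0, 0, 0, 1, 1, (-1), 0, 0, 0, 1, 0, (-1), 1, 0, 0, (-1)])) (.leaf ([2978, 6605, (-3658), (-7481), (-1025), (-2042), (-1954), 2903, 3659, 1270, (-2845), 6761, (-7700), 1370, (-1983), (-2606), 1224, 235, 467, (-118), (-212), 26, (-102), 31, 16, (-38), 2, (-3), (-6), (-35), 34, 90, (-15), (-21), (-44), (-27), 29, (-54), (-48), 19, 63, (-31), (-7), 9, 0, 2, (-3), 1, 5, 4, 4, 4, 0, (-2), 2, 0, 0, 0, 0, 0, 0, 0, (-2), 2, (-2), 0, 0, 0, 0, 0, 0, 2]))) (.node (.leaf ([])) (.leaf ([(-20110), (-23268), 15903, 30053, 3476, 38174, 9905, (-15837), 6744, (-7880), (-513), (-44737), 30888, (-12897), 7773, 14224, (-3672), (-5295), (-1450), 455, 507, (-64), (-22), 21, (-165), (-279), 16, 17, 141, (-12), 267, (-249), (-267), 186, 482, (-57), (-248), 225, 441, (-39), (-213), (-110), (-18), (-22), 4, (-2), 12, 3, (-3), (-6), (-6), (-15), 8, 9, (-8), 0, (-3), 1, (-3), 0, 0, (-1), (-1), (-3), 3, 0, 0, 0, (-3), 0, 1, (-3), 0, (-2), 0, 1]))))) (.node (.node (.node (.leaf ([])) (.leaf ([]))) (.node (.leaf ([0, 0, 0, 0, 0, 0, 0, 0, 0, 0, 0, 0, 0, 0, 0, 0, 0, 0, 0, 0, 0, 0, 0, 0, 0, 0, 0, 0, 0, 0, 0, 0, 0, 0, 0, 0, 0, 0, 0, 0, 0, 0, 0, 1])) (.leaf ([(-32644), (-46300), 30013, 50367, 10341, 61684, 17144, (-25572), (-10332), (-11344), 1687, (-54902), 61728, (-19932), 14358, 23503, (-6939), (-6753), (-4149), 758, 612, (-119), 252, (-227), (-42), 92, (-10), 15, 237, 99, (-152), (-405), 34, 46, (-78), 200, 45, 353, 77, (-56), (-286), 51, 37, (-27), (-4), (-6), 22, (-1), (-19), (-16), (-15), (-12), (-3), 8, (-6), 2, 2, 2, (-2), 0, (-1), (-1), (-2), (-7), 6, (-3), (-3), (-3), (-3), 3, 2, (-5), 0, (-7), 4, 5])))) (.node (.node (.leaf ([])) (.leaf ([]))) (.node (.leaf ([])) (.leaf ([0, 0, 0, 0, 0, 0, 0, 0, 0, 0, 0, 0, 0, 0, 0, 0, 0, 0, 0, 0, 0, 0, 0, 0, 0, 0, 0, 0, 0, 0, 0, 0, 0, 0, 0, 0, 0, 0, 0, 0, 0, 0, 0, 1])))))) (.node (.node (.node (.node (.node (.leaf ([])) (.leaf ([12790, 2520, (-4605), (-25258), (-16431), (-78465), (-16475), 20740, (-51175), 18040, 20964, 72457, (-16800), 22400, (-5265), (-19827), 766, 11788, 443, (-100), 163, 105, 1050, (-454), 512, 1298, (-70), (-41), (-551), 375, (-1221), (-76), 992, (-475), (-1369), 637, 736, (-104), (-1295), (-34), 18, 566, 183, (-47), (-4), (-11), 27, (-27), (-57), (-35), (-19), 6, (-42), (-12), 16, 4, 14, (-9), 5, (-3), 1, 0, 17, (-10), 10, (-2), (-2), (-4), 5, 7, (-4), (-10), (-1), (-16), 0, 4]))) (.leaf ([]))) (.node (.leaf ([])) (.leaf ([1492, 4163, (-2381), (-8758), (-8852), (-23210), (-5952), 5782, (-4935), 5354, 5457, 12066, (-10506), 5851, (-2078), (-6271), 548, 2629, 1046, (-46), 133, 76, 156, (-29), 54, 125, (-12), (-5), (-156), 51, (-95), (-55), 91, (-38), (-67), 84, 18, (-35), (-189), (-7), (-35), 74, 23, (-1), (-3), (-1), 1, (-3), (-5), (-5), (-2), 0, (-6), (-1), 1, 0, 1, (-2), 1, 0, 1, 0, 4, (-2), 2, 0, 0, 0, 2, 1, 0, (-2), 0, (-1), 0, (-1)])))) (.node (.node (.leaf ([7955, 9057, (-6347), (-10914), (-5421), (-19282), (-5363), 6184, (-2077), 4562, 2177, 15186, (-13738), 5492, (-3131), (-6348), 1429, 2244, 778, (-121), (-98), 46, 23, (-6), 55, 89, (-9), (-3), (-68), 9, (-76), 34, 78, (-61), (-140), 35, 36, (-54), (-112), 7, 54, 56, 6, 2, 0, 0, (-4), 0, 0, 0, 1, 3, (-3), (-2), 2, 0, 1, (-1), 1, 0, 0, 0, 1, 0, 0, 0, 0, 0, 1, 0, 0, 0, 0, 1, (-1), (-1)])) (.leaf ([]))) (.node (.leaf ([])) (.leaf ([4864, 4484, (-3310), (-5437), (-3246), (-8682), (-3261), 3128, (-1999), 2782, 756, 9374, (-6270), 2505, (-1422), (-3226), 726, 1036, 250, (-79), (-89), 29, 22, (-20), 47, 71, (-6), (-4), (-34), 9, (-69), 24, 64, (-61), (-138), 37, 64, (-47), (-97), 5, 32, 37, 9, 2, 0, 0, (-1), 0, (-3), (-1), 0, 3, (-3), (-2), 2, 0, 2, 0, 1, 0, (-1)]))))) (.node (.node (.node (.leaf ([0, 0, 0, 0, 0, 0, 0, 0, 0, 0, 0, 0, 0, 0, 0, 0, 0, 0, 0, 0, 0, 0, 0, 0, 0, 0, 0, 0, 0, 0, 0, 0, 0, 0, 0, 0, 0, 0, 0, 0, 0, 0, 0, 1])) (.leaf ([21352, 23565, (-16469), (-29256), (-2398), (-37904), (-9195), 15410, (-6415), 7410, 617, 43481, (-30888), 12940, (-7940), (-14016), 3754, 5320, 1382, (-451), (-494), 47, 11, (-9), 157, 256, (-14), (-16), (-114), 9, (-243), 246, 245, (-176), (-449), 45, 221, (-218), (-380), 36, 218, 102, 15, 23, (-4), 2, (-12), (-3), 4, 6, 6, 14, (-7), (-8), 7, 0, 3, (-1), 3, 0, 0, 1, 1, 3, (-3), 0, 0, 0, 3, 0, (-1), 3, 0, 2, 0, (-1)]))) (.node (.leaf ([])) (.leaf ([0, 0, 0, 0, 0, 0, 0, 0, 0, 0, 0, 0, 0, 0, 0, 0, 0, 0, 0, 0, 0, 0, 0, 0, 0, 0, 0, 0, 0, 0, 0, 0, 0, 0, 0, 0, 0, 0, 0, 0, 0, 0, 0, 1])))) (.node (.node (.leaf ([0, 0, 0, 0, 0, 0, 0, 0, 0, 0, 0, 0, 0, 0, 0, 0, 0, 0, 0, 0, 0, 0, 0, 0, 0, 0, 0, 0, 0, 0, 0, 0, 0, 0, 0, 0, 0, 0, 0, 0, 0, 0, 0, 1])) (.leaf ([0, 0, 0, 0, 0, 0, 0, 0, 0, 0, 0, 0, 0, 0, 0, 0, 0, 0, 0, 0, 0, 0, 0, 0, 0, 0, 0, 0, 0, 0, 0, 0, 0, 0, 0, 0, 0, 0, 0, 0, 0, 0, 0, 1, 0, 0, (-1)]))) (.node (.leaf ([6572, 7362, (-5016), (-9609), (-1905), (-11519), (-3542), 5279, (-2359), 2795, (-225), 15061, (-9474), 3917, (-2398), (-4509), 1176, 1542, 473, (-141), (-169), 30, 14, (-2), 60, 83, (-7), (-5), (-71), 4, (-84), 89, 77, (-63), (-131), 14, 86, (-72), (-123), 9, 68, 35, 0, 5, 1, 1, (-4), 0, 1, 3, 1, 4, (-1), (-2), 2, 0, 1, 0, 1, 0, 0, 0, 0, 1, (-1), 0, 0, 0, 0, 0, (-1), 1, 0, 0, (-1)])) (.leaf ([3463, 7280, (-4156), (-7975), (-2224), (-4602), (-2522), 3329, 3932, 1766, (-2143), 6721, (-9131), 1863, (-2234), (-3186), 1308, 435, 622, (-118), (-185), 31, (-100), 39, 7, (-53), 2, (-2), (-13), (-35), 53, 78, (-29), (-13), (-12), (-31), 3, (-54), (-35), 18, 59, (-28), (-7), 7, 0, 2, (-3), 1, 5, 4, 4, 4, 0, (-2), 2, 0, 0, 0, 0, 0, 0, 0, (-2), 2, (-2), 0, 0, 0, 0, 0, 0, 2, 0, 2]))))))))))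

/-- data -/
def rank0 : Trie (ℕ) := .node (.node (.node (.node (.node (.node (.node (.node (.node (.node (.leaf 0) (.leaf 15)) (.leaf 252)) (.node (.leaf 0) (.leaf 90))) (.node (.node (.leaf 3) (.leaf 0)) (.node (.leaf 0) (.leaf 261)))) (.node (.node (.node (.node (.leaf 0) (.leaf 257)) (.leaf 116)) (.node (.leaf 7) (.leaf 0))) (.node (.node (.leaf 56) (.leaf 13)) (.node (.leaf 97) (.leaf 250))))) (.node (.node (.node (.node (.node (.leaf 0) (.leaf 211)) (.leaf 143)) (.node (.leaf 158) (.leaf 61))) (.node (.node (.leaf 0) (.leaf 243)) (.node (.leaf 52) (.leaf 260)))) (.node (.node (.node (.leaf 0) (.leaf 0)) (.node (.leaf 8) (.leaf 0))) (.node (.node (.leaf 0) (.leaf 0)) (.node (.leaf 0) (.leaf 0)))))) (.node (.node (.node (.node (.node (.node (.leaf 0) (.leaf 0)) (.leaf 0)) (.node (.leaf 89) (.leaf 181))) (.node (.node (.leaf 122) (.leaf 0)) (.node (.leaf 60) (.leaf 271)))) (.node (.node (.node (.leaf 40) (.leaf 151)) (.node (.leaf 0) (.leaf 80))) (.node (.node (.leaf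 0) (.leaf 79)) (.node (.leaf 11) (.leaf 213))))) (.node (.node (.node (.node (.node (.leaf 0) (.leaf 101)) (.leaf 12)) (.node (.leaf 96) (.leaf 198))) (.node (.node (.leaf 0) (.leaf 0)) (.node (.leaf 72) (.leaf 118)))) (.node (.node (.node (.leaf 0) (.leaf 0)) (.node (.leaf 0) (.leaf 0))) (.node (.node (.leaf 0) (.leaf 172)) (.node (.leaf 142) (.leaf 223))))))) (.node (.node (.node (.node (.node (.node (.node (.leaf 0) (.leaf 81)) (.leaf 130)) (.node (.leaf 0) (.leaf 0))) (.node (.node (.leaf 0) (.leaf 0)) (.node (.leaf 9) (.leaf 273)))) (.node (.node (.node (.node (.leaf 0) (.leaf 266)) (.leaf 183)) (.node (.leaf 57) (.leaf 100))) (.node (.node (.leaf 4) (.leaf 59)) (.node (.leaf 159) (.leaf 218))))) (.node (.node (.node (.node (.node (.leaf 0) (.leaf 173)) (.leaf 0)) (.node (.leaf 0) (.leaf 184))) (.node (.node (.leaf 0) (.leaf 0)) (.node (.leaf 165) (.leaf 267)))) (.node (.node (.node (.leaf 0) (.leaf 0)) (.node (.leaf 0) (.leaf 249))) (.node (.node (.leaf 55) (.leaf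 244)) (.node (.leaf 0) (.leaf 219)))))) (.node (.node (.node (.node (.node (.node (.leaf 121) (.leaf 126)) (.leaf 48)) (.node (.leaf 5) (.leaf 155))) (.node (.node (.leaf 0) (.leaf 163)) (.node (.leaf 146) (.leaf 0)))) (.node (.node (.node (.leaf 0) (.leaf 53)) (.node (.leaf 131) (.leaf 0))) (.node (.node (.leaf 0) (.leaf 195)) (.node (.leaf 269) (.leaf 154))))) (.node (.node (.node (.node (.node (.leaf 0) (.leaf 274)) (.leaf 0)) (.node (.leaf 0) (.leaf 205))) (.node (.node (.leaf 0) (.leaf 192)) (.node (.leaf 0) (.leaf 182)))) (.node (.node (.node (.leaf 0) (.leaf 83)) (.node (.leaf 0) (.leaf 74))) (.node (.node (.leaf 179) (.leaf 49)) (.node (.leaf 0) (.leaf 233)))))))) (.node (.node (.node (.node (.node (.node (.node (.node (.leaf 0) (.leaf 212)) (.leaf 197)) (.node (.leaf 124) (.leaf 117))) (.node (.node (.leaf 0) (.leaf 164)) (.node (.leaf 0) (.leaf 0)))) (.node (.node (.node (.node (.leaf 0) (.leaf 88)) (.leaf 0)) (.node (.leaf 0) (.leaf 63))) (.node (.node (.leaf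 0) (.leaf 251)) (.node (.leaf 0) (.leaf 0))))) (.node (.node (.node (.node (.node (.leaf 0) (.leaf 137)) (.leaf 0)) (.node (.leaf 0) (.leaf 236))) (.node (.node (.leaf 0) (.leaf 0)) (.node (.leaf 0) (.leaf 0)))) (.node (.node (.node (.leaf 0) (.leaf 0)) (.node (.leaf 0) (.leaf 222))) (.node (.node (.leaf 0) (.leaf 268)) (.node (.leaf 50) (.leaf 188)))))) (.node (.node (.node (.node (.node (.node (.leaf 0) (.leaf 224)) (.leaf 0)) (.node (.leaf 47) (.leaf 62))) (.node (.node (.leaf 0) (.leaf 0)) (.node (.leaf 0) (.leaf 0)))) (.node (.node (.node (.leaf 2) (.leaf 0)) (.node (.leaf 147) (.leaf 115))) (.node (.node (.leaf 125) (.leaf 196)) (.node (.leaf 248) (.leaf 206))))) (.node (.node (.node (.node (.node (.leaf 0) (.leaf 82)) (.leaf 0)) (.node (.leaf 6) (.leaf 135))) (.node (.node (.leaf 0) (.leaf 0)) (.node (.leaf 10) (.leaf 119)))) (.node (.node (.node (.leaf 0) (.leaf 54)) (.node (.leaf 0) (.leaf 0))) (.node (.node (.leaf 0) (.leaf 0)) (.node (.leaf 0) (.leaf 0)))))))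 (.node (.node (.node (.node (.node (.node (.node (.leaf 0) (.leaf 263)) (.leaf 239)) (.node (.leaf 0) (.leaf 73))) (.node (.node (.leaf 0) (.leaf 175)) (.node (.leaf 178) (.leaf 272)))) (.node (.node (.node (.leaf 0) (.leaf 0)) (.node (.leaf 150) (.leaf 160))) (.node (.node (.leaf 0) (.leaf 240)) (.node (.leaf 0) (.leaf 217))))) (.node (.node (.node (.node (.node (.leaf 0) (.leaf 216)) (.leaf 0)) (.node (.leaf 0) (.leaf 78))) (.node (.node (.leaf 0) (.leaf 0)) (.node (.leaf 123) (.leaf 14)))) (.node (.node (.node (.leaf 0) (.leaf 200)) (.node (.leaf 0) (.leaf 270))) (.node (.node (.leaf 58) (.leaf 0)) (.node (.leaf 0) (.leaf 84)))))) (.node (.node (.node (.node (.node (.node (.leaf 1) (.leaf 214)) (.leaf 103)) (.node (.leaf 0) (.leaf 67))) (.node (.node (.leaf 0) (.leaf 0)) (.node (.leaf 180) (.leaf 161)))) (.node (.node (.node (.leaf 0) (.leaf 0)) (.node (.leaf 0) (.leaf 174))) (.node (.node (.leaf 0) (.leaf 171)) (.node (.leaf 0) (.leaf 215))))) (.node (.node (.node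 (.node (.node (.leaf 0) (.leaf 262)) (.leaf 120)) (.node (.leaf 0) (.leaf 138))) (.node (.node (.leaf 39) (.leaf 51)) (.node (.leaf 0) (.leaf 185)))) (.node (.node (.node (.leaf 0) (.leaf 0)) (.node (.leaf 0) (.leaf 139))) (.node (.node (.leaf 0) (.leaf 127)) (.node (.leaf 134) (.leaf 0))))))))) (.node (.node (.node (.node (.node (.node (.node (.node (.node (.leaf 0) (.leaf 203)) (.leaf 43)) (.node (.leaf 0) (.leaf 110))) (.node (.node (.leaf 0) (.leaf 29)) (.node (.leaf 0) (.leaf 0)))) (.node (.node (.node (.node (.leaf 0) (.leaf 201)) (.leaf 0)) (.node (.leaf 0) (.leaf 0))) (.node (.node (.leaf 0) (.leaf 234)) (.node (.leaf 93) (.leaf 187))))) (.node (.node (.node (.node (.node (.leaf 0) (.leaf 0)) (.leaf 168)) (.node (.leaf 0) (.leaf 0))) (.node (.node (.leaf 0) (.leaf 246)) (.node (.leaf 0) (.leaf 166)))) (.node (.node (.node (.leaf 0) (.leaf 0)) (.node (.leaf 0) (.leaf 226))) (.node (.node (.leaf 0) (.leaf 0)) (.node (.leaf 0) (.leaf 186)))))) (.node (.node (.node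 (.node (.node (.node (.leaf 0) (.leaf 228)) (.leaf 0)) (.node (.leaf 0) (.leaf 0))) (.node (.node (.leaf 0) (.leaf 209)) (.node (.leaf 255) (.leaf 106)))) (.node (.node (.node (.leaf 17) (.leaf 0)) (.node (.leaf 0) (.leaf 34))) (.node (.node (.leaf 128) (.leaf 0)) (.node (.leaf 0) (.leaf 193))))) (.node (.node (.node (.node (.node (.leaf 0) (.leaf 0)) (.leaf 0)) (.node (.leaf 0) (.leaf 0))) (.node (.node (.leaf 0) (.leaf 0)) (.node (.leaf 24) (.leaf 204)))) (.node (.node (.node (.leaf 0) (.leaf 0)) (.node (.leaf 0) (.leaf 112))) (.node (.node (.leaf 0) (.leaf 75)) (.node (.leaf 245) (.leaf 157))))))) (.node (.node (.node (.node (.node (.node (.node (.leaf 0) (.leaf 104)) (.leaf 26)) (.node (.leaf 0) (.leaf 0))) (.node (.node (.leaf 0) (.leaf 0)) (.node (.leaf 0) (.leaf 275)))) (.node (.node (.node (.node (.leaf 0) (.leaf 265)) (.leaf 167)) (.node (.leaf 0) (.leaf 0))) (.node (.node (.leaf 0) (.leaf 0)) (.node (.leaf 0) (.leaf 37))))) (.node (.node (.node (.node (.node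 (.leaf 0) (.leaf 87)) (.leaf 136)) (.node (.leaf 98) (.leaf 76))) (.node (.node (.leaf 0) (.leaf 0)) (.node (.leaf 70) (.leaf 238)))) (.node (.node (.node (.leaf 0) (.leaf 65)) (.node (.leaf 0) (.leaf 64))) (.node (.node (.leaf 0) (.leaf 237)) (.node (.leaf 44) (.leaf 242)))))) (.node (.node (.node (.node (.node (.node (.leaf 0) (.leaf 69)) (.leaf 0)) (.node (.leaf 0) (.leaf 210))) (.node (.node (.leaf 0) (.leaf 0)) (.node (.leaf 0) (.leaf 36)))) (.node (.node (.node (.leaf 0) (.leaf 0)) (.node (.leaf 0) (.leaf 0))) (.node (.node (.leaf 0) (.leaf 176)) (.node (.leaf 0) (.leaf 221))))) (.node (.node (.node (.node (.node (.leaf 0) (.leaf 276)) (.leaf 177)) (.node (.leaf 0) (.leaf 0))) (.node (.node (.leaf 46) (.leaf 231)) (.node (.leaf 0) (.leaf 227)))) (.node (.node (.node (.leaf 0) (.leaf 0)) (.node (.leaf 0) (.leaf 68))) (.node (.node (.leaf 0) (.leaf 189)) (.node (.leaf 241) (.leaf 230)))))))) (.node (.node (.node (.node (.node (.node (.node (.node (.leaf 0) (.leaf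 145)) (.leaf 102)) (.node (.leaf 0) (.leaf 32))) (.node (.node (.leaf 0) (.leaf 225)) (.node (.leaf 23) (.leaf 0)))) (.node (.node (.node (.node (.leaf 0) (.leaf 259)) (.leaf 109)) (.node (.leaf 149) (.leaf 0))) (.node (.node (.leaf 20) (.leaf 0)) (.node (.leaf 0) (.leaf 0))))) (.node (.node (.node (.node (.node (.leaf 0) (.leaf 208)) (.leaf 235)) (.node (.leaf 0) (.leaf 0))) (.node (.node (.leaf 0) (.leaf 30)) (.node (.leaf 45) (.leaf 0)))) (.node (.node (.node (.leaf 0) (.leaf 254)) (.node (.leaf 0) (.leaf 0))) (.node (.node (.leaf 0) (.leaf 31)) (.node (.leaf 0) (.leaf 194)))))) (.node (.node (.node (.node (.node (.node (.leaf 0) (.leaf 85)) (.leaf 71)) (.node (.leaf 91) (.leaf 156))) (.node (.node (.leaf 0) (.leaf 0)) (.node (.leaf 92) (.leaf 144)))) (.node (.node (.node (.leaf 95) (.leaf 133)) (.node (.leaf 0) (.leaf 207))) (.node (.node (.leaf 0) (.leaf 0)) (.node (.leaf 0) (.leaf 191))))) (.node (.node (.node (.node (.node (.leaf 16) (.leaf 220)) (.leaf 0)) (.node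 (.leaf 0) (.leaf 0))) (.node (.node (.leaf 107) (.leaf 253)) (.node (.leaf 94) (.leaf 111)))) (.node (.node (.node (.leaf 0) (.leaf 66)) (.node (.leaf 0) (.leaf 114))) (.node (.node (.leaf 0) (.leaf 0)) (.node (.leaf 140) (.leaf 105))))))) (.node (.node (.node (.node (.node (.node (.node (.leaf 0) (.leaf 258)) (.leaf 0)) (.node (.leaf 41) (.leaf 132))) (.node (.node (.leaf 0) (.leaf 0)) (.node (.leaf 0) (.leaf 256)))) (.node (.node (.node (.leaf 0) (.leaf 28)) (.node (.leaf 148) (.leaf 0))) (.node (.node (.leaf 0) (.leaf 162)) (.node (.leaf 25) (.leaf 202))))) (.node (.node (.node (.node (.node (.leaf 0) (.leaf 86)) (.leaf 27)) (.node (.leaf 0) (.leaf 33))) (.node (.node (.leaf 19) (.leaf 0)) (.node (.leaf 0) (.leaf 0)))) (.node (.node (.node (.leaf 0) (.leaf 199)) (.node (.leaf 0) (.leaf 0))) (.node (.node (.leaf 0) (.leaf 170)) (.node (.leaf 0) (.leaf 229)))))) (.node (.node (.node (.node (.node (.node (.leaf 0) (.leaf 0)) (.leaf 0)) (.node (.leaf 99) (.leaf 169)))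 (.node (.node (.leaf 129) (.leaf 108)) (.node (.leaf 0) (.leaf 153)))) (.node (.node (.node (.leaf 0) (.leaf 0)) (.node (.leaf 22) (.leaf 232))) (.node (.node (.leaf 0) (.leaf 0)) (.node (.leaf 0) (.leaf 38))))) (.node (.node (.node (.node (.node (.leaf 0) (.leaf 264)) (.leaf 0)) (.node (.leaf 0) (.leaf 190))) (.node (.node (.leaf 141) (.leaf 0)) (.node (.leaf 0) (.leaf 77)))) (.node (.node (.node (.leaf 18) (.leaf 152)) (.node (.leaf 0) (.leaf 35))) (.node (.node (.leaf 21) (.leaf 42)) (.node (.leaf 113) (.leaf 247)))))))))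

/-- data -/
def tree0 : Trie (ℕ × ℕ) := .node (.node (.node (.node (.node (.node (.node (.node (.node (.leaf (0, 0)) (.leaf (220, 0))) (.leaf (84, 0))) (.node (.leaf (36, 1)) (.leaf (142, 0)))) (.node (.node (.leaf (17, 0)) (.leaf (110, 1))) (.node (.leaf (58, 1)) (.leaf (172, 0))))) (.node (.node (.node (.node (.leaf (8, 1)) (.leaf (263, 1))) (.leaf (94, 0))) (.node (.leaf (46, 0)) (.leaf (158, 1)))) (.node (.node (.leaf (27, 0)) (.leaf (123, 0))) (.node (.leaf (71, 0)) (.leaf (196, 1)))))) (.node (.node (.node (.node (.node (.leaf (3, 1)) (.leaf (233, 1))) (.leaf (90, 0))) (.node (.leaf (41, 0)) (.leaf (151, 0)))) (.node (.node (.leaf (23, 0)) (.leaf (117, 1))) (.node (.leaf (64, 0)) (.leaf (183, 1))))) (.node (.node (.node (.leaf (12, 1)) (.leaf (99, 1))) (.node (.leaf (54, 0)) (.leaf (165, 1)))) (.node (.node (.leaf (31, 0)) (.leaf (134, 1))) (.node (.leaf (77, 1)) (.leaf (209, 1))))))) (.node (.node (.node (.node (.node (.node (.leaf (1, 1)) (.leaf (225, 1))) (.leaf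 (87, 0))) (.node (.leaf (38, 1)) (.leaf (147, 0)))) (.node (.node (.leaf (19, 0)) (.leaf (113, 1))) (.node (.leaf (61, 0)) (.leaf (177, 1))))) (.node (.node (.node (.leaf (10, 1)) (.leaf (96, 0))) (.node (.leaf (51, 0)) (.leaf (162, 1)))) (.node (.node (.leaf (29, 0)) (.leaf (131, 1))) (.node (.leaf (74, 0)) (.leaf (205, 1)))))) (.node (.node (.node (.node (.node (.leaf (5, 1)) (.leaf (248, 0))) (.leaf (92, 0))) (.node (.leaf (43, 0)) (.leaf (153, 0)))) (.node (.node (.leaf (25, 0)) (.leaf (120, 0))) (.node (.leaf (66, 1)) (.leaf (189, 0))))) (.node (.node (.node (.leaf (15, 0)) (.leaf (104, 1))) (.node (.leaf (56, 0)) (.leaf (170, 0)))) (.node (.node (.leaf (34, 0)) (.leaf (139, 0))) (.node (.leaf (79, 1)) (.leaf (214, 1)))))))) (.node (.node (.node (.node (.node (.node (.node (.leaf (0, 1)) (.leaf (224, 1))) (.leaf (85, 1))) (.node (.leaf (37, 1)) (.leaf (144, 1)))) (.node (.node (.leaf (18, 0)) (.leaf (111, 1))) (.node (.leaf (60, 0)) (.leaf (173, 0))))) (.node (.node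 (.node (.node (.leaf (9, 1)) (.leaf (268, 1))) (.leaf (95, 0))) (.node (.leaf (49, 0)) (.leaf (160, 0)))) (.node (.node (.leaf (28, 0)) (.leaf (125, 0))) (.node (.leaf (73, 0)) (.leaf (201, 1)))))) (.node (.node (.node (.node (.node (.leaf (4, 1)) (.leaf (241, 0))) (.leaf (91, 0))) (.node (.leaf (42, 0)) (.leaf (152, 0)))) (.node (.node (.leaf (24, 0)) (.leaf (119, 0))) (.node (.leaf (65, 1)) (.leaf (184, 1))))) (.node (.node (.node (.leaf (14, 0)) (.leaf (102, 1))) (.node (.leaf (55, 0)) (.leaf (167, 0)))) (.node (.node (.leaf (33, 0)) (.leaf (137, 0))) (.node (.leaf (78, 1)) (.leaf (211, 1))))))) (.node (.node (.node (.node (.node (.node (.leaf (2, 1)) (.leaf (230, 0))) (.leaf (89, 0))) (.node (.leaf (40, 0)) (.leaf (149, 0)))) (.node (.node (.leaf (22, 0)) (.leaf (115, 0))) (.node (.leaf (62, 1)) (.leaf (180, 1))))) (.node (.node (.node (.leaf (11, 1)) (.leaf (97, 0))) (.node (.leaf (52, 0)) (.leaf (164, 0)))) (.node (.node (.leaf (30, 0)) (.leaf (132, 1))) (.node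 (.leaf (75, 1)) (.leaf (208, 0)))))) (.node (.node (.node (.node (.node (.leaf (7, 1)) (.leaf (255, 0))) (.leaf (93, 0))) (.node (.leaf (44, 1)) (.leaf (156, 0)))) (.node (.node (.leaf (26, 0)) (.leaf (121, 1))) (.node (.leaf (68, 1)) (.leaf (194, 0))))) (.node (.node (.node (.leaf (16, 0)) (.leaf (107, 1))) (.node (.leaf (57, 0)) (.leaf (171, 0)))) (.node (.node (.leaf (35, 0)) (.leaf (141, 0))) (.node (.leaf (81, 0)) (.leaf (217, 1))))))))) (.node (.node (.node (.node (.node (.node (.node (.node (.leaf (0, 0)) (.leaf (221, 0))) (.leaf (84, 1))) (.node (.leaf (37, 0)) (.leaf (143, 1)))) (.node (.node (.leaf (17, 1)) (.leaf (111, 0))) (.node (.leaf (59, 1)) (.leaf (172, 1))))) (.node (.node (.node (.node (.leaf (9, 0)) (.leaf (264, 1))) (.leaf (94, 1))) (.node (.leaf (48, 1)) (.leaf (159, 0)))) (.node (.node (.leaf (27, 1)) (.leaf (123, 1))) (.node (.leaf (72, 1)) (.leaf (200, 1)))))) (.node (.node (.node (.node (.node (.leaf (4, 0)) (.leaf (235, 1))) (.leaf (90, 1)))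 (.node (.leaf (41, 1)) (.leaf (151, 1)))) (.node (.node (.leaf (23, 1)) (.leaf (118, 1))) (.node (.leaf (64, 1)) (.leaf (184, 0))))) (.node (.node (.node (.leaf (13, 0)) (.leaf (101, 0))) (.node (.leaf (54, 1)) (.leaf (166, 1)))) (.node (.node (.leaf (32, 1)) (.leaf (135, 1))) (.node (.leaf (78, 0)) (.leaf (210, 1))))))) (.node (.node (.node (.node (.node (.node (.leaf (2, 0)) (.leaf (229, 0))) (.leaf (88, 1))) (.node (.leaf (39, 0)) (.leaf (148, 1)))) (.node (.node (.leaf (19, 1)) (.leaf (114, 1))) (.node (.leaf (61, 1)) (.leaf (178, 1))))) (.node (.node (.node (.leaf (11, 0)) (.leaf (96, 1))) (.node (.leaf (51, 1)) (.leaf (163, 1)))) (.node (.node (.leaf (29, 1)) (.leaf (132, 0))) (.node (.leaf (75, 0)) (.leaf (206, 1)))))) (.node (.node (.node (.node (.node (.leaf (6, 1)) (.leaf (253, 0))) (.leaf (92, 1))) (.node (.leaf (44, 0)) (.leaf (154, 0)))) (.node (.node (.leaf (25, 1)) (.leaf (120, 1))) (.node (.leaf (67, 0)) (.leaf (189, 1))))) (.node (.node (.node (.leaf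 (15, 1)) (.leaf (105, 0))) (.node (.leaf (56, 1)) (.leaf (170, 1)))) (.node (.node (.leaf (34, 1)) (.leaf (140, 1))) (.node (.leaf (80, 1)) (.leaf (216, 0)))))))) (.node (.node (.node (.node (.node (.node (.node (.leaf (1, 0)) (.leaf (225, 0))) (.leaf (86, 1))) (.node (.leaf (38, 0)) (.leaf (145, 0)))) (.node (.node (.leaf (18, 1)) (.leaf (113, 0))) (.node (.leaf (60, 1)) (.leaf (175, 1))))) (.node (.node (.node (.leaf (10, 0)) (.leaf (95, 1))) (.node (.leaf (50, 1)) (.leaf (162, 0)))) (.node (.node (.leaf (28, 1)) (.leaf (126, 0))) (.node (.leaf (73, 1)) (.leaf (204, 1)))))) (.node (.node (.node (.node (.node (.leaf (5, 0)) (.leaf (241, 1))) (.leaf (91, 1))) (.node (.leaf (42, 1)) (.leaf (152, 1)))) (.node (.node (.leaf (24, 1)) (.leaf (119, 1))) (.node (.leaf (66, 0)) (.leaf (187, 0))))) (.node (.node (.node (.leaf (14, 1)) (.leaf (103, 1))) (.node (.leaf (55, 1)) (.leaf (169, 0)))) (.node (.node (.leaf (33, 1)) (.leaf (138, 0))) (.node (.leaf (79, 0)) (.leaf (214,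 0))))))) (.node (.node (.node (.node (.node (.node (.leaf (3, 0)) (.leaf (233, 0))) (.leaf (89, 1))) (.node (.leaf (40, 1)) (.leaf (150, 1)))) (.node (.node (.leaf (22, 1)) (.leaf (116, 1))) (.node (.leaf (63, 0)) (.leaf (181, 1))))) (.node (.node (.node (.leaf (12, 0)) (.leaf (98, 1))) (.node (.leaf (53, 1)) (.leaf (165, 0)))) (.node (.node (.leaf (30, 1)) (.leaf (133, 0))) (.node (.leaf (76, 1)) (.leaf (208, 1)))))) (.node (.node (.node (.node (.node (.leaf (8, 0)) (.leaf (260, 0))) (.leaf (93, 1))) (.node (.leaf (45, 0)) (.leaf (156, 1)))) (.node (.node (.leaf (26, 1)) (.leaf (122, 0))) (.node (.leaf (70, 1)) (.leaf (194, 1))))) (.node (.node (.node (.leaf (16, 1)) (.leaf (110, 0))) (.node (.leaf (57, 1)) (.leaf (171, 1)))) (.node (.node (.leaf (35, 1)) (.leaf (141, 1))) (.node (.leaf (82, 1)) (.leaf (219, 1)))))))))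

/-- data -/
def cert0 : Trie (ℕ × ℕ × ℕ) := .node (.node (.node (.node (.node (.node (.node (.node (.node (.leaf (2, 0, 3)) (.leaf (5, 44, 4))) (.leaf (3, 11, 2))) (.node (.leaf (12, 1, 7)) (.leaf (33, 144, 10)))) (.node (.node (.leaf (3, 60, 3)) (.leaf (2, 162, 3))) (.node (.leaf (2, 43, 3)) (.leaf (6, 166, 11))))) (.node (.node (.node (.node (.leaf (3, 1, 3)) (.leaf (7, 45, 6))) (.leaf (3, 138, 3))) (.node (.leaf (23, 0, 10)) (.leaf (33, 3, 10)))) (.node (.node (.leaf (7, 11, 6)) (.leaf (33, 29, 12))) (.node (.leaf (4, 3, 9)) (.leaf (6, 15, 6)))))) (.node (.node (.node (.node (.node (.leaf (2, 18, 3)) (.leaf (3, 256, 2))) (.leaf (8, 138, 3))) (.node (.leaf (18, 0, 9)) (.leaf (7, 134, 4)))) (.node (.node (.leaf (6, 0, 6)) (.leaf (7, 106, 7))) (.node (.leaf (8, 25, 8)) (.leaf (7, 161, 9))))) (.node (.node (.node (.leaf (3, 23, 3)) (.leaf (3, 159, 2))) (.node (.leaf (28, 0, 6)) (.leaf (8, 243, 0)))) (.node (.node (.leaf (6, 1, 7)) (.leaf (2, 152, 2))) (.node (.leaf (6,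 6, 13)) (.leaf (2, 75, 3))))))) (.node (.node (.node (.node (.node (.node (.leaf (2, 12, 3)) (.leaf (2, 120, 2))) (.leaf (3, 58, 2))) (.node (.leaf (15, 3, 9)) (.leaf (4, 15, 4)))) (.node (.node (.leaf (3, 98, 3)) (.leaf (8, 102, 3))) (.node (.leaf (2, 160, 3)) (.leaf (6, 72, 6))))) (.node (.node (.node (.leaf (3, 9, 3)) (.leaf (3, 48, 1))) (.node (.leaf (25, 0, 11)) (.leaf (6, 82, 4)))) (.node (.node (.leaf (6, 4, 7)) (.leaf (2, 63, 3))) (.node (.leaf (2, 57, 3)) (.leaf (6, 176, 10)))))) (.node (.node (.node (.node (.node (.leaf (2, 45, 3)) (.leaf (2, 118, 0))) (.leaf (3, 26, 1))) (.node (.leaf (3, 144, 2)) (.leaf (6, 104, 2)))) (.node (.node (.leaf (6, 10, 9)) (.leaf (5, 9, 10))) (.node (.leaf (34, 1, 7)) (.leaf (6, 98, 6))))) (.node (.node (.node (.leaf (3, 38, 3)) (.leaf (3, 148, 3))) (.node (.leaf (30, 0, 7)) (.leaf (3, 246, 0)))) (.node (.node (.leaf (8, 34, 4)) (.leaf (4, 56, 3))) (.node (.leaf (33, 1, 5)) (.leaf (6, 25, 9)))))))) (.node (.node (.node (.node (.node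 (.node (.node (.leaf (2, 4, 3)) (.leaf (3, 233, 2))) (.leaf (2, 29, 2))) (.node (.leaf (13, 1, 8)) (.leaf (5, 8, 4)))) (.node (.node (.leaf (3, 76, 3)) (.leaf (6, 73, 2))) (.node (.leaf (6, 12, 10)) (.leaf (4, 23, 7))))) (.node (.node (.node (.node (.leaf (3, 5, 3)) (.leaf (4, 54, 7))) (.leaf (2, 37, 2))) (.node (.leaf (24, 19, 4)) (.leaf (4, 30, 6)))) (.node (.node (.leaf (6, 78, 2)) (.leaf (2, 35, 1))) (.node (.leaf (4, 2, 8)) (.leaf (4, 24, 4)))))) (.node (.node (.node (.node (.node (.leaf (2, 24, 3)) (.leaf (5, 55, 4))) (.leaf (2, 189, 2))) (.node (.leaf (19, 1, 8)) (.leaf (7, 82, 7)))) (.node (.node (.leaf (6, 3, 6)) (.leaf (7, 88, 2))) (.node (.leaf (6, 45, 0)) (.leaf (7, 79, 4))))) (.node (.node (.node (.leaf (3, 30, 3)) (.leaf (2, 149, 1))) (.node (.leaf (29, 0, 6)) (.leaf (6, 34, 7)))) (.node (.node (.leaf (8, 26, 4)) (.leaf (33, 142, 10))) (.node (.leaf (7, 2, 6)) (.leaf (35, 49, 12))))))) (.node (.node (.node (.node (.node (.node (.leaf (2, 14, 3)) (.leaf (2,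 225, 1))) (.leaf (2, 127, 2))) (.node (.leaf (3, 65, 3)) (.leaf (33, 129, 10)))) (.node (.node (.leaf (0, 0, 6)) (.leaf (3, 146, 0))) (.node (.leaf (33, 8, 14)) (.leaf (33, 38, 12))))) (.node (.node (.node (.leaf (3, 17, 3)) (.leaf (2, 83, 2))) (.node (.leaf (26, 0, 11)) (.leaf (4, 35, 10)))) (.node (.node (.leaf (7, 17, 2)) (.leaf (2, 95, 1))) (.node (.leaf (7, 189, 1)) (.leaf (33, 45, 10)))))) (.node (.node (.node (.node (.node (.leaf (2, 119, 3)) (.leaf (4, 42, 12))) (.leaf (2, 55, 2))) (.node (.leaf (21, 3, 7)) (.leaf (6, 163, 10)))) (.node (.node (.leaf (7, 0, 6)) (.leaf (8, 72, 10))) (.node (.leaf (6, 56, 9)) (.leaf (4, 16, 10))))) (.node (.node (.node (.leaf (3, 54, 3)) (.leaf (2, 41, 3))) (.node (.leaf (5, 0, 13)) (.leaf (2, 217, 3)))) (.node (.node (.leaf (2, 110, 2)) (.leaf (33, 84, 10))) (.node (.leaf (6, 44, 4)) (.leaf (4, 0, 7))))))))) (.node (.node (.node (.node (.node (.node (.node (.node (.leaf (2, 2, 3)) (.leaf (4, 44, 5))) (.leaf (6, 8, 8))) (.node (.leaf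 (3, 62, 3)) (.leaf (3, 205, 3)))) (.node (.node (.leaf (3, 70, 3)) (.leaf (8, 87, 5))) (.node (.leaf (7, 21, 7)) (.leaf (3, 114, 2))))) (.node (.node (.node (.node (.leaf (3, 3, 3)) (.leaf (2, 173, 3))) (.leaf (5, 19, 14))) (.node (.leaf (2, 216, 2)) (.leaf (3, 72, 3)))) (.node (.node (.leaf (2, 78, 1)) (.leaf (4, 31, 10))) (.node (.leaf (3, 82, 3)) (.leaf (3, 126, 3)))))) (.node (.node (.node (.node (.node (.leaf (2, 22, 3)) (.leaf (4, 159, 4))) (.leaf (35, 56, 34))) (.node (.leaf (2, 145, 3)) (.leaf (3, 204, 1)))) (.node (.node (.leaf (3, 67, 3)) (.leaf (3, 136, 3))) (.node (.leaf (3, 123, 2)) (.leaf (4, 25, 11))))) (.node (.node (.node (.leaf (3, 28, 3)) (.leaf (7, 29, 6))) (.node (.leaf (2, 68, 3)) (.leaf (6, 53, 7)))) (.node (.node (.leaf (7, 1, 5)) (.leaf (7, 142, 7))) (.node (.leaf (2, 6, 3)) (.leaf (5, 17, 4))))))) (.node (.node (.node (.node (.node (.node (.leaf (2, 13, 3)) (.leaf (7, 183, 6))) (.leaf (4, 17, 10))) (.node (.leaf (16, 10, 4)) (.leaf (2, 101, 2))))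 (.node (.node (.leaf (3, 107, 3)) (.leaf (33, 20, 10))) (.node (.leaf (32, 1, 7)) (.leaf (3, 166, 2))))) (.node (.node (.node (.leaf (3, 15, 3)) (.leaf (7, 15, 6))) (.node (.leaf (3, 200, 2)) (.leaf (2, 184, 2)))) (.node (.node (.leaf (2, 97, 3)) (.leaf (6, 32, 5))) (.node (.leaf (6, 140, 2)) (.leaf (3, 79, 3)))))) (.node (.node (.node (.node (.node (.leaf (2, 91, 3)) (.leaf (6, 116, 7))) (.leaf (4, 13, 4))) (.node (.leaf (8, 9, 7)) (.leaf (4, 19, 6)))) (.node (.node (.leaf (3, 36, 3)) (.leaf (8, 165, 1))) (.node (.leaf (3, 94, 2)) (.leaf (3, 134, 2))))) (.node (.node (.node (.leaf (3, 42, 3)) (.leaf (33, 12, 14))) (.node (.leaf (31, 5, 5)) (.leaf (4, 28, 10)))) (.node (.node (.leaf (10, 33, 4)) (.leaf (3, 104, 2))) (.node (.leaf (6, 29, 7)) (.leaf (3, 77, 3)))))))) (.node (.node (.node (.node (.node (.node (.node (.leaf (2, 8, 3)) (.leaf (5, 4, 10))) (.leaf (34, 119, 4))) (.node (.leaf (14, 0, 9)) (.leaf (2, 87, 2)))) (.node (.node (.leaf (3, 86, 3)) (.leaf (2, 111,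 1))) (.node (.leaf (6, 109, 7)) (.leaf (3, 172, 2))))) (.node (.node (.node (.node (.leaf (3, 7, 3)) (.leaf (4, 107, 7))) (.leaf (33, 7, 3))) (.node (.leaf (2, 158, 3)) (.leaf (2, 213, 2)))) (.node (.node (.leaf (7, 7, 6)) (.leaf (6, 35, 2))) (.node (.leaf (8, 94, 1)) (.leaf (2, 137, 1)))))) (.node (.node (.node (.node (.node (.leaf (2, 31, 3)) (.leaf (33, 134, 8))) (.leaf (33, 49, 3))) (.node (.leaf (20, 1, 8)) (.leaf (4, 38, 5)))) (.node (.node (.leaf (3, 44, 2)) (.leaf (2, 133, 3))) (.node (.leaf (33, 2, 12)) (.leaf (4, 46, 8))))) (.node (.node (.node (.leaf (3, 32, 3)) (.leaf (7, 50, 4))) (.node (.leaf (3, 34, 2)) (.leaf (7, 72, 7)))) (.node (.node (.leaf (9, 1, 6)) (.leaf (4, 9, 10))) (.node (.leaf (7, 19, 2)) (.leaf (2, 51, 2))))))) (.node (.node (.node (.node (.node (.node (.leaf (2, 16, 3)) (.leaf (6, 271, 0))) (.leaf (35, 138, 0))) (.node (.leaf (17, 1, 6)) (.leaf (4, 10, 8)))) (.node (.node (.leaf (1, 0, 4)) (.leaf (6, 30, 3))) (.node (.leaf (33, 258, 0)) (.leaf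 (3, 121, 2))))) (.node (.node (.node (.leaf (3, 19, 3)) (.leaf (6, 50, 6))) (.node (.leaf (27, 1, 11)) (.leaf (33, 200, 2)))) (.node (.node (.leaf (2, 27, 1)) (.leaf (7, 9, 6))) (.node (.leaf (4, 5, 6)) (.leaf (4, 43, 10)))))) (.node (.node (.node (.node (.node (.leaf (3, 0, 3)) (.leaf (2, 169, 2))) (.leaf (33, 127, 3))) (.node (.leaf (22, 0, 9)) (.leaf (3, 163, 3)))) (.node (.node (.leaf (2, 39, 3)) (.leaf (33, 76, 7))) (.node (.leaf (3, 140, 3)) (.leaf (2, 81, 2))))) (.node (.node (.node (.leaf (3, 56, 3)) (.leaf (7, 23, 8))) (.node (.leaf (6, 21, 7)) (.leaf (6, 138, 5)))) (.node (.node (.leaf (11, 0, 9)) (.leaf (35, 47, 14))) (.node (.leaf (4, 1, 5)) (.leaf (33, 61, 7)))))))))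

/-- data -/
def pot0 : Trie (Vec) := .node (.node (.node (.node (.node (.node (.node (.node (.node (.leaf ([])) (.leaf ([5, 5]))) (.leaf ([6, 2]))) (.node (.leaf ([3, 3])) (.leaf ([5, 4])))) (.node (.node (.leaf ([4, 1])) (.leaf ([3, 5]))) (.node (.leaf ([4, 3])) (.leaf ([5, 4]))))) (.node (.node (.node (.node (.leaf ([2, 2])) (.leaf ([7, 5]))) (.leaf ([6, 2]))) (.node (.leaf ([6, 1])) (.leaf ([3, 6])))) (.node (.node (.leaf ([4, 2])) (.leaf ([4, 4]))) (.node (.leaf ([4, 3])) (.leaf ([5, 5])))))) (.node (.node (.node (.node (.node (.leaf ([2, 1])) (.leaf ([6, 5]))) (.leaf ([5, 3]))) (.node (.leaf ([3, 3])) (.leaf ([6, 3])))) (.node (.node (.leaf ([3, 2])) (.leaf ([3, 5]))) (.node (.leaf ([4, 3])) (.leaf ([6, 4]))))) (.node (.node (.node (.leaf ([1, 3])) (.leaf ([4, 4]))) (.node (.leaf ([5, 2])) (.leaf ([3, 6])))) (.node (.node (.leaf ([3, 3])) (.leaf ([5, 4]))) (.node (.leaf ([3, 4])) (.leaf ([5, 5]))))))) (.node (.node (.node (.node (.node (.node (.leaf ([1, 1])) (.leaf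 ([4, 6]))) (.leaf ([4, 4]))) (.node (.leaf ([3, 3])) (.leaf ([5, 4])))) (.node (.node (.leaf ([3, 2])) (.leaf ([3, 5]))) (.node (.leaf ([4, 3])) (.leaf ([3, 6]))))) (.node (.node (.node (.leaf ([1, 3])) (.leaf ([5, 3]))) (.node (.leaf ([5, 2])) (.leaf ([4, 5])))) (.node (.node (.leaf ([4, 2])) (.leaf ([5, 4]))) (.node (.leaf ([4, 3])) (.leaf ([4, 6])))))) (.node (.node (.node (.node (.node (.leaf ([1, 2])) (.leaf ([6, 5]))) (.leaf ([5, 3]))) (.node (.leaf ([2, 4])) (.leaf ([5, 4])))) (.node (.node (.leaf ([2, 3])) (.leaf ([4, 4]))) (.node (.leaf ([2, 5])) (.leaf ([6, 4]))))) (.node (.node (.node (.leaf ([4, 1])) (.leaf ([4, 4]))) (.node (.leaf ([4, 3])) (.leaf ([4, 5])))) (.node (.node (.leaf ([4, 2])) (.leaf ([4, 5]))) (.node (.leaf ([2, 5])) (.leaf ([4, 6])))))))) (.node (.node (.node (.node (.node (.node (.node (.leaf ([0, 1])) (.leaf ([5, 5]))) (.leaf ([4, 4]))) (.node (.leaf ([2, 4])) (.leaf ([6, 3])))) (.node (.node (.leaf ([3, 2])) (.leaf ([4, 4]))) (.node (.leaf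 ([5, 2])) (.leaf ([4, 5]))))) (.node (.node (.node (.node (.leaf ([2, 2])) (.leaf ([6, 6]))) (.leaf ([5, 3]))) (.node (.leaf ([4, 3])) (.leaf ([4, 5])))) (.node (.node (.leaf ([5, 1])) (.leaf ([7, 2]))) (.node (.leaf ([3, 4])) (.leaf ([5, 5])))))) (.node (.node (.node (.node (.node (.leaf ([1, 2])) (.leaf ([7, 4]))) (.leaf ([4, 4]))) (.node (.leaf ([3, 3])) (.leaf ([5, 4])))) (.node (.node (.leaf ([2, 3])) (.leaf ([3, 5]))) (.node (.leaf ([3, 4])) (.leaf ([5, 5]))))) (.node (.node (.node (.leaf ([4, 1])) (.leaf ([3, 5]))) (.node (.leaf ([4, 3])) (.leaf ([5, 4])))) (.node (.node (.leaf ([4, 2])) (.leaf ([5, 4]))) (.node (.leaf ([2, 5])) (.leaf ([5, 5]))))))) (.node (.node (.node (.node (.node (.node (.leaf ([0, 2])) (.leaf ([6, 5]))) (.leaf ([5, 3]))) (.node (.leaf ([4, 2])) (.leaf ([5, 4])))) (.node (.node (.leaf ([3, 2])) (.leaf ([3, 5]))) (.node (.leaf ([3, 4])) (.leaf ([5, 5]))))) (.node (.node (.node (.leaf ([2, 2])) (.leaf ([4, 4]))) (.node (.leaf ([5, 2])) (.leaf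 ([4, 5])))) (.node (.node (.leaf ([4, 2])) (.leaf ([4, 5]))) (.node (.leaf ([2, 5])) (.leaf ([4, 6])))))) (.node (.node (.node (.node (.node (.leaf ([3, 1])) (.leaf ([4, 7]))) (.leaf ([4, 4]))) (.node (.leaf ([2, 4])) (.leaf ([5, 4])))) (.node (.node (.leaf ([5, 1])) (.leaf ([3, 5]))) (.node (.leaf ([3, 4])) (.leaf ([7, 3]))))) (.node (.node (.node (.leaf ([3, 2])) (.leaf ([3, 5]))) (.node (.leaf ([5, 2])) (.leaf ([3, 6])))) (.node (.node (.leaf ([3, 3])) (.leaf ([5, 4]))) (.node (.leaf ([5, 3])) (.leaf ([3, 7]))))))))) (.node (.node (.node (.node (.node (.node (.node (.node (.leaf ([1])) (.leaf ([4, 6]))) (.leaf ([5, 3]))) (.node (.leaf ([3, 3])) (.leaf ([3, 6])))) (.node (.node (.leaf ([3, 2])) (.leaf ([5, 3]))) (.node (.leaf ([3, 4])) (.leaf ([4, 5]))))) (.node (.node (.node (.node (.leaf ([3, 1])) (.leaf ([6, 6]))) (.leaf ([5, 3]))) (.node (.leaf ([4, 3])) (.leaf ([5, 4])))) (.node (.node (.leaf ([3, 3])) (.leaf ([3, 5]))) (.node (.leaf ([3, 4])) (.leaf ([6, 4]))))))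 (.node (.node (.node (.node (.node (.leaf ([2, 1])) (.leaf ([6, 5]))) (.leaf ([4, 4]))) (.node (.leaf ([2, 4])) (.leaf ([5, 4])))) (.node (.node (.leaf ([2, 3])) (.leaf ([2, 6]))) (.node (.leaf ([3, 4])) (.leaf ([6, 4]))))) (.node (.node (.node (.leaf ([1, 3])) (.leaf ([4, 4]))) (.node (.leaf ([4, 3])) (.leaf ([3, 6])))) (.node (.node (.leaf ([4, 2])) (.leaf ([4, 5]))) (.node (.leaf ([3, 4])) (.leaf ([4, 6]))))))) (.node (.node (.node (.node (.node (.node (.leaf ([1, 1])) (.leaf ([8, 3]))) (.leaf ([5, 3]))) (.node (.leaf ([3, 3])) (.leaf ([5, 4])))) (.node (.node (.leaf ([2, 3])) (.leaf ([3, 5]))) (.node (.leaf ([3, 4])) (.leaf ([7, 3]))))) (.node (.node (.node (.leaf ([3, 1])) (.leaf ([4, 4]))) (.node (.leaf ([4, 3])) (.leaf ([4, 5])))) (.node (.node (.leaf ([3, 3])) (.leaf ([5, 4]))) (.node (.leaf ([3, 4])) (.leaf ([5, 5])))))) (.node (.node (.node (.node (.node (.leaf ([0, 3])) (.leaf ([5, 6]))) (.leaf ([4, 4]))) (.node (.leaf ([3, 3])) (.leaf ([4, 5])))) (.node (.node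 (.leaf ([1, 4])) (.leaf ([3, 5]))) (.node (.leaf ([5, 2])) (.leaf ([5, 5]))))) (.node (.node (.node (.leaf ([3, 2])) (.leaf ([4, 4]))) (.node (.leaf ([3, 4])) (.leaf ([3, 6])))) (.node (.node (.leaf ([3, 3])) (.leaf ([5, 4]))) (.node (.leaf ([6, 2])) (.leaf ([4, 6])))))))) (.node (.node (.node (.node (.node (.node (.node (.leaf ([2])) (.leaf ([5, 5]))) (.leaf ([5, 3]))) (.node (.leaf ([4, 2])) (.leaf ([6, 3])))) (.node (.node (.leaf ([2, 3])) (.leaf ([4, 4]))) (.node (.leaf ([4, 3])) (.leaf ([3, 6]))))) (.node (.node (.node (.leaf ([2, 2])) (.leaf ([4, 4]))) (.node (.leaf ([5, 2])) (.leaf ([5, 4])))) (.node (.node (.leaf ([4, 2])) (.leaf ([6, 3]))) (.node (.leaf ([2, 5])) (.leaf ([5, 5])))))) (.node (.node (.node (.node (.node (.leaf ([2, 1])) (.leaf ([6, 5]))) (.leaf ([3, 5]))) (.node (.leaf ([2, 4])) (.leaf ([4, 5])))) (.node (.node (.leaf ([1, 4])) (.leaf ([2, 6]))) (.node (.leaf ([3, 4])) (.leaf ([6, 4]))))) (.node (.node (.node (.leaf ([3, 2])) (.leaf ([3, 5])))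 (.node (.leaf ([3, 4])) (.leaf ([3, 6])))) (.node (.node (.leaf ([3, 3])) (.leaf ([5, 4]))) (.node (.leaf ([3, 4])) (.leaf ([5, 5]))))))) (.node (.node (.node (.node (.node (.node (.leaf ([3])) (.leaf ([7, 4]))) (.leaf ([4, 4]))) (.node (.leaf ([3, 3])) (.leaf ([4, 5])))) (.node (.node (.leaf ([2, 3])) (.leaf ([4, 4]))) (.node (.leaf ([3, 4])) (.leaf ([5, 5]))))) (.node (.node (.node (.leaf ([2, 2])) (.leaf ([5, 3]))) (.node (.leaf ([3, 4])) (.leaf ([4, 5])))) (.node (.node (.leaf ([3, 3])) (.leaf ([6, 3]))) (.node (.leaf ([2, 5])) (.leaf ([3, 7])))))) (.node (.node (.node (.node (.node (.leaf ([3, 1])) (.leaf ([5, 6]))) (.leaf ([3, 5]))) (.node (.leaf ([2, 4])) (.leaf ([4, 5])))) (.node (.node (.leaf ([4, 2])) (.leaf ([3, 5]))) (.node (.leaf ([4, 3])) (.leaf ([6, 4]))))) (.node (.node (.node (.leaf ([2, 3])) (.leaf ([4, 4]))) (.node (.leaf ([4, 3])) (.leaf ([2, 7])))) (.node (.node (.leaf ([2, 4])) (.leaf ([4, 5]))) (.node (.leaf ([4, 4])) (.leaf ([3, 7])))))))))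

/-- the table -/
def table0 : Table where
  size := 275
  ngen := 2
  next g x := next0.get (2 * g + x)
  prev g x := prev0.get (2 * g + x)
  lab g x := lab0.get (2 * g + x)
  val g x := val0.get (2 * g + x)
  rank g x := rank0.get (2 * g + x)
  tree g := tree0.get g
  cert j := cert0.get j
  nded := 276
  rels := [⟨[(0, true), (0, true), (0, true), (1, true), (0, true), (1, true), (0, true), (1, false), (1, false), (0, false), (0, false), (1, false), (0, false)], [(0, true)], []⟩,
    ⟨[(0, true), (1, true), (1, true), (1, true), (0, true), (1, false), (1, false), (1, false), (0, false)], [(1, true)], []⟩,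
    ⟨[(0, true), (0, true), (0, true), (0, true)], [], [0, 0, 0, 0, 0, 0, 0, 0, 0, 0, 0, 0, 0, 0, 0, 0, 0, 0, 0, 0, 0, 0, 0, 0, 0, 0, 0, 0, 0, 0, 0, 0, 0, 0, 0, 0, 0, 0, 0, 0, 0, 0, 1]⟩,
    ⟨[(1, true), (1, true), (1, true), (1, true)], [], [0, 0, 0, 0, 0, 0, 0, 0, 0, 0, 0, 0, 0, 0, 0, 0, 0, 0, 0, 0, 0, 0, 0, 0, 0, 0, 0, 0, 0, 0, 0, 0, 0, 0, 0, 0, 0, 0, 0, 0, 0, 0, 0, 1]⟩,
    ⟨[(0, true), (1, true), (0, true), (1, true), (0, true), (1, true), (0, true), (1, true), (0, true), (1, true), (0, true), (1, true), (0, true), (1, true)], [], [0, 0, 0, 0, 0, 0, 0, 0, 0, 0, 0, 0, 0, 0, 0, 0, 0, 0, 0, 0, 0, 0, 0, 0, 0, 0, 0, 0, 0, 0, 0, 0, 0, 0, 0, 0, 0, 0, 0, 0, 0, 0, 0, 0, 1]⟩,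
    ⟨[(0, true), (1, false), (0, true), (1, false), (0, true), (1, false), (0, true), (1, false), (0, true), (1, false), (0, true), (1, false), (0, true), (1, false), (0, true), (1, false)], [], [0, 0, 0, 0, 0, 0, 0, 0, 0, 0, 0, 0, 0, 0, 0, 0, 0, 0, 0, 0, 0, 0, 0, 0, 0, 0, 0, 0, 0, 0, 0, 0, 0, 0, 0, 0, 0, 0, 0, 0, 0, 0, 0, 0, 0, 1]⟩,
    ⟨[(1, true), (0, true), (0, true), (1, true), (0, true), (0, true), (1, true), (0, false), (0, false), (1, false), (1, false), (1, false), (0, false), (0, false)], [], [0, 0, 0, 0, 0, 0, 0, 0, 0, 0, 0, 0, 0, 0, 0, 0, 0, 0, 0, 0, 0, 0, 0, 0, 0, 0, 0, 0, 0, 0, 0, 0, 0, 0, 0, 0, 0, 0, 0, 0, 0, 0, 0, 0, 0, 0, 1]⟩,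
    ⟨[(1, true), (0, true), (0, true), (1, true), (1, true), (0, true), (0, true), (1, false), (0, false), (0, false), (1, false), (1, false), (0, false), (0, false)], [], [0, 0, 0, 0, 0, 0, 0, 0, 0, 0, 0, 0, 0, 0, 0, 0, 0, 0, 0, 0, 0, 0, 0, 0, 0, 0, 0, 0, 0, 0, 0, 0, 0, 0, 0, 0, 0, 0, 0, 0, 0, 0, 0, 0, 0, 0, 0, 1]⟩,
    ⟨[(0, true), (0, true), (1, true), (0, true), (0, true), (1, false), (0, false), (0, false), (1, true), (0, true), (0, true), (1, false)], [], [0, 0, 0, 0, 0, 0, 0, 0, 0, 0, 0, 0, 0, 0, 0, 0, 0, 0, 0, 0, 0, 0, 0, 0, 0, 0, 0, 0, 0, 0, 0, 0, 0, 0, 0, 0, 0, 0, 0, 0, 0, 0, 0, 0, 0, 0, 0, 0, 1]⟩,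
    ⟨[(1, true), (0, true), (1, true), (0, true), (1, true), (0, true), (0, true), (1, false), (0, false), (1, false), (0, false), (1, false), (0, true), (0, true), (1, true), (0, true), (1, true), (0, true), (1, false), (1, false), (0, false), (0, false), (1, true), (1, true), (0, false), (1, false), (1, false), (1, false), (0, true), (0, true), (1, true), (0, true), (0, true), (0, true), (1, true), (0, false), (0, false), (1, false), (0, false), (0, false), (0, false), (1, false), (0, false), (0, false), (1, true), (1, true), (1, true), (0, true), (1, false), (1, false), (0, true), (0, true), (1, true), (1, true), (0, false), (1, false), (0, false), (1, false), (0, false), (0, false)], [], [0, 0, 0, 0, 0, 0, 0, 0, 0, 0, 0, 0, 0, 0, 0, 0, 0, 0, 0, 0, 0, 0, 0, 0, 0, 0, 0, 0, 0, 0, 0, 0, 0, 0, 0, 0, 0, 0, 0, 0, 0, 0, 0, 0, 0, 0, 0, 0, 0, 1]⟩,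
    ⟨[(0, true), (1, true), (0, true), (1, true), (0, true), (1, false), (1, false), (0, false), (1, false), (0, false), (0, false), (1, false), (0, true), (0, true), (0, true), (1, true), (0, true), (1, true), (0, true), (1, false), (1, false), (0, false), (0, false), (1, false), (0, true), (0, true), (1, true), (0, true), (1, true), (0, false), (1, false), (1, false), (0, false), (0, false), (1, false), (0, true), (0, true), (1, true), (0, true), (0, true), (0, true), (1, true), (0, false), (0, false), (1, false), (0, false), (0, false), (0, false), (1, false), (0, false), (0, false), (1, true), (1, true), (1, true), (0, true), (1, false), (1, false), (1, false), (0, true), (0, true), (1, true), (0, true), (1, true), (0, true), (1, false)], [], [0, 0, 0, 0, 0, 0, 0, 0, 0, 0, 0, 0, 0, 0, 0, 0, 0, 0, 0, 0, 0, 0, 0, 0, 0, 0, 0, 0, 0, 0, 0, 0, 0, 0, 0, 0, 0, 0, 0, 0, 0, 0, 0, 0, 0, 0, 0, 0, 0, 0, 1]⟩,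
    ⟨[(1, true), (0, true), (1, true), (1, true), (0, true), (0, true), (0, true), (1, true), (0, true), (1, true), (0, false), (1, false), (0, false), (0, false), (0, false), (1, false), (1, false), (0, false), (1, false), (0, true), (1, true), (0, true), (0, true), (1, true), (1, true), (0, false), (1, false), (0, false), (1, false), (0, false), (0, false), (1, true), (0, true), (1, true), (0, true), (1, true), (0, false), (0, false), (1, false), (0, false), (1, false), (0, false), (1, false), (0, true), (0, true), (1, true), (0, true), (1, true), (0, false), (1, false), (1, false), (0, false), (0, false), (1, false), (0, true), (0, true), (1, true), (0, true), (1, true), (0, true), (1, false), (1, false), (0, false), (0, false), (1, true), (1, true), (0, false), (1, false), (1, false), (0, true), (0, true), (1, true), (1, true), (0, false), (1, false), (0, true), (1, false), (1, false), (1, false), (0, false), (0, false), (1, false), (1, false), (0, false)], [], [0,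 0, 0, 0, 0, 0, 0, 0, 0, 0, 0, 0, 0, 0, 0, 0, 0, 0, 0, 0, 0, 0, 0, 0, 0, 0, 0, 0, 0, 0, 0, 0, 0, 0, 0, 0, 0, 0, 0, 0, 0, 0, 0, 0, 0, 0, 0, 0, 0, 0, 0, 1]⟩,
    ⟨[(1, true), (0, true), (1, true), (1, true), (0, true), (1, true), (1, true), (1, true), (0, false), (1, false), (1, false), (0, false), (0, false), (1, false), (1, false), (0, false), (1, true), (0, true), (0, true), (1, true), (0, true), (1, true), (1, true), (0, false), (1, false), (0, false), (1, false), (0, false), (1, false), (0, false), (0, false), (1, false), (0, true), (0, true), (1, true), (0, true), (0, true), (1, false), (1, false), (1, false), (0, false), (0, false), (1, false), (1, false), (0, true), (0, true), (1, true), (0, true), (1, true), (0, true), (1, false), (1, false), (0, false), (0, false), (1, true), (1, true), (0, false), (1, false), (1, false), (0, true), (0, true), (1, true), (0, true), (1, true), (0, true), (1, true), (0, true), (1, false), (1, false), (0, false), (1, false), (0, false),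 (0, false), (1, false), (0, true), (1, true), (0, true), (1, true), (0, true), (1, true), (0, false), (0, false), (1, false), (0, false), (1, false), (0, true), (1, true), (1, true), (0, false), (1, false), (0, false), (1, false), (0, false), (0, false)], [], [0, 0, 0, 0, 0, 0, 0, 0, 0, 0, 0, 0, 0, 0, 0, 0, 0, 0, 0, 0, 0, 0, 0, 0, 0, 0, 0, 0, 0, 0, 0, 0, 0, 0, 0, 0, 0, 0, 0, 0, 0, 0, 0, 0, 0, 0, 0, 0, 0, 0, 0, 0, 1]⟩,
    ⟨[(1, true), (0, true), (0, true), (1, true), (1, true), (1, true), (0, true), (1, true), (0, true), (1, false), (0, false), (1, false), (1, false), (1, false), (0, false), (0, false), (0, false), (1, true), (0, true), (1, true), (1, true), (0, true), (0, true), (0, true), (1, true), (0, true), (1, true), (0, false), (1, false), (0, false), (0, false), (0, false), (1, false), (1, false), (0, false), (1, false), (0, true), (1, true), (1, true), (0, true), (0, true), (1, true), (1, true), (0, true), (1, false), (1, false), (1, false), (0, false), (1, false),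 (1, false), (0, false), (1, true), (1, true), (0, false), (1, false), (1, false), (0, true), (1, true), (0, true), (1, true), (0, false), (0, false), (1, false), (0, false), (1, false), (0, false), (1, false), (0, true), (0, true), (1, true), (0, true), (0, true), (0, true), (1, true), (0, false), (0, false), (1, false), (0, false), (0, false), (0, false), (1, false), (0, false), (0, false)], [], [0, 0, 0, 0, 0, 0, 0, 0, 0, 0, 0, 0, 0, 0, 0, 0, 0, 0, 0, 0, 0, 0, 0, 0, 0, 0, 0, 0, 0, 0, 0, 0, 0, 0, 0, 0, 0, 0, 0, 0, 0, 0, 0, 0, 0, 0, 0, 0, 0, 0, 0, 0, 0, 1]⟩,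
    ⟨[(1, true), (0, true), (1, true), (1, true), (1, true), (0, true), (1, true), (1, true), (0, true), (1, true), (0, false), (1, false), (1, false), (0, false), (1, false), (0, false), (0, false), (1, false), (0, true), (0, true), (0, true), (1, true), (0, true), (1, true), (0, false), (1, false), (1, false), (0, false), (1, true), (0, true), (1, true), (0, false), (0, false), (1, false), (0, false), (1, false), (0, false), (1, false), (0, true), (0, true), (1, true), (0, true), (1, true), (0, true), (1, true), (0, true), (1, true), (0, true), (1, false), (0, false), (1, false), (1, false), (0, true), (1, true), (0, true), (1, false), (1, false), (0, false), (0, false), (1, false), (0, true), (0, true), (1, true), (0, true), (1, true), (0, true), (1, false), (1, false), (0, false), (0, false), (1, false), (0, false)], [], [0, 0, 0, 0, 0, 0, 0, 0, 0, 0, 0, 0, 0, 0, 0, 0, 0, 0, 0, 0, 0, 0, 0, 0, 0, 0, 0, 0, 0, 0, 0, 0, 0, 0, 0, 0, 0, 0, 0, 0, 0, 0, 0, 0, 0, 0, 0, 0,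 0, 0, 0, 0, 0, 0, 1]⟩,
    ⟨[(1, true), (0, true), (1, true), (0, true), (0, true), (1, true), (1, true), (1, true), (0, true), (1, true), (0, false), (1, false), (0, false), (1, false), (0, false), (0, false), (0, false), (1, false), (0, true), (1, true), (1, true), (0, false), (1, false), (0, false), (1, false), (0, false), (0, false), (0, false), (1, true), (0, true), (1, true), (1, true), (1, true), (0, true), (1, true), (1, true), (0, true), (1, true), (0, false), (1, false), (1, false), (0, false), (1, false), (0, false), (0, false), (1, false), (0, true), (1, true), (0, true), (0, true), (1, true), (0, true), (1, true), (0, true), (1, true), (0, true), (1, false), (1, false), (0, false), (1, false), (0, false), (0, false), (1, false), (0, true), (1, true), (1, true), (1, true), (0, true), (1, false), (1, false), (1, false), (0, true), (0, true), (1, true), (0, true), (0, true), (0, true), (1, true), (0, false), (0, false), (1, false), (0, false), (0, false), (0,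 false), (1, false), (0, false), (0, false), (1, true), (0, true), (0, true), (1, true), (1, true), (0, false), (1, false), (0, false), (1, false), (0, false)], [], [0, 0, 0, 0, 0, 0, 0, 0, 0, 0, 0, 0, 0, 0, 0, 0, 0, 0, 0, 0, 0, 0, 0, 0, 0, 0, 0, 0, 0, 0, 0, 0, 0, 0, 0, 0, 0, 0, 0, 0, 0, 0, 0, 0, 0, 0, 0, 0, 0, 0, 0, 0, 0, 0, 0, 1]⟩,
    ⟨[(0, true), (1, true), (0, true), (1, true), (1, true), (0, false), (0, false), (0, false), (1, false), (1, false), (0, false), (1, true), (0, true), (1, true), (1, true), (0, true), (1, true), (1, true), (1, true), (0, false), (1, false), (1, false), (0, false), (0, false), (1, false), (1, false), (0, true), (0, true), (1, true), (0, true), (1, true), (0, false), (1, false), (1, false), (0, false), (0, false), (1, false), (0, true), (0, true), (1, true), (0, true), (1, true), (0, true), (1, false), (1, false), (0, false), (0, false), (1, true), (1, true), (0, true), (1, false), (1, false), (1, false), (0, false), (1, true), (0, true),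 (0, true), (1, true), (0, true), (1, true), (1, true), (0, true), (1, false), (0, false), (1, false), (1, false), (0, false), (1, false), (1, false), (1, false), (0, false), (1, false), (0, true), (1, true), (1, true), (1, true), (0, false), (1, false)], [], [0, 0, 0, 0, 0, 0, 0, 0, 0, 0, 0, 0, 0, 0, 0, 0, 0, 0, 0, 0, 0, 0, 0, 0, 0, 0, 0, 0, 0, 0, 0, 0, 0, 0, 0, 0, 0, 0, 0, 0, 0, 0, 0, 0, 0, 0, 0, 0, 0, 0, 0, 0, 0, 0, 0, 0, 1]⟩,
    ⟨[(1, true), (1, true), (0, true), (1, true), (1, true), (1, true), (0, true), (1, false), (1, false), (0, false), (1, false), (1, false), (1, false), (0, true), (1, true), (0, true), (0, true), (0, true), (1, true), (0, false), (0, false), (1, false), (0, false), (0, false), (0, false), (1, false), (0, false), (0, false), (1, true), (0, true), (0, true), (1, true), (0, true), (1, true), (0, true), (1, true), (0, true), (1, false), (1, false), (0, false), (1, false), (0, false), (0, false), (1, false), (0, true), (1, true), (1, true), (1,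 true), (0, true), (1, false), (1, false), (1, false), (0, true), (0, true), (1, true), (0, true), (1, true), (0, false), (1, false), (1, false), (0, false), (0, false), (1, false), (0, false), (1, true), (0, true), (1, true), (1, true), (1, true), (0, true), (1, true), (1, true), (0, true), (1, true), (0, false), (1, false), (1, false), (0, false), (1, false), (0, false), (0, false), (1, false), (0, true), (1, true), (0, true), (0, true), (1, true), (1, true), (0, true), (1, false), (0, false), (1, false), (0, false), (0, false)], [], [0, 0, 0, 0, 0, 0, 0, 0, 0, 0, 0, 0, 0, 0, 0, 0, 0, 0, 0, 0, 0, 0, 0, 0, 0, 0, 0, 0, 0, 0, 0, 0, 0, 0, 0, 0, 0, 0, 0, 0, 0, 0, 0, 0, 0, 0, 0, 0, 0, 0, 0, 0, 0, 0, 0, 0, 0, 1]⟩,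
    ⟨[(0, true), (1, true), (0, true), (0, true), (0, true), (1, true), (0, true), (1, true), (0, true), (0, true), (1, false), (1, false), (0, false), (1, false), (1, false), (1, false), (0, false), (1, false), (0, true), (0, true), (0, true), (1, true), (0, true), (0, true), (1, false), (1, false), (1, false), (0, false), (0, false), (1, false), (1, false), (0, true), (1, true), (1, true), (0, true), (0, true), (0, true), (1, false), (1, false), (0, false), (1, false), (0, false), (1, false), (1, false), (0, true), (0, true), (1, true), (0, true), (1, true), (0, false), (1, false), (1, false), (0, false), (0, false), (1, true), (0, true), (0, true), (1, true), (1, true), (0, true), (1, false), (1, false), (1, false), (0, false), (1, false), (1, false), (0, false), (1, false), (0, false), (1, true), (0, true), (1, true), (1, true), (0, true), (0, true), (0, true), (1, true), (0, true), (1, false), (0, false), (1, false), (0, false), (0, false), (0, false), (1, false),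 (1, false), (0, false), (1, false)], [], [0, 0, 0, 0, 0, 0, 0, 0, 0, 0, 0, 0, 0, 0, 0, 0, 0, 0, 0, 0, 0, 0, 0, 0, 0, 0, 0, 0, 0, 0, 0, 0, 0, 0, 0, 0, 0, 0, 0, 0, 0, 0, 0, 0, 0, 0, 0, 0, 0, 0, 0, 0, 0, 0, 0, 0, 0, 0, 1]⟩,
    ⟨[(0, true), (1, true), (1, true), (0, true), (1, true), (1, true), (1, true), (0, true), (1, true), (0, false), (1, false), (0, false), (0, false), (0, false), (1, false), (1, false), (0, false), (0, false), (1, true), (0, true), (1, true), (1, true), (0, true), (0, true), (0, true), (1, true), (0, true), (1, false), (0, false), (1, false), (0, false), (0, false), (0, false), (1, true), (0, true), (1, true), (1, true), (0, true), (1, true), (0, false), (1, false), (1, false), (0, false), (1, false), (0, false), (0, false), (1, false), (0, true), (0, true), (0, true), (1, true), (0, true), (1, true), (0, true), (1, false), (1, false), (0, false), (0, false), (1, false), (0, true), (0, true), (1, true), (0, true), (1, true), (0, true), (1, false),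 (1, false), (0, false), (0, false), (1, false), (0, true), (1, true), (1, true), (1, true), (0, true), (1, true), (1, true), (0, false), (1, false), (1, false), (1, false), (0, false), (1, false), (1, false)], [], [0, 0, 0, 0, 0, 0, 0, 0, 0, 0, 0, 0, 0, 0, 0, 0, 0, 0, 0, 0, 0, 0, 0, 0, 0, 0, 0, 0, 0, 0, 0, 0, 0, 0, 0, 0, 0, 0, 0, 0, 0, 0, 0, 0, 0, 0, 0, 0, 0, 0, 0, 0, 0, 0, 0, 0, 0, 0, 0, 1]⟩,
    ⟨[(1, true), (0, true), (1, true), (0, true), (0, true), (1, true), (1, true), (0, true), (1, true), (0, false), (0, false), (1, false), (0, false), (0, false), (1, true), (0, true), (1, true), (0, false), (0, false), (1, false), (0, false), (1, false), (0, false), (1, true), (1, true), (0, true), (1, false), (1, false), (0, true), (0, true), (0, true), (1, true), (0, true), (1, true), (0, true), (0, true), (1, false), (1, false), (0, false), (1, false), (1, false), (1, false), (0, false), (1, false), (0, true), (0, true), (0, true), (1, true), (0, true), (1, true), (0, false),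 (1, false), (1, false), (0, false), (0, false), (1, true), (0, true), (1, true), (0, true), (1, true), (1, true), (0, false), (0, false), (0, false), (1, false), (1, false), (0, false)], [], [0, 0, 0, 0, 0, 0, 0, 0, 0, 0, 0, 0, 0, 0, 0, 0, 0, 0, 0, 0, 0, 0, 0, 0, 0, 0, 0, 0, 0, 0, 0, 0, 0, 0, 0, 0, 0, 0, 0, 0, 0, 0, 0, 0, 0, 0, 0, 0, 0, 0, 0, 0, 0, 0, 0, 0, 0, 0, 0, 0, 1]⟩,
    ⟨[(1, true), (0, true), (1, true), (0, true), (0, true), (1, true), (1, true), (0, true), (1, false), (0, false), (0, false), (0, false), (1, false), (0, true), (1, true), (0, true), (0, true), (1, false), (0, true), (1, false), (1, false), (1, false), (0, false), (1, false), (1, false), (0, false), (1, false), (0, false), (1, true), (0, true), (0, true), (1, true), (0, true), (1, true), (1, true), (0, false), (1, false), (0, false), (1, false), (0, false), (1, false), (0, false), (0, false), (1, false), (0, true), (0, true), (1, true), (0, true), (1, true), (0, false), (1, true), (0, true), (1,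 true), (0, true), (1, false), (0, false), (1, false), (1, false), (1, false), (0, false)], [], [0, 0, 0, 0, 0, 0, 0, 0, 0, 0, 0, 0, 0, 0, 0, 0, 0, 0, 0, 0, 0, 0, 0, 0, 0, 0, 0, 0, 0, 0, 0, 0, 0, 0, 0, 0, 0, 0, 0, 0, 0, 0, 0, 0, 0, 0, 0, 0, 0, 0, 0, 0, 0, 0, 0, 0, 0, 0, 0, 0, 0, 1]⟩,
    ⟨[(1, true), (0, true), (1, true), (0, true), (0, true), (0, true), (1, true), (1, true), (1, true), (0, true), (1, false), (0, false), (0, false), (1, false), (1, false), (1, false), (0, false), (1, false), (0, true), (1, true), (0, true), (1, true), (0, true), (1, false), (1, false), (0, false), (1, true), (1, true), (0, true), (1, true), (1, true), (1, true), (0, false), (1, false), (1, false), (0, false), (0, false), (1, false), (0, true), (0, true), (1, true), (0, true), (1, true), (0, true), (1, true), (0, true), (1, false), (1, false), (0, false), (1, false), (0, false), (0, false), (1, false), (0, true), (0, true), (0, true), (1, true), (0, true), (0, true), (0, true), (1, true),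 (0, false), (0, false), (1, false), (0, false), (0, false), (0, false), (1, false), (0, false), (0, false), (1, true), (1, true), (0, true), (0, true), (1, true), (1, true), (0, true), (1, false), (1, false), (1, false), (0, false), (1, false), (1, false), (0, false), (1, false), (0, false)], [], [0, 0, 0, 0, 0, 0, 0, 0, 0, 0, 0, 0, 0, 0, 0, 0, 0, 0, 0, 0, 0, 0, 0, 0, 0, 0, 0, 0, 0, 0, 0, 0, 0, 0, 0, 0, 0, 0, 0, 0, 0, 0, 0, 0, 0, 0, 0, 0, 0, 0, 0, 0, 0, 0, 0, 0, 0, 0, 0, 0, 0, 0, 1]⟩,
    ⟨[(1, true), (1, true), (1, true), (0, true), (0, true), (0, true), (1, true), (0, true), (0, true), (1, true), (0, true), (1, false), (1, false), (0, false), (1, false), (1, false), (0, false), (1, false), (0, false), (1, false), (0, true), (0, true), (0, true), (1, true), (0, true), (1, true), (0, false), (1, false), (1, false), (0, false), (0, false), (1, false), (0, true), (0, true), (1, true), (0, true), (1, true), (0, true), (1, false), (1, false), (0, false), (0, false), (1, false),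 (0, false), (1, true), (0, true), (0, true), (1, true), (0, true), (1, true), (1, true), (0, true), (1, false), (0, false), (1, false), (1, false), (0, false), (1, false), (1, false), (1, false), (0, false), (1, false), (0, true), (1, true), (0, true), (0, true), (1, true), (1, true), (0, true), (1, false), (0, false), (1, false), (0, false), (0, false), (0, false), (1, true), (0, true), (0, true), (1, true), (0, true), (1, true), (1, true), (0, false), (1, false), (0, false), (1, false), (0, false), (1, false), (0, false), (0, false), (1, false), (0, false)], [], [0, 0, 0, 0, 0, 0, 0, 0, 0, 0, 0, 0, 0, 0, 0, 0, 0, 0, 0, 0, 0, 0, 0, 0, 0, 0, 0, 0, 0, 0, 0, 0, 0, 0, 0, 0, 0, 0, 0, 0, 0, 0, 0, 0, 0, 0, 0, 0, 0, 0, 0, 0, 0, 0, 0, 0, 0, 0, 0, 0, 0, 0, 0, 1]⟩,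
    ⟨[(1, true), (1, true), (0, true), (1, true), (0, true), (1, false), (1, false), (0, false), (1, false), (0, false), (1, false), (0, false), (1, true), (1, true), (0, true), (0, true), (0, true), (1, true), (0, true), (0, true), (1, true), (0, true), (1, false), (1, false), (0, false), (1, false), (1, false), (0, false), (1, false), (0, false), (1, false), (0, true), (0, true), (0, true), (1, true), (0, true), (1, true), (0, false), (1, false), (1, false), (0, false), (0, false), (1, true), (0, true), (1, true), (1, true), (1, true), (0, true), (1, false), (1, false), (0, false), (1, false), (1, false), (1, false), (0, true), (1, true), (0, true), (1, true), (0, false), (1, false), (1, false), (0, false), (1, true), (1, true), (0, true), (1, true), (1, true), (1, true), (0, false), (1, false), (1, false), (0, false)], [], [0, 0, 0, 0, 0, 0, 0, 0, 0, 0, 0, 0, 0, 0, 0, 0, 0, 0, 0, 0, 0, 0, 0, 0, 0, 0, 0, 0, 0, 0, 0, 0, 0, 0, 0, 0, 0, 0, 0, 0, 0, 0, 0, 0, 0, 0, 0, 0,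 0, 0, 0, 0, 0, 0, 0, 0, 0, 0, 0, 0, 0, 0, 0, 0, 1]⟩,
    ⟨[(0, true), (0, true), (0, true), (1, true), (0, true), (0, true), (0, true), (1, true), (0, true), (1, true), (0, true), (1, true), (0, false), (1, false), (0, false), (0, false), (0, false), (1, false), (0, false), (1, false), (0, false), (1, true), (0, true), (0, true), (1, true), (0, true), (1, true), (1, true), (0, false), (1, false), (0, false), (1, false), (0, false), (1, false), (0, false), (0, false), (1, false), (0, true), (1, true), (0, true), (1, true), (1, true), (1, true), (0, true), (0, true), (1, true), (0, false), (1, false), (1, false), (1, false), (0, false), (0, false), (0, false), (1, false), (0, false), (1, false), (0, true), (1, true), (0, true), (1, true), (1, true), (0, true), (1, true), (1, true), (1, true), (0, false), (1, false), (1, false), (0, false), (0, false), (1, false), (1, false), (0, false), (1, true), (0, true), (1, true), (0, true), (1, true), (1, true), (0, true), (1, true),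 (1, true), (0, false), (1, false), (0, false), (0, false), (1, false), (0, false), (0, false), (0, false), (1, false), (1, false), (1, false)], [], [0, 0, 0, 0, 0, 0, 0, 0, 0, 0, 0, 0, 0, 0, 0, 0, 0, 0, 0, 0, 0, 0, 0, 0, 0, 0, 0, 0, 0, 0, 0, 0, 0, 0, 0, 0, 0, 0, 0, 0, 0, 0, 0, 0, 0, 0, 0, 0, 0, 0, 0, 0, 0, 0, 0, 0, 0, 0, 0, 0, 0, 0, 0, 0, 0, 1]⟩,
    ⟨[(0, true), (1, true), (0, true), (1, true), (0, true), (0, true), (0, true), (1, true), (0, true), (1, true), (0, true), (1, true), (0, false), (0, false), (1, false), (1, false), (0, false), (1, false), (1, false), (0, false), (1, false), (0, false), (1, false), (0, true), (1, true), (1, true), (1, true), (0, true), (1, false), (1, false), (1, false), (0, true), (0, true), (1, true), (0, true), (0, true), (0, true), (1, true), (0, false), (0, false), (1, false), (0, false), (0, false), (0, false), (1, false), (0, false), (0, false), (1, true), (0, true), (1, true), (0, true), (0, true), (0, true), (1, true), (0, true),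 (1, false), (0, false), (1, false), (0, false), (1, false), (0, false), (0, false), (0, false), (1, false), (0, false), (0, false), (0, false), (1, true), (0, true), (1, true), (1, true), (0, true), (0, true), (0, true), (1, true), (0, true), (1, true), (0, false), (1, false), (0, false), (0, false), (0, false), (1, false), (1, false), (0, false), (1, false)], [], [0, 0, 0, 0, 0, 0, 0, 0, 0, 0, 0, 0, 0, 0, 0, 0, 0, 0, 0, 0, 0, 0, 0, 0, 0, 0, 0, 0, 0, 0, 0, 0, 0, 0, 0, 0, 0, 0, 0, 0, 0, 0, 0, 0, 0, 0, 0, 0, 0, 0, 0, 0, 0, 0, 0, 0, 0, 0, 0, 0, 0, 0, 0, 0, 0, 0, 1]⟩,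
    ⟨[(0, true), (1, true), (1, true), (0, true), (0, true), (1, true), (0, true), (1, true), (0, true), (1, true), (1, true), (0, true), (1, false), (0, false), (0, false), (0, false), (1, false), (1, false), (0, false), (1, false), (0, true), (1, true), (0, true), (0, true), (1, true), (1, true), (1, true), (0, true), (1, true), (0, false), (1, false), (0, false), (1, false), (0, false), (0, false), (0, false), (1, false), (0, false), (1, false), (0, false), (1, true), (0, true), (1, true), (1, true), (1, true), (0, true), (1, true), (1, true), (0, true), (1, true), (0, false), (1, false), (1, false), (0, false), (1, false), (0, false), (0, false), (1, false), (0, true), (0, true), (0, true), (1, true), (0, true), (0, true), (1, false), (0, true), (1, false), (1, false), (1, false), (0, false), (1, false), (1, false), (0, false), (1, false)], [], [0, 0, 0, 0, 0, 0, 0, 0, 0, 0, 0, 0, 0, 0, 0, 0, 0, 0, 0, 0, 0, 0, 0, 0, 0, 0, 0, 0, 0, 0, 0, 0, 0, 0, 0, 0, 0, 0, 0, 0,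 0, 0, 0, 0, 0, 0, 0, 0, 0, 0, 0, 0, 0, 0, 0, 0, 0, 0, 0, 0, 0, 0, 0, 0, 0, 0, 0, 1]⟩,
    ⟨[(1, true), (0, true), (0, true), (1, true), (0, true), (1, true), (0, true), (1, false), (0, false), (1, false), (1, false), (1, false), (0, false), (0, false), (1, true), (0, true), (0, true), (1, true), (0, true), (1, true), (1, true), (0, false), (1, false), (0, false), (1, false), (0, false), (1, false), (0, false), (1, true), (1, true), (0, true), (1, true), (1, true), (1, true), (0, false), (1, false), (1, false), (0, false), (0, false), (1, true), (0, true), (1, false), (1, false), (1, false), (0, true), (1, true), (0, true), (1, true), (1, true), (1, true), (0, true), (0, true), (1, true), (0, false), (1, false), (1, false), (1, false), (0, false), (0, false), (0, false), (1, false), (0, false), (1, false), (0, true), (0, true), (0, true), (1, true), (0, true), (1, true), (0, false), (1, false), (1, false), (0, false), (0, false), (1, false), (0, false)], [], [0, 0, 0,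 0, 0, 0, 0, 0, 0, 0, 0, 0, 0, 0, 0, 0, 0, 0, 0, 0, 0, 0, 0, 0, 0, 0, 0, 0, 0, 0, 0, 0, 0, 0, 0, 0, 0, 0, 0, 0, 0, 0, 0, 0, 0, 0, 0, 0, 0, 0, 0, 0, 0, 0, 0, 0, 0, 0, 0, 0, 0, 0, 0, 0, 0, 0, 0, 0, 1]⟩,
    ⟨[(1, true), (0, true), (0, true), (1, true), (1, true), (0, true), (1, true), (0, false), (1, true), (0, true), (1, true), (1, true), (1, true), (0, false), (1, false), (1, false), (0, false), (0, false), (1, false), (0, true), (0, true), (0, true), (1, true), (0, true), (0, true), (1, false), (0, false), (1, false), (1, false), (0, false), (0, false), (1, false), (0, false), (1, false), (0, true), (0, true), (1, true), (0, true), (1, true), (0, true), (1, false), (1, false), (0, false), (1, true), (0, true), (0, true), (1, true), (1, true), (0, true), (1, true), (0, false), (0, false), (1, false), (0, false), (0, false), (0, false), (1, false), (0, false)], [], [0, 0, 0, 0, 0, 0, 0, 0, 0, 0, 0, 0, 0, 0, 0, 0, 0, 0, 0, 0, 0, 0, 0, 0, 0, 0, 0, 0, 0, 0, 0, 0, 0, 0, 0,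 0, 0, 0, 0, 0, 0, 0, 0, 0, 0, 0, 0, 0, 0, 0, 0, 0, 0, 0, 0, 0, 0, 0, 0, 0, 0, 0, 0, 0, 0, 0, 0, 0, 0, 1]⟩,
    ⟨[(1, true), (0, true), (1, true), (0, true), (0, true), (1, true), (0, true), (1, true), (0, false), (1, false), (0, false), (0, false), (0, false), (1, false), (0, true), (0, true), (1, true), (0, true), (0, true), (0, true), (1, true), (0, false), (0, false), (1, false), (0, false), (0, false), (0, false), (1, false), (0, false), (0, false), (0, false), (1, true), (0, true), (1, true), (0, true), (0, true), (0, true), (1, true), (1, true), (1, true), (0, true), (1, false), (0, false), (0, false), (1, false), (1, false), (1, false), (0, false), (1, false), (0, true), (1, true), (0, true), (1, true), (0, true), (1, false), (1, false), (0, true), (1, true), (0, true), (1, true), (0, true), (0, true), (1, false), (1, false), (0, false), (1, false), (1, false), (1, false), (0, false), (1, false), (0, true), (1, true), (0, true), (0, true), (1, true), (1, true),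 (0, false), (1, false), (0, false), (1, false), (0, false), (0, false), (0, false)], [], [0, 0, 0, 0, 0, 0, 0, 0, 0, 0, 0, 0, 0, 0, 0, 0, 0, 0, 0, 0, 0, 0, 0, 0, 0, 0, 0, 0, 0, 0, 0, 0, 0, 0, 0, 0, 0, 0, 0, 0, 0, 0, 0, 0, 0, 0, 0, 0, 0, 0, 0, 0, 0, 0, 0, 0, 0, 0, 0, 0, 0, 0, 0, 0, 0, 0, 0, 0, 0, 0, 1]⟩,
    ⟨[(0, true), (1, true), (0, true), (0, true), (0, true), (1, true), (0, false), (1, false), (0, false), (1, false), (1, false), (1, false), (0, false), (1, true), (1, true), (0, true), (1, true), (1, true), (0, true), (1, true), (0, true), (1, false), (1, false), (0, false), (1, false), (0, true), (0, true), (1, true), (1, true), (1, true), (0, true), (1, false), (0, false), (0, false), (1, false), (1, false), (1, false), (0, false), (1, false), (0, false), (1, true), (1, true), (1, true), (0, true), (1, false), (1, false), (1, false), (0, false), (1, true), (0, true), (1, true), (1, true), (0, true), (0, true), (0, true), (1, true), (0, true), (1, false), (0, false),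 (1, false), (0, false), (0, false), (0, false), (1, false), (1, false)], [], [0, 0, 0, 0, 0, 0, 0, 0, 0, 0, 0, 0, 0, 0, 0, 0, 0, 0, 0, 0, 0, 0, 0, 0, 0, 0, 0, 0, 0, 0, 0, 0, 0, 0, 0, 0, 0, 0, 0, 0, 0, 0, 0, 0, 0, 0, 0, 0, 0, 0, 0, 0, 0, 0, 0, 0, 0, 0, 0, 0, 0, 0, 0, 0, 0, 0, 0, 0, 0, 0, 0, 1]⟩,
    ⟨[(0, true), (1, true), (0, true), (0, true), (1, true), (0, true), (1, true), (1, true), (0, false), (1, false), (0, false), (0, false), (1, false), (0, false), (0, false), (1, true), (0, true), (0, true), (0, true), (1, false), (0, false), (0, false), (0, false), (1, false), (0, true), (1, true), (0, true), (0, true), (1, true), (1, true), (0, true), (1, false), (0, false), (1, false), (0, false), (0, false), (1, true), (1, true), (0, true), (0, true), (1, true), (1, true), (0, true), (1, false), (1, false), (1, false), (0, false), (1, false), (1, false), (0, false), (1, false)], [], [0, 0, 0, 0, 0, 0, 0, 0, 0, 0, 0, 0, 0, 0, 0, 0, 0, 0, 0, 0, 0, 0, 0, 0, 0, 0, 0, 0, 0, 0,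 0, 0, 0, 0, 0, 0, 0, 0, 0, 0, 0, 0, 0, 0, 0, 0, 0, 0, 0, 0, 0, 0, 0, 0, 0, 0, 0, 0, 0, 0, 0, 0, 0, 0, 0, 0, 0, 0, 0, 0, 0, 0, 1]⟩,
    ⟨[(1, true), (1, true), (0, true), (1, false), (1, false), (0, false), (1, true), (1, true), (0, true), (1, true), (1, true), (0, false), (1, false), (1, false), (0, true), (1, true), (1, true), (0, false)], [], [0, 0, 0, 0, 0, 0, 0, 0, 0, 0, 0, 0, 0, 0, 0, 0, 0, 0, 0, 0, 0, 0, 0, 0, 0, 0, 0, 0, 0, 0, 0, 0, 0, 0, 0, 0, 0, 0, 0, 0, 0, 0, 0, 0, 0, 0, 0, 0, 0, 0, 0, 0, 0, 0, 0, 0, 0, 0, 0, 0, 0, 0, 0, 0, 0, 0, 0, 0, 0, 0, 0, 0, 0, 1]⟩,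
    ⟨[(1, true), (0, true), (0, true), (0, true), (1, true), (0, true), (1, true), (1, true), (0, false), (0, false), (1, false), (0, false), (1, false), (1, false), (1, false), (0, true), (1, true), (0, true), (1, true), (0, true), (1, true), (0, true), (1, true), (0, true), (1, false), (0, false), (1, false), (1, false), (1, false), (0, false), (0, false), (1, true), (0, true), (0, true), (1, true), (1, true), (0, true), (1, false), (0, false), (1, false), (0, false), (0, false)], [], [0, 0, 0, 0, 0, 0, 0, 0, 0, 0, 0, 0, 0, 0, 0, 0, 0, 0, 0, 0, 0, 0, 0, 0, 0, 0, 0, 0, 0, 0, 0, 0, 0, 0, 0, 0, 0, 0, 0, 0, 0, 0, 0, 0, 0, 0, 0, 0, 0, 0, 0, 0, 0, 0, 0, 0, 0, 0, 0, 0, 0, 0, 0, 0, 0, 0, 0, 0, 0, 0, 0, 0, 0, 0, 1]⟩,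
    ⟨[(1, true), (0, false), (0, false), (0, false), (1, false), (0, false), (0, false), (0, false), (1, false), (0, false), (0, false), (1, true), (0, true), (1, true), (0, true), (1, false), (0, false), (1, false), (1, false), (0, false), (0, false), (1, false), (0, true), (0, true), (1, true), (1, true), (0, true), (0, true), (1, true), (0, true), (1, true), (0, true), (1, true), (1, true), (0, true), (1, false), (0, false), (0, false)], [], [0, 0, 0, 0, 0, 0, 0, 0, 0, 0, 0, 0, 0, 0, 0, 0, 0, 0, 0, 0, 0, 0, 0, 0, 0, 0, 0, 0, 0, 0, 0, 0, 0, 0, 0, 0, 0, 0, 0, 0, 0, 0, 0, 0, 0, 0, 0, 0, 0, 0, 0, 0, 0, 0, 0, 0, 0, 0, 0, 0, 0, 0, 0, 0, 0, 0, 0, 0, 0, 0, 0, 0, 0, 0, 0, 1]⟩]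
  pot g := pot0.get g
  innerSize := 3265920
  innerGen := 2

/-- the table with its checks -/
def level0 : CfsgLib.Sporadic.ChainLevel where
  table := table0
  gexp := [[1], [0, 1]]
  perm := [84487626800549574253574851127898527357454716273688843953809860901721767513911549926461764534524682863780393362190057330784885291133206293867593013990550991132513330926059929301673414722745661564031819785345552539724626811852717285212992267916614109092062593829836039663059184516442863477673010867417528985194851820653752917747356348633107090743040069736236182001401349022451672199953815563276341024825077472829951261210955144456655305258349934701837554174921653159070325243538065824590365384865519932845235386556868903497753171426702240543713465422317661824726529624708179354487378820620564291798780103387267101519479264342006268083533030931755176405796334750606050266651510220880680472124860450614755140881529804795962566613306679076328984272673976169407394716952847488852425360841749371888765255827794145705935083360198149349,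 180117177105909217305634877301035382307578897263744240498109765749567718040472274226592653798145281611798783235780994615178889262808807901095487982533140809478152495991830307191402402371666472680574598967597243286200133689005319431227046185828909452540111823838317809684071945454889012058038689020144277894677033404377491796968826868693306723361825467206060251985010690032415909383392323548543902205745063735930209094185863708190968346984718066543297992610966686586200547857240445182164199225779371699115174489055492594172808527708353588527970221415474071958547094889088653635395290552058017529874091853972084693090891938843370908324023050838279986381204267262722250644825988788273102559714835411365721055102422200334027581293328050074767718484967908991982968875085976737925661286007883674463273956428168925194316743751238754310]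
  pinv := [84447482013746932473666437385141078440701013233098627977347653861321736020695894406574795620659014170875489589761913744508870605502166803208965334547204418007641052253361823007067946592421125870232935407660511145208959296728087182199557760804630006744140538482885530553705986979393628559967968031442149928798143864470862925083040643922987234013994926868622566664987081098604853289975918206264274096950611276529788108504297091252196907596283278573644649857626671374096842387836871497911329425552849657913306096699715287200932128132716774768378642390920881322153204306802092600103012929148747074110558533860208954543831712110030634187240108567100044294818413172531050352849866759577590055019548782396352348025209774904451422082810719941431369384865488531362218191738597986707741913980257679502220845155717137344169348737455375429, 176133647438937311884168729264654516198649625126615595124839833914871119625208855441974618319448980392763949181580707722352085543790230661419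675518674405170931902763993581290229221364998736087842286670643122760278859358603797022466394521497548519407758938144112946290112048365971643014303247625293721805154168286981959125421579362589097228243439819533004533851163138449166509905227090716287484728375993630656907694550788842771628305774785310351713522463500248948429934095684443204701641795841022293076332872067674304876019129851318775554227594261663904416460913048763117719355264289106058189954685120927340657094696669215561819383103384164182427864961791623982437130997066719952831163391435353518163710161500324657438801141151196904021739426478800502942112296903184487473090053164761204884770772056737018113546782558649237648439]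
  defs := [[(0, true), (0, true), (0, true), (1, true), (0, true), (1, true), (0, true), (1, false), (1, false), (0, false), (0, false), (1, false), (0, false)], [(0, true), (1, true), (1, true), (1, true), (0, true), (1, false), (1, false), (1, false), (0, false)]]
  eqs := [(2, 20, [0, 0, 0, 0, 0, 0, 0, 0, 0, 0, 0, 0, 0, 0, 0, 0, 0, 0, 0, 1, 0, 0, 0, 0, 0, 0, 0, 0, 0, 0, 0, 0, 0, 0, 0, 0, 0, 0, 0, 0, 0, 0, (-1)]),
    (2, 53, [1826, (-490), (-330), 1201, 2193, 725, 858, (-378), (-1650), (-646), 93, 907, 1310, (-47), 209, 524, (-119), 115, (-313), 1, (-1), (-23), 12, (-22), 7, 30, (-1), 2, 34, 1, (-40), (-3), 32, (-16), (-59), 15, 15, 7, (-1), 0, 12, 20, (-4), 0, 0, 0, 0, 1, 1, 0, (-1), (-1), 1, 1, (-1), 0, 0, 1]),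
    (3, 218, [4036, 3471, (-2781), (-3077), (-1455), (-7303), (-1523), 1971, (-574), 1298, 1161, 4274, (-4849), 2022, (-1086), (-2102), 454, 800, 288, (-56), (-4), 6, 12, 18, 2, 6, 0, (-2), (-28), 4, 4, 10, 2, (-4), 16, (-12), (-22), (-28), 8, 0, 22, 12, (-4), 3, 0, 0, (-4), 0, 4, 4, 0, 4]),
    (5, 1, [3472, 3950, (-2645), (-5298), 2594, (-2109), (-246), 2763, (-891), (-94), (-1946), 8575, (-3604), 1812, (-1264), (-1646), 635, 583, 194, (-90), (-172), (-14), (-20), 22, 24, 40, (-4), (-4), (-50), 0, (-48), 120, 32, (-16), (-38), (-34), 76, (-36), (-36), 10, 64, (-14), (-4), 6, 0, 1, (-4), 0, 4, 6, 2, 2, 2, 0, 2, 0, 0, 0, 0, 0, 0, 0, 0, 2, (-2), 0, 0, 0, 0, 0, (-2), 2, 0, 0, (-2)]),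
    (5, 154, [(-636), (-3309), 1730, 3015, (-4043), (-3315), (-1933), (-709), (-3894), 1739, 2988, 92, 2528, (-570), 1390, 396, (-775), 147, (-322), 45, 127, 29, 97, (-67), 39, 92, (-4), 1, 6, 30, (-85), (-116), 72, (-58), (-125), 88, 31, (-6), (-88), (-11), (-50), 82, 20, (-12), 1, (-4), 3, (-1), (-11), (-7), (-6), (-2), (-3), 0, (-1), 0, 2, 0, 1, 0, (-1), 0, 1, (-3), 3, 0, 0, 0, (-1), 0, 1, (-3), 0, (-2), 1]),
    (5, 199, [1118, (-829), (-20), 2668, (-97), (-1966), 347, (-849), (-223), (-542), 1806, (-3216), 849, (-653), 695, 978, (-432), (-140), (-87), (-26), 99, (-6), 7, 17, (-20), (-39), 3, (-2), 11, 3, 44, (-65), (-30), 12, 92, (-26), (-65), (-30), 81, (-7), (-11), 10, (-3), 0, (-2), (-3), (-2), 4, 1, 0, (-1), (-3), 3, 2, (-2), (-1), (-1), 0, 0, 0, 0, (-1), 0, (-1), 1, 0, 0, 1, 0, (-1), 1, (-1), 0, 0, 1, (-1)]),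
    (6, 149, [(-1377), (-747), 777, 100, (-1669), (-680), (-591), 416, 60, 350, 94, 101, 65, (-260), 341, 126, (-211), (-161), 109, 52, 4, 20, 0, (-10), (-2), 17, (-1), 1, (-52), 1, (-5), (-8), 8, (-1), (-11), 7, 5, 25, (-26), 1, (-7), (-2), 2, (-4), 2, 0, (-1), 4, (-4), (-1), (-2), 0, 0, (-1), 0, 0, 0, 0, 0, 0, 0, 1, 0, (-1), 1, 0, 0, 0, (-1), 0, 0, (-1), 0, 0, (-1)]),
    (6, 152, [0, 0, 0, 0, 0, 0, 0, 0, 0, 0, 0, 0, 0, 0, 0, 0, 0, 0, 0, 0, 0, 0, 0, 0, 0, 0, 0, 0, 0, 0, 0, 0, 0, 0, 0, 0, 0, 0, 0, 0, 0, 0, 1, 0, 0, 0, (-1), (-1), (-1)]),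
    (6, 215, [554, (-3467), 1594, 4873, (-4686), 7251, (-1465), (-2573), (-2469), 2018, (-62), (-2643), 5986, (-2717), 1932, 1566, (-666), (-1072), (-454), 35, (-86), 40, 21, (-21), 50, 22, (-18), (-2), (-47), 19, (-55), (-43), 17, (-67), (-99), 47, 92, 6, (-68), 6, (-7), 35, (-1), (-2), 1, (-1), (-9), 3, (-3), 0, (-3), 1, 0, 1, 1, 1, 3, 2, 1, 0, (-2), 0, (-3), 0, 0, (-1), (-1), (-1), (-2), 0, 0, 0, 0, 1, (-1), (-1)]),
    (7, 110, [1212, 386, (-502), 165, 27, (-192), (-404), (-78), (-67), 164, 120, 711, (-253), 39, 52, (-157), 6, 48, (-101), (-17), (-6), (-3), 5, (-16), (-1), 15, 3, 0, 43, (-3), (-17), (-10), 17, (-17), (-52), 14, 4, (-13), (-9), 1, 4, 21, 0, 0, 0, 0, 0, (-1)]),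
    (8, 100, [79, (-125), 31, 295, 214, 517, 136, (-161), 39, (-111), (-85), (-280), 297, (-123), 57, 152, (-21), (-48), (-36), 3, 0, (-2), (-3), 0, (-1), (-2), 0, 0, 4, (-1), 1, 0, (-1), 1, 1, (-1), (-1), 2, 5, 0, 0, 0, (-2), 0, 0, 0, 0, 0, 1, 2]),
    (9, 44, [(-325), 2307, (-781), (-1622), 1447, 8648, 289, (-336), 5618, (-923), (-4337), (-1105), (-872), (-1397), (-190), 607, 374, (-1074), 102, (-47), (-140), (-7), (-111), 36, (-10), (-69), 6, (-2), (-2), (-34), 67, 92, (-55), 19, 53, (-59), 27, (-27), 25, 12, 23, (-67), (-18), 10, 1, 2, (-4), 2, 8, 4, 5, 2, 3, (-1), 1, (-1), (-1), 0, 0, 0, 0, 0, (-1), 2, (-2), 1, 1, 1, 0, (-1), 0, 2, 0, 1, (-1), (-1)]),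
    (9, 104, [344, 382, (-255), (-685), 825, (-798), 166, 416, (-378), (-235), (-78), 1263, (-454), 280, (-180), (-60), 55, 134, (-4), 2, (-2), (-5), 3, 1, 1, 5, 0, 0, (-6), 2, (-3), 9, 3, 2, 3, (-3), 1, 3, 3, (-1), 5, (-2), 0, 0, 0, 0, 0, 0, 0, (-1)]),
    (11, 202, [(-3778), (-1039), 1329, 3179, (-3262), 190, 91, (-2124), 5905, (-201), 1516, (-11236), (-813), (-1140), 343, 702, (-213), (-467), 291, 22, 216, 33, (-34), 42, (-66), (-142), 19, 3, 72, (-24), 184, (-119), (-120), 82, 203, (-25), (-201), 3, 130, (-3), (-68), (-61), 4, 4, (-5), (-2), (-1), (-3), (-2), (-3), (-3), (-3), 1, 1, (-5), 0, (-2), (-1), 1, 1, 1, 1, 2, (-3), 3, 0, 0, 0, 1, 1, 2, (-3), 0, 1, 3, (-1)]),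
    (20, 207, [(-4614), (-1885), 1840, (-2503), (-188), (-11940), 210, 1950, (-4670), 522, 4286, 1962, (-1392), 3721, (-1033), (-2305), (-80), 1874, 597, 127, 234, 15, 138, (-15), (-8), 65, (-22), 10, (-120), 41, (-57), (-44), 52, 60, 70, 40, (-64), 102, (-85), (-12), (-54), 28, 3, 8, (-4), 3, 2, 3, 0, (-4), 2, (-1), (-3), 1, (-2), 0, (-2), (-3), 0, 1, 0, (-1), 3, (-1), 1, 0, 0, 0, 3, 2, 1, (-1), 0, 1, 2, (-2)]),
    (27, 270, [6419, 1201, (-2156), 749, (-1356), (-1374), (-2439), (-550), (-2667), 2063, 448, 6149, (-2179), (-1260), 573, 188, 110, (-193), (-1029), (-42), (-177), 19, (-60), (-149), 89, 176, (-5), (-2), 195, (-13), (-200), (-82), 176, (-185), (-543), 150, 121, (-12), (-113), 12, 56, 176, 22, (-6), 0, (-4), (-5), (-3), (-3), 1, 3, 5, (-3), (-2), 4, (-2), 3, 0, (-1), 0, (-1), (-1), (-3), 0, 0, (-1), (-2), 0, (-1), (-2), 0, 2, 0, (-2), 0, 1]),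
    (30, 32, [(-3098), (-3788), 2562, (-629), (-1026), (-4850), (-643), 930, (-8277), 1573, 2788, 5258, 3811, 2307, 78, (-1426), (-384), 1280, 60, 59, 143, 9, 210, (-40), 54, 150, (-18), (-1), (-149), 79, (-149), 3, 101, (-9), (-34), 74, 94, 31, (-165), (-18), (-55), 53, 17, (-7), 0, 1, 9, (-3), (-3), (-3), (-2), 0, (-7), 0, 3, 1, 1, (-3), 1, 0, 1, (-2), 3, (-1), 1, 0, 0, (-1), 2, 2, (-1), (-1), 0, (-1)]),
    (31, 222, [(-3402), (-2861), 2225, (-584), (-770), (-5408), 51, 1825, (-4719), 372, 1780, 3830, 1666, 2219, (-108), (-1080), (-327), 1071, 217, 17, 189, (-1), 161, (-24), 29, 107, (-4), (-5), (-101), 54, (-95), 18, 49, 23, 71, 35, 30, 10, 10, (-21), (-60), 37, 2, (-10), 1, (-1), 9, (-8), 4, 2, (-3), (-8), 3, 5, 0, 0, (-1), (-1), (-2), (-1), 2, (-1), 6, 0, 0, 0, 0, 0, 2, 0, (-4), (-1), 0, (-6), (-3)]),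
    (32, 28, [(-460), 2766, (-918), (-2456), 664, 9726, 1440, (-19), 4714, (-514), (-5146), (-781), (-700), (-1245), (-1784), (-141), 1489, (-699), (-56), (-82), (-217), 3, (-142), 42, 22, (-117), 3, (-1), 83, (-42), 80, 95, (-78), 0, 20, (-30), 25, (-33), 92, 11, 49, (-92), (-6), 11, 0, 4, (-7), 3, 4, 3, 4, 4, (-1), 0, 1, 1, 1, 1, 0, 1, 0, (-1), (-5), 2, (-3), (-1), 0, (-1), 0, 1, 0, 3, (-2), (-2)]),
    (33, 140, [3200, 4473, (-2857), (-5012), (-192), (-2948), (-1385), 2084, 968, 1099, (-1276), 6137, (-5293), 1655, (-1488), (-2185), 845, 570, 199, (-57), (-143), 14, (-39), 3, 23, 34, 3, (-2), 23, (-12), (-27), 64, 27, (-24), (-94), (-2), 28, (-21), (-39), 7, 51, 0, 3, 4, 0, 1, 2, 2, (-1), 2, 2, 3, (-1), (-2), 2, 0, 0, (-1), 0, 0, 0, 0, 0, 1, (-1), 0, 0, 0, 0, 0, (-1), 1]),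
    (33, 155, [(-2198), 184, 692, (-1441), 22, 5194, 56, 22, 1731, (-29), (-2444), 580, 494, (-578), (-43), (-45), 169, (-432), 70, (-52), (-104), 17, (-44), (-1), 21, 4, (-4), (-5), 15, (-4), (-15), 47, 2, (-21), (-58), 5, 58, (-27), (-49), 10, 6, (-17), 0, 6, 0, 2, (-2), 0, 2, 2, 4, 4, (-2), (-2), 2, 0, 0, 0, 0, 0, 0, 0, (-2), 2, (-2), 0, 0, 0, 0, 0, 0, 2, (-2), 1]),
    (33, 206, [(-482), (-1433), 793, 1364, (-2222), (-962), (-668), (-375), (-1485), 946, 1146, (-463), 1116, 28, 405, (-133), (-244), 142, (-95), 2, 78, 20, 58, (-26), 25, 40, 0, (-3), 1, 17, (-29), (-47), 23, (-20), (-29), 38, 3, (-15), (-17), (-9), (-27), 27, 6, (-3), 0, (-1), 1, (-1), (-3), (-3), (-2), (-2), (-1), 1, (-1), 0, 0, 0, 0, 0, 0, 0, 1, (-1), 1, 0, 0, 0, 0, 0, 0, (-1), (-1), (-2)]),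
    (34, 38, [(-4456), (-3035), 2763, 1667, 1439, 8766, 1669, (-1775), 82, (-866), (-2008), (-2811), 4917, (-1528), 668, 1399, (-194), (-649), (-284), 45, (-66), (-9), (-13), (-37), 29, 39, (-8), (-3), 44, 7, (-66), 31, 34, (-13), (-99), 32, 89, 24, (-69), 3, (-13), 4, 1, 4, 1, 2, (-1), 2, 0, 1, 3, 3, (-2), (-2), 2, 0, 0, (-1), 0, 0, 0, 0, 0, 1, (-1), 0, 0, 0, 1, 0, 0, 1, 0, 0, (-1)]),
    (34, 102, [(-2874), 142, 527, 3578, (-3087), 5731, 1205, (-2042), 9061, (-869), (-1418), (-13369), (-512), (-1814), (-522), 1072, 428, (-1220), 543, 68, 126, 22, (-132), 108, (-100), (-271), 18, 10, 33, (-50), 283, (-40), (-233), 110, 383, (-113), (-212), 29, 322, (-16), (-48), (-128), 7, (-7), 0, 1, 11, 2, (-7), (-3), (-1), (-3), 0, 1, (-1), 0, (-1), 0, (-2), 0, 0, 0, (-1), 0, 0, 0, 0, 0, (-2), 1, (-1), 0, (-1), 1, (-1), 1]),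
    (34, 130, [348, 988, (-263), (-5025), 4801, 5940, 264, 1527, (-3594), (-75), (-3984), 11204, 1031, 864, (-287), (-867), 233, 273, (-282), (-47), (-312), (-16), (-3), (-60), 84, 189, (-18), (-5), (-50), 16, (-218), 153, 161, (-77), (-330), 55, 232, (-3), (-297), 25, 84, 33, (-6), 13, 2, 4, (-5), (-3), 7, 9, 5, 6, 0, (-3), 6, 0, 1, (-1), 1, (-1), 0, 0, 0, 3, (-3), 0, 0, 0, 1, 0, (-2), 3, 0, 0, (-4), (-1)]),
    (34, 203, [530, 574, (-337), (-1063), 1876, 1486, 416, 444, (-299), (-595), (-1081), 2164, 240, 72, 26, 106, (-20), (-71), 5, (-40), (-77), (-7), (-10), 12, 7, 12, (-2), (-2), (-29), 1, (-16), 50, 8, (-5), (-6), (-20), 40, (-20), (-21), 5, 24, (-12), (-4), 4, 1, 1, (-2), 1, 2, 2, 1, 1, 2, 0, 1, 0, 0, 0, 0, 0, 0, 0, 0, 1, (-1), 0, 0, 0, 0, (-1), (-1), 1, 0, 0, (-2)]),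
    (34, 230, [(-2861), (-1713), 1347, 5470, (-2454), 1038, 426, (-2702), 7247, (-1165), 1251, (-13176), (-751), (-2948), 1180, 2630, (-563), (-1284), 141, 183, 157, 2, (-158), 16, (-95), (-172), 16, 14, 99, (-59), 185, (-163), (-127), 50, 164, (-43), (-192), 97, 215, (-6), (-53), 2, (-14), (-8), 4, (-1), 3, 4, (-2), (-1), (-1), (-5), 5, 2, (-4), (-2), (-2), 0, (-1), 0, 0, 1, 0, (-3), 2, 0, 0, 1, (-1), (-1), 1, (-2), 0, 1, (-1), (-1)]),
    (35, 9, [189, 1684, (-812), (-3575), (-996), (-6361), (-1054), 2321, (-1214), 798, 736, 4627, (-3294), 1852, (-821), (-1665), 235, 687, 433, (-14), (-6), 11, 27, 15, 14, 27, (-5), (-3), (-95), 15, (-17), 34, 12, 3, 34, (-11), 19, (-4), (-22), (-2), 8, (-6), 1, 3, 0, 1, 0, 2, 0, 1, 0, 0, 0, 0, 1, 0, 0, (-1), 0, 0, 0, 0, 2, 0, 0, 0, 0, 0, 1, (-1), (-1), 0, 0, 0, (-1), (-1)]),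
    (35, 33, [(-2560), (-1360), 1356, 1205, (-472), 2923, 554, (-879), 1343, (-396), (-472), (-3368), 1428, (-1126), 480, 943, (-195), (-506), 21, 14, 2, 5, (-30), 10, (-9), (-38), 2, (-1), (-4), (-4), 40, (-14), (-32), 8, 38, (-8), (-6), 2, 13, 2, (-14), (-25), 0, 2, (-1), 0, 5, (-2), 0, 0, 0, 0, 0, 0, 0, 0, 0, 0, 0, 0, 0, 0, 0, 0, 0, 0, 0, 0, 0, 0, 0, 0, 0, 0, 1, (-1)]),
    (35, 104, [(-5291), (-1291), 2243, (-3340), (-5444), (-1474), (-2424), 1253, (-2007), 2978, 87, 3942, (-534), 1141, (-521), (-2272), 243, 615, 383, 32, (-63), 79, 51, (-56), 64, 95, (-14), (-5), (-48), 27, (-99), (-22), 75, (-61), (-185), 102, 112, (-2), (-225), 5, (-31), 32, 31, 7, (-4), 2, (-1), (-1), (-7), (-3), 4, 7, (-10), (-5), 5, 0, 2, (-2), 1, 0, 0, 0, (-1), 1, (-1), 0, 0, 0, 0, 1, 0, 1, (-3), 3, 0, (-1)]),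
    (35, 105, [3801, 3071, (-2519), (-938), 121, (-4040), (-386), 858, 1929, (-219), 483, 385, (-3619), 582, (-815), (-601), 449, 247, 94, (-30), 33, (-13), (-27), 21, (-35), (-68), 13, 1, 79, (-23), 72, (-16), (-46), 14, 80, (-36), (-80), (-20), 116, (-3), 7, 7, (-7), (-1), 0, 0, 0, 4, (-2), (-2), (-1), (-2), 1, 1, (-2), 0, (-1), 1, (-1), 0, 0, 0, (-1), 0, 0, 0, 0, 0, (-1), 0, 0, 0, 0, (-1), 1]),
    (35, 147, [1726, 4054, (-2091), (-6026), (-3231), (-4400), (-3026), 2787, 203, 2311, (-910), 7876, (-5440), 1532, (-1084), (-2608), 637, 451, 362, (-92), (-141), 41, (-11), 0, 46, 55, (-4), (-9), (-60), 5, (-46), 63, 40, (-44), (-102), 13, 82, (-61), (-122), 10, 30, 8, 5, 5, 1, 1, (-3), 0, (-1), 3, 2, 5, (-2), (-3), 4, 0, 2, (-1), 1, 0, (-1), 0, 0, 1, (-1), 0, 0, 0, 0, 0, (-1), 1, 0, 0, (-1), (-1)]),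
    (35, 148, [2328, 3927, (-2520), (-5065), 5446, (-6246), 1387, 2794, 56, (-1759), (-483), 5986, (-5036), 2417, (-1882), (-1300), 789, 1043, 216, (-73), 7, (-56), (-10), 24, (-18), 1, 10, (-1), 38, (-8), 7, 66, 9, 32, 57, (-45), (-39), (-15), 77, (-2), 38, (-9), (-4), 1, 0, 1, 5, (-1), 2, 1, 2, 0, 0, 0, 0, 0, (-2), (-1), (-1), 0, 1, (-1), 2, 1, (-1), 0, 0, 0, 2, 0, (-1), 1, 0, (-1), 1, (-1)]),
    (35, 221, [(-5436), (-3776), 3395, 2045, 4505, 8602, 2480, (-1327), 492, (-2795), (-2348), (-2438), 5480, (-2480), 1469, 3151, (-708), (-1026), (-308), 73, (-21), (-38), (-23), (-13), (-7), 19, 4, (-2), (-27), (-5), (-22), 30, 15, 15, 6, (-15), 45, 41, (-40), 3, (-2), (-8), (-12), (-2), 1, 1, 10, (-3), 8, 5, 1, (-3), 2, 2, 1, 1, (-2), (-1), (-1), (-1), 1, (-1), 1, 1, (-1), 0, 0, (-1), 1, 0, (-1), 1, 0, (-1), (-1), (-1)]),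
    (35, 235, [(-943), (-2965), 1670, 3725, 3397, 8766, 1801, (-2462), (-625), (-1494), (-1533), (-2597), 5359, (-2267), 1359, 2569, (-545), (-871), (-624), 58, (-85), (-36), (-18), (-34), 8, 45, 2, (-1), 57, (-3), (-55), 1, 37, (-32), (-127), 26, 65, 38, (-47), 11, 13, 22, 3, (-2), 1, 0, 5, (-6), (-1), 0, 0, 0, (-1), (-1), 2, 1, 0, (-1), 0, (-1), 0, 0, 0, 0, 0, 0, 0, (-1), 0, 0, 0, 0, 0, (-1), 0, (-1)])]
  pts := [0]

end

end CfsgLib.LocalEvenB.McLCover
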