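import Mathlib
import Cfsg.Agent.Lib.Sporadic.ChainCertificate

/-!
# Coset table 1 of a chain for the McLaughlin group
-/

set_option autoImplicit false
set_option maxRecDepth 100000
set_option maxHeartbeats 0
set_option Elab.async false

namespace CfsgLib.LocalEvenB.McLCover

open CfsgLib.Schur.Cert

noncomputable section

/-- data -/
def next1 : Trie (ℕ) := .node (.node (.node (.node (.node (.node (.node (.node (.leaf 1) (.leaf 88)) (.node (.leaf 50) (.leaf 102))) (.node (.node (.leaf 29) (.leaf 19)) (.leaf 72))) (.node (.node (.node (.leaf 12) (.leaf 34)) (.node (.leaf 58) (.leaf 23))) (.node (.node (.leaf 42) (.leaf 92)) (.leaf 81)))) (.node (.node (.node (.node (.leaf 9) (.leaf 95)) (.node (.leaf 17) (.leaf 26))) (.node (.node (.leaf 37) (.leaf 105)) (.leaf 78))) (.node (.node (.node (.leaf 24) (.leaf 48)) (.node (.leaf 65) (.leaf 107))) (.node (.node (.leaf 46) (.leaf 79)) (.leaf 32))))) (.node (.node (.node (.node (.node (.leaf 5) (.leaf 91)) (.node (.leaf 51) (.leaf 84))) (.node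 (.node (.leaf 33) (.leaf 38)) (.leaf 74))) (.node (.node (.node (.leaf 20) (.leaf 49)) (.node (.leaf 61) (.leaf 47))) (.node (.node (.leaf 44) (.leaf 86)) (.leaf 83)))) (.node (.node (.node (.node (.leaf 13) (.leaf 90)) (.node (.leaf 56) (.leaf 66))) (.node (.node (.leaf 39) (.leaf 106)) (.leaf 77))) (.node (.node (.node (.leaf 27) (.leaf 103)) (.node (.leaf 68) (.leaf 73))) (.node (.node (.leaf 4) (.leaf 85)) (.leaf 62)))))) (.node (.node (.node (.node (.node (.node (.leaf 3) (.leaf 89)) (.node (.leaf 30) (.leaf 43))) (.node (.node (.leaf 31) (.leaf 57)) (.leaf 60))) (.node (.node (.node (.leaf 18) (.leaf 98)) (.node (.leaf 59) (.leaf 110))) (.node (.node (.leaf 16) (.leaf 100)) (.leaf 82)))) (.node (.node (.node (.node (.leaf 11) (.leaf 97)) (.node (.leaf 54) (.leaf 64))) (.node (.node (.leaf 21) (.leaf 52)) (.leaf 55))) (.node (.node (.node (.leaf 25) (.leaf 10)) (.node (.leaf 67) (.leaf 108))) (.node (.node (.leaf 6) (.leaf 14)) (.leaf 8))))) (.node (.node (.node (.node (.node (.leaf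 7) (.leaf 93)) (.node (.leaf 53) (.leaf 109))) (.node (.node (.leaf 35) (.leaf 104)) (.leaf 76))) (.node (.node (.node (.leaf 22) (.leaf 28)) (.node (.leaf 63) (.leaf 111))) (.node (.node (.leaf 45) (.leaf 71)) (.leaf 36)))) (.node (.node (.node (.node (.leaf 15) (.leaf 96)) (.node (.leaf 2) (.leaf 94))) (.node (.node (.leaf 40) (.leaf 69)) (.leaf 80))) (.node (.node (.node (.leaf 0) (.leaf 101)) (.node (.leaf 70) (.leaf 99))) (.node (.node (.leaf 41) (.leaf 75)) (.leaf 87))))))) (.node (.node (.node (.node (.node (.node (.node (.leaf 2) (.leaf 27)) (.node (.leaf 3) (.leaf 95))) (.node (.node (.leaf 30) (.leaf 89)) (.leaf 7))) (.node (.node (.node (.leaf 17) (.leaf 99)) (.node (.leaf 40) (.leaf 53))) (.node (.node (.leaf 43) (.leaf 105)) (.leaf 68)))) (.node (.node (.node (.node (.leaf 10) (.leaf 96)) (.node (.leaf 25) (.leaf 31))) (.node (.node (.leaf 38) (.leaf 58)) (.leaf 63))) (.node (.node (.node (.leaf 13) (.leaf 82)) (.node (.leaf 66) (.leaf 110))) (.node (.node (.leaf 47) (.leaf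 39)) (.leaf 11))))) (.node (.node (.node (.node (.node (.leaf 6) (.leaf 92)) (.node (.leaf 52) (.leaf 46))) (.node (.node (.leaf 34) (.leaf 76)) (.leaf 75))) (.node (.node (.node (.leaf 21) (.leaf 91)) (.node (.leaf 62) (.leaf 81))) (.node (.node (.leaf 5) (.leaf 107)) (.leaf 84)))) (.node (.node (.node (.node (.leaf 14) (.leaf 98)) (.node (.leaf 57) (.leaf 97))) (.node (.node (.leaf 22) (.leaf 61)) (.leaf 35))) (.node (.node (.node (.leaf 0) (.leaf 65)) (.node (.leaf 69) (.leaf 74))) (.node (.node (.leaf 48) (.leaf 37)) (.leaf 42)))))) (.node (.node (.node (.node (.node (.node (.leaf 4) (.leaf 90)) (.node (.leaf 50) (.leaf 51))) (.node (.node (.leaf 32) (.leaf 59)) (.leaf 73))) (.node (.node (.node (.leaf 19) (.leaf 100)) (.node (.leaf 60) (.leaf 109))) (.node (.node (.leaf 9) (.leaf 87)) (.leaf 29)))) (.node (.node (.node (.node (.leaf 12) (.leaf 70)) (.node (.leaf 55) (.leaf 33))) (.node (.node (.leaf 1) (.leaf 106)) (.leaf 79))) (.node (.node (.node (.leaf 26) (.leaf 102)) (.node (.leaf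 45) (.leaf 103))) (.node (.node (.leaf 20) (.leaf 104)) (.leaf 86))))) (.node (.node (.node (.node (.node (.leaf 8) (.leaf 94)) (.node (.leaf 54) (.leaf 72))) (.node (.node (.leaf 36) (.leaf 80)) (.leaf 77))) (.node (.node (.node (.leaf 23) (.leaf 101)) (.node (.leaf 64) (.leaf 78))) (.node (.node (.leaf 24) (.leaf 108)) (.leaf 85)))) (.node (.node (.node (.node (.leaf 16) (.leaf 15)) (.node (.leaf 44) (.leaf 88))) (.node (.node (.leaf 41) (.leaf 83)) (.leaf 67))) (.node (.node (.node (.leaf 28) (.leaf 93)) (.node (.leaf 71) (.leaf 111))) (.node (.node (.leaf 49) (.leaf 56)) (.leaf 18)))))))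

/-- data -/
def prev1 : Trie (ℕ) := .node (.node (.node (.node (.node (.node (.node (.node (.leaf 15) (.leaf 101)) (.node (.leaf 60) (.leaf 71))) (.node (.node (.leaf 25) (.leaf 55)) (.leaf 76))) (.node (.node (.node (.leaf 61) (.leaf 48)) (.node (.leaf 23) (.leaf 83))) (.node (.node (.leaf 12) (.leaf 64)) (.leaf 38)))) (.node (.node (.node (.node (.leaf 30) (.leaf 46)) (.node (.leaf 59) (.leaf 89))) (.node (.node (.leaf 10) (.leaf 98)) (.leaf 85))) (.node (.node (.node (.leaf 8) (.leaf 51)) (.node (.leaf 26) (.leaf 109))) (.node (.node (.leaf 75) (.leaf 88)) (.leaf 49))))) (.node (.node (.node (.node (.node (.leaf 39) (.leaf 102)) (.node (.leaf 72) (.leaf 73))) (.node (.node (.leaf 9) (.leaf 57)) (.leaf 32))) (.node (.node (.node (.leaf 77) (.leaf 50)) (.node (.leaf 24) (.leaf 86))) (.node (.node (.leaf 100) (.leaf 70)) (.leaf 40)))) (.node (.node (.node (.node (.leaf 29) (.leaf 47)) (.node (.leaf 82) (.leaf 96))) (.node (.node (.leaf 11) (.leaf 90)) (.leaf 37))) (.node (.node (.node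 (.leaf 93) (.leaf 52)) (.node (.leaf 28) (.leaf 105))) (.node (.node (.leaf 33) (.leaf 103)) (.leaf 62)))))) (.node (.node (.node (.node (.node (.node (.leaf 0) (.leaf 44)) (.node (.leaf 18) (.leaf 69))) (.node (.node (.leaf 36) (.leaf 56)) (.leaf 74))) (.node (.node (.node (.leaf 4) (.leaf 110)) (.node (.leaf 31) (.leaf 84))) (.node (.node (.leaf 13) (.leaf 65)) (.leaf 81)))) (.node (.node (.node (.node (.leaf 2) (.leaf 87)) (.node (.leaf 20) (.leaf 79))) (.node (.node (.leaf 21) (.leaf 94)) (.leaf 35))) (.node (.node (.node (.leaf 6) (.leaf 54)) (.node (.leaf 27) (.leaf 99))) (.node (.node (.leaf 16) (.leaf 67)) (.leaf 42))))) (.node (.node (.node (.node (.node (.leaf 1) (.leaf 45)) (.node (.leaf 19) (.leaf 111))) (.node (.node (.leaf 80) (.leaf 58)) (.leaf 34))) (.node (.node (.node (.leaf 5) (.leaf 95)) (.node (.leaf 97) (.leaf 108))) (.node (.node (.leaf 14) (.leaf 66)) (.leaf 41)))) (.node (.node (.node (.node (.leaf 3) (.leaf 91)) (.node (.leaf 22) (.leaf 78))) (.node (.node (.leaf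 104) (.leaf 63)) (.leaf 53))) (.node (.node (.node (.leaf 7) (.leaf 92)) (.node (.leaf 106) (.leaf 107))) (.node (.node (.leaf 17) (.leaf 68)) (.leaf 43))))))) (.node (.node (.node (.node (.node (.node (.node (.leaf 14) (.leaf 43)) (.node (.leaf 17) (.leaf 68))) (.node (.node (.leaf 7) (.leaf 83)) (.leaf 30))) (.node (.node (.node (.leaf 3) (.leaf 99)) (.node (.leaf 40) (.leaf 93))) (.node (.node (.leaf 27) (.leaf 103)) (.leaf 95)))) (.node (.node (.node (.node (.leaf 1) (.leaf 56)) (.node (.leaf 19) (.leaf 73))) (.node (.node (.leaf 29) (.leaf 58)) (.leaf 34))) (.node (.node (.node (.leaf 5) (.leaf 82)) (.node (.leaf 39) (.leaf 91))) (.node (.node (.leaf 15) (.leaf 66)) (.leaf 41))))) (.node (.node (.node (.node (.node (.leaf 0) (.leaf 44)) (.node (.leaf 18) (.leaf 70))) (.node (.node (.leaf 63) (.leaf 76)) (.leaf 33))) (.node (.node (.node (.leaf 4) (.leaf 110)) (.node (.leaf 62) (.leaf 85))) (.node (.node (.leaf 13) (.leaf 65)) (.leaf 84)))) (.node (.node (.node (.node (.leaf 2) (.leaf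 69)) (.node (.leaf 20) (.leaf 77))) (.node (.node (.leaf 22) (.leaf 61)) (.leaf 35))) (.node (.node (.node (.leaf 6) (.leaf 107)) (.node (.leaf 98) (.leaf 108))) (.node (.node (.leaf 16) (.leaf 67)) (.leaf 42)))))) (.node (.node (.node (.node (.node (.node (.leaf 21) (.leaf 78)) (.node (.leaf 101) (.leaf 102))) (.node (.node (.leaf 8) (.leaf 106)) (.leaf 31))) (.node (.node (.node (.leaf 25) (.leaf 49)) (.node (.leaf 23) (.leaf 88))) (.node (.node (.leaf 36) (.leaf 80)) (.leaf 38)))) (.node (.node (.node (.node (.leaf 26) (.leaf 46)) (.node (.leaf 94) (.leaf 75))) (.node (.node (.leaf 10) (.leaf 59)) (.leaf 104))) (.node (.node (.node (.leaf 12) (.leaf 51)) (.node (.leaf 45) (.leaf 105))) (.node (.node (.leaf 57) (.leaf 79)) (.leaf 86))))) (.node (.node (.node (.node (.node (.leaf 32) (.leaf 55)) (.node (.leaf 54) (.leaf 72))) (.node (.node (.leaf 9) (.leaf 87)) (.leaf 97))) (.node (.node (.node (.leaf 60) (.leaf 50)) (.node (.leaf 24) (.leaf 90))) (.node (.node (.leaf 64) (.leaf 74))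 (.leaf 81)))) (.node (.node (.node (.node (.leaf 48) (.leaf 47)) (.node (.leaf 92) (.leaf 109))) (.node (.node (.leaf 11) (.leaf 89)) (.leaf 37))) (.node (.node (.node (.leaf 71) (.leaf 53)) (.node (.leaf 28) (.leaf 111))) (.node (.node (.leaf 100) (.leaf 96)) (.leaf 52)))))))

/-- data -/
def lab1 : Trie (Word) := .node (.node (.node (.node (.node (.node (.node (.node (.leaf ([])) (.leaf ([]))) (.node (.leaf ([])) (.leaf ([(0, false), (1, false), (0, true), (0, true), (1, true), (0, true), (1, false), (0, false), (1, true), (0, true), (0, true), (1, false)])))) (.node (.node (.leaf ([])) (.leaf ([(1, true), (0, true), (1, true), (0, true), (0, true), (1, false), (0, false), (1, false), (0, false), (1, true), (0, true)]))) (.leaf ([])))) (.node (.node (.node (.leaf ([(1, false), (0, false), (1, true), (1, true), (0, false), (1, true), (0, true), (0, true), (1, true), (0, false), (1, false), (0, false)])) (.leaf ([(0, true), (1, true), (1, true), (0, true), (0, true), (1, true), (0, true),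 (0, true)]))) (.node (.leaf ([])) (.leaf ([])))) (.node (.node (.leaf ([])) (.leaf ([(1, false), (0, false), (1, false), (0, true), (1, true), (0, true), (0, true), (1, false), (0, false)]))) (.leaf ([]))))) (.node (.node (.node (.node (.leaf ([])) (.leaf ([]))) (.node (.leaf ([(0, true), (0, true), (1, true), (1, true), (0, true), (0, true), (1, true), (1, true), (0, false), (1, true), (0, true)])) (.leaf ([(0, false), (1, true), (1, true), (0, false), (1, true), (1, true), (0, true), (0, true), (1, true), (1, true), (0, true), (0, true)])))) (.node (.node (.leaf ([])) (.leaf ([]))) (.leaf ([])))) (.node (.node (.node (.leaf ([])) (.leaf ([(0, true), (0, true), (1, false), (0, true), (0, true), (1, true), (1, true), (0, false)]))) (.node (.leaf ([])) (.leaf ([(0, true), (0, true), (1, true), (1, true), (0, true), (1, false), (0, false), (1, true), (0, false), (1, false)])))) (.node (.node (.leaf ([])) (.leaf ([(0, true), (1, false), (0, false), (1, false), (0, true), (1, true), (0, true),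 (1, false), (0, false)]))) (.leaf ([(0, true), (1, false), (0, false), (1, false), (0, true), (1, true), (0, false), (1, false), (0, true), (1, true), (0, false)])))))) (.node (.node (.node (.node (.node (.leaf ([])) (.leaf ([]))) (.node (.leaf ([])) (.leaf ([(0, true), (0, true), (1, true), (0, true), (1, true), (1, true), (0, false), (1, false), (0, false), (1, true), (0, true), (0, true), (1, true), (0, false)])))) (.node (.node (.leaf ([])) (.leaf ([(1, true), (0, true), (1, false), (0, true), (1, true), (0, false), (1, false), (0, true), (1, true)]))) (.leaf ([])))) (.node (.node (.node (.leaf ([])) (.leaf ([(0, true), (0, true), (1, true), (0, true), (1, false), (0, true), (1, true), (0, false), (1, true), (1, true), (0, false)]))) (.node (.leaf ([])) (.leaf ([(0, true)])))) (.node (.node (.leaf ([])) (.leaf ([(1, true), (0, false), (1, true), (1, true), (0, false), (1, true), (0, true), (0, true), (1, true), (0, true), (0, true), (1, false)]))) (.leaf ([]))))) (.node (.node (.node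 (.node (.leaf ([])) (.leaf ([(1, true), (1, true), (0, false), (1, false), (0, true), (1, false), (0, true), (0, true), (1, false), (0, true)]))) (.node (.leaf ([])) (.leaf ([(1, true), (0, false), (1, true), (1, true), (0, true), (1, false)])))) (.node (.node (.leaf ([])) (.leaf ([(1, true), (1, true), (0, false), (1, false), (0, true), (0, true), (1, true), (0, false)]))) (.leaf ([(1, false), (0, true), (1, true), (1, true), (0, true), (1, true), (0, true), (0, true), (1, false), (0, false), (1, true)])))) (.node (.node (.node (.leaf ([])) (.leaf ([]))) (.node (.leaf ([])) (.leaf ([(1, false), (0, false), (1, true), (0, true), (1, false), (0, true)])))) (.node (.node (.leaf ([(0, false), (1, false), (0, false), (1, false), (0, true), (0, true), (1, false), (0, true), (1, true), (1, true), (0, false), (1, true), (0, true), (0, true)])) (.leaf ([(0, true), (1, false), (0, true), (1, true), (0, true), (1, true), (0, true), (0, true), (1, false), (0, true)]))) (.leaf ([(1, true), (1, true),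 (0, true), (1, true), (0, false), (1, true), (1, true), (0, true), (1, true), (0, true), (1, false), (0, false)]))))))) (.node (.node (.node (.node (.node (.node (.leaf ([])) (.leaf ([]))) (.node (.leaf ([(0, false), (1, true), (1, true), (0, true), (0, true), (1, true), (0, true), (1, false), (0, false), (1, true), (0, true), (1, true), (0, true), (0, true)])) (.leaf ([(0, true), (0, true), (1, true), (1, true), (0, true), (1, false), (0, true), (1, true), (0, false), (1, false), (0, true), (1, true)])))) (.node (.node (.leaf ([])) (.leaf ([(1, false), (0, false), (1, true), (0, true), (1, false), (0, false), (1, true), (0, false), (1, false)]))) (.leaf ([(0, true), (1, false), (0, true), (1, true), (0, true), (1, true), (0, false), (1, false), (0, false)])))) (.node (.node (.node (.leaf ([])) (.leaf ([(1, false), (0, false), (1, false), (0, true), (0, true), (1, true), (0, true), (1, true), (1, true), (0, false), (1, true), (1, true), (0, true)]))) (.node (.leaf ([])) (.leaf ([]))))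 (.node (.node (.leaf ([(0, false), (1, true), (0, true), (1, false), (0, false), (1, true), (0, true), (1, true), (0, false), (1, false), (0, false), (1, true)])) (.leaf ([(0, false), (1, true), (0, true), (1, true), (0, false), (1, true), (1, true), (0, true), (1, false), (0, false), (1, true), (0, true)]))) (.leaf ([]))))) (.node (.node (.node (.node (.leaf ([])) (.leaf ([]))) (.node (.leaf ([(1, false), (0, true), (1, true), (0, false), (1, true), (0, true), (1, true), (0, true), (0, true), (1, false)])) (.leaf ([(0, true), (1, true), (0, false), (1, false), (0, true), (1, true), (0, true), (0, true), (1, true), (1, true), (0, false), (1, true)])))) (.node (.node (.leaf ([(1, true), (0, true), (1, true), (1, true), (0, false), (1, false), (0, true), (0, true), (1, true), (0, true), (0, true), (1, false), (0, true)])) (.leaf ([(1, false), (0, true), (1, true), (1, true), (0, false), (1, true), (1, true), (0, false), (1, true), (0, true), (1, true), (0, false)]))) (.leaf ([(0, false),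 (1, false), (0, true), (1, true), (0, true), (1, true), (0, true), (0, true), (1, false), (0, false), (1, false)])))) (.node (.node (.node (.leaf ([])) (.leaf ([(1, true), (0, false), (1, false), (0, true), (1, true), (1, true), (0, false), (1, true), (0, true), (1, true), (0, false)]))) (.node (.leaf ([])) (.leaf ([(1, true), (0, true), (1, true), (0, true), (0, true), (1, true), (0, true), (1, false), (0, true), (0, true)])))) (.node (.node (.leaf ([(1, false), (0, true), (1, true), (0, true), (1, false), (0, false), (1, false), (0, true), (1, true), (0, false), (1, false), (0, true)])) (.leaf ([]))) (.leaf ([(0, true), (1, true), (0, true), (1, false), (0, true), (0, true), (1, false), (0, true), (1, true), (1, true), (0, true), (1, true)])))))) (.node (.node (.node (.node (.node (.leaf ([])) (.leaf ([]))) (.node (.leaf ([])) (.leaf ([])))) (.node (.node (.leaf ([])) (.leaf ([]))) (.leaf ([])))) (.node (.node (.node (.leaf ([])) (.leaf ([(0, true), (1, true), (1, true), (0, true), (0,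 true), (1, true), (1, true), (0, false), (1, false), (0, true), (1, true), (0, true), (1, true)]))) (.node (.leaf ([])) (.leaf ([])))) (.node (.node (.leaf ([])) (.leaf ([(1, false), (0, false), (1, true), (0, false), (1, false), (0, true), (0, true), (1, true), (0, false)]))) (.leaf ([(1, false), (0, false), (1, true), (0, true), (0, true), (1, false), (0, false), (1, false), (0, true), (1, false), (0, false)]))))) (.node (.node (.node (.node (.leaf ([])) (.leaf ([(1, true), (0, false), (1, true), (0, true), (1, true), (0, false), (1, false), (0, false), (1, true), (1, true), (0, false), (1, false)]))) (.node (.leaf ([])) (.leaf ([(0, true), (0, true), (1, true), (0, false), (1, false), (0, true), (1, true), (0, false)])))) (.node (.node (.leaf ([])) (.leaf ([(1, false), (0, false), (1, true), (0, true), (1, true), (1, true), (0, true), (1, false), (0, true), (1, true), (0, true), (0, true)]))) (.leaf ([])))) (.node (.node (.node (.leaf ([])) (.leaf ([(1, false), (0, false), (1, false),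 (0, true), (1, true), (0, true), (1, true), (0, true), (0, true), (1, false), (0, false), (1, false), (0, true)]))) (.node (.leaf ([])) (.leaf ([(0, false), (1, true), (1, true), (0, false), (1, false), (0, false), (1, true), (0, true), (1, true), (0, true)])))) (.node (.node (.leaf ([(1, true), (0, false), (1, true), (0, true), (0, true), (1, true), (0, true), (1, false), (0, false), (1, false), (0, true), (1, true)])) (.leaf ([(1, false), (0, false), (1, false), (0, false), (1, true), (0, true), (1, true), (1, true), (0, true), (0, true), (1, true), (1, true), (0, false)]))) (.leaf ([])))))))) (.node (.node (.node (.node (.node (.node (.node (.leaf ([])) (.leaf ([(0, true), (1, false), (0, false), (1, true), (0, true), (1, true), (1, true), (0, true), (1, true), (0, false), (1, false)]))) (.node (.leaf ([])) (.leaf ([(0, false), (1, true), (1, true), (0, true), (1, true), (0, false), (1, false), (0, true), (1, true), (0, true), (0, true), (1, true), (0, true)])))) (.node (.node (.leaf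 ([])) (.leaf ([(0, true), (0, true), (1, false), (0, false), (1, true), (1, true), (0, false), (1, true)]))) (.leaf ([])))) (.node (.node (.node (.leaf ([])) (.leaf ([]))) (.node (.leaf ([(0, false), (1, true), (0, false), (1, false), (0, true), (1, false), (0, true), (1, true), (0, false), (1, true), (0, false)])) (.leaf ([(0, true), (0, true), (1, false), (0, false), (1, true), (0, true), (1, true), (1, true), (0, true), (1, true), (0, false), (1, true), (1, true)])))) (.node (.node (.leaf ([])) (.leaf ([(0, false), (1, true), (1, true), (0, false), (1, false), (0, true), (1, true), (0, false), (1, false)]))) (.leaf ([(0, true), (1, false), (0, false), (1, false), (0, true), (1, true), (0, true), (0, true), (1, true), (1, true), (0, true), (0, true), (1, true), (0, true)]))))) (.node (.node (.node (.node (.leaf ([])) (.leaf ([]))) (.node (.leaf ([(0, true), (0, true), (1, true), (0, true), (1, true), (0, false), (1, true), (1, true), (0, false), (1, true), (0, true), (0, true), (1, true)]))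 (.leaf ([])))) (.node (.node (.leaf ([])) (.leaf ([(0, true), (1, false), (0, true), (1, true), (1, true), (0, false), (1, true), (1, true), (0, true), (1, true), (1, true), (0, true), (0, true)]))) (.leaf ([(1, false), (0, true), (1, true), (0, false), (1, true), (0, true), (1, false), (0, false), (1, true), (0, true), (1, false), (0, true), (1, true)])))) (.node (.node (.node (.leaf ([(0, true)])) (.leaf ([(0, false), (1, false), (0, true), (1, true), (1, true), (0, true), (1, false), (0, false), (1, false), (0, true), (1, false)]))) (.node (.leaf ([])) (.leaf ([(1, true), (0, false), (1, false), (0, true), (1, false), (0, false), (1, true), (0, false), (1, false)])))) (.node (.node (.leaf ([])) (.leaf ([(0, false), (1, false), (0, true), (1, false), (0, false), (1, true), (1, true), (0, true), (0, true), (1, true), (0, false)]))) (.leaf ([])))))) (.node (.node (.node (.node (.node (.leaf ([])) (.leaf ([]))) (.node (.leaf ([])) (.leaf ([(1, true), (0, true), (1, false), (0, true), (0,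 true), (1, false), (0, false), (1, true), (1, true)])))) (.node (.node (.leaf ([])) (.leaf ([(0, true), (1, true), (1, true), (0, false), (1, false), (0, false), (1, true), (1, true), (0, true), (1, true), (0, true)]))) (.leaf ([])))) (.node (.node (.node (.leaf ([])) (.leaf ([(0, true), (1, false), (0, true), (1, true), (0, false), (1, false), (0, true), (1, true), (0, true), (0, true)]))) (.node (.leaf ([])) (.leaf ([(1, false), (0, true), (1, true), (0, true), (1, true), (1, true), (0, false), (1, false), (0, false), (1, true), (0, true), (0, true), (1, false)])))) (.node (.node (.leaf ([(0, false)])) (.leaf ([]))) (.leaf ([]))))) (.node (.node (.node (.node (.leaf ([])) (.leaf ([]))) (.node (.leaf ([])) (.leaf ([(1, true), (1, true), (0, true), (0, true), (1, true), (1, true), (0, false), (1, false), (0, true), (1, false)])))) (.node (.node (.leaf ([(1, true), (1, true), (0, false), (1, true), (1, true), (0, true), (0, true), (1, true), (1, true), (0, false), (1, true)])) (.leaf ([(1,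 true), (0, false), (1, false), (0, true), (1, true), (0, true), (0, true), (1, false), (0, false), (1, true), (0, true), (1, false)]))) (.leaf ([(0, false), (1, false), (0, false), (1, true), (1, true), (0, true), (1, false), (0, true), (1, true), (0, true), (1, true), (0, true)])))) (.node (.node (.node (.leaf ([])) (.leaf ([(1, true), (0, true), (1, true), (0, true), (0, true), (1, false), (0, true), (1, true), (1, true), (0, false), (1, true), (0, true)]))) (.node (.leaf ([])) (.leaf ([(0, true), (0, true), (1, true), (0, false), (1, false), (0, false), (1, true), (0, true), (1, true), (0, true), (0, true), (1, false), (0, true)])))) (.node (.node (.leaf ([])) (.leaf ([(1, true), (1, true), (0, true), (0, true), (1, true), (1, true), (0, false)]))) (.leaf ([(0, true), (1, true), (1, true), (0, false), (1, false), (0, true), (1, true), (0, true), (1, true), (0, true), (0, true), (1, true), (0, true)]))))))) (.node (.node (.node (.node (.node (.node (.leaf ([])) (.leaf ([]))) (.node (.leaf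 ([(0, true), (1, true), (0, true), (0, true), (1, false), (0, true), (0, true), (1, true), (1, true), (0, false), (1, false), (0, false)])) (.leaf ([(1, true), (0, false), (1, true), (0, true), (1, true), (1, true), (0, true), (0, true), (1, true), (1, true)])))) (.node (.node (.leaf ([])) (.leaf ([(1, true), (0, true), (0, true), (1, false), (0, true), (1, true), (0, true), (1, true), (1, true), (0, false), (1, false), (0, false), (1, true)]))) (.leaf ([])))) (.node (.node (.node (.leaf ([])) (.leaf ([]))) (.node (.leaf ([])) (.leaf ([(1, false), (0, true), (1, true), (0, true), (0, true), (1, true), (0, true), (1, false), (0, false), (1, true), (0, true), (0, true)])))) (.node (.node (.leaf ([(1, false), (0, true), (0, true), (1, false), (0, true), (1, true), (1, true), (0, true), (1, false), (0, false), (1, false), (0, true), (0, true)])) (.leaf ([(0, true), (1, true), (0, true), (1, true), (1, true), (0, true), (1, true), (0, false), (1, true), (1, true), (0, false)]))) (.leaf ([(1,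 false), (0, true), (0, true), (1, true), (1, true), (0, false), (1, false), (0, true), (1, true), (0, true), (1, false)]))))) (.node (.node (.node (.node (.leaf ([])) (.leaf ([(1, true), (1, true), (0, true), (1, true), (0, true), (0, true), (1, true), (0, false), (1, false)]))) (.node (.leaf ([])) (.leaf ([(0, true), (1, true), (0, true), (1, true), (1, true), (0, true), (0, true), (1, true), (0, true), (0, true), (1, false), (0, false)])))) (.node (.node (.leaf ([])) (.leaf ([]))) (.leaf ([])))) (.node (.node (.node (.leaf ([])) (.leaf ([]))) (.node (.leaf ([(1, true)])) (.leaf ([(0, false), (1, false), (0, true), (1, true), (0, false), (1, true), (0, true), (1, false), (0, false), (1, true), (1, true), (0, false)])))) (.node (.node (.leaf ([(1, true), (0, false), (1, false), (0, false), (1, true), (0, true), (1, true), (1, true), (0, true), (0, true), (1, true)])) (.leaf ([(0, true), (1, true), (0, true), (1, true), (1, true), (0, true), (1, false), (0, false), (1, true), (0, true),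 (1, true)]))) (.leaf ([])))))) (.node (.node (.node (.node (.node (.leaf ([])) (.leaf ([]))) (.node (.leaf ([])) (.leaf ([(0, false), (1, true), (1, true), (0, true)])))) (.node (.node (.leaf ([])) (.leaf ([(0, false), (1, false), (0, true), (1, true), (0, true), (1, false), (0, false), (1, false)]))) (.leaf ([])))) (.node (.node (.node (.leaf ([])) (.leaf ([]))) (.node (.leaf ([])) (.leaf ([(0, false), (1, false), (0, true), (1, true), (0, true), (1, false), (0, true), (0, true), (1, true), (0, true), (1, true), (0, true)])))) (.node (.node (.leaf ([(1, true), (0, true), (1, false), (0, false), (1, true), (1, true), (0, false), (1, false), (0, true), (1, true), (0, false)])) (.leaf ([]))) (.leaf ([]))))) (.node (.node (.node (.node (.leaf ([])) (.leaf ([]))) (.node (.leaf ([(0, true), (1, false), (0, true), (0, true), (1, true), (1, true), (0, true), (1, true), (0, false), (1, true), (0, true)])) (.leaf ([(0, false), (1, false), (0, true), (1, false), (0, true), (0, true), (1, false),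 (0, true), (1, true), (0, true), (1, true)])))) (.node (.node (.leaf ([])) (.leaf ([(0, false), (1, true), (0, true), (1, true), (0, true), (1, false), (0, true), (1, true), (0, true)]))) (.leaf ([(0, true), (1, true), (1, true), (0, true), (0, true), (1, true), (1, true)])))) (.node (.node (.node (.leaf ([])) (.leaf ([(1, true), (0, true), (1, true), (1, true), (0, false), (1, false), (0, false), (1, true), (0, true), (1, true), (1, true)]))) (.node (.leaf ([])) (.leaf ([(1, false), (0, true), (1, false), (0, false), (1, true), (0, true), (1, false), (0, false), (1, true), (0, false), (1, false)])))) (.node (.node (.leaf ([])) (.leaf ([(1, false), (0, false), (1, false), (0, false), (1, true), (1, true), (0, false), (1, false), (0, true)]))) (.leaf ([(1, false), (0, false), (1, true), (0, false), (1, false), (0, true), (1, true), (0, false), (1, false), (0, true), (1, false), (0, false), (1, true)]))))))))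

/-- data -/
def val1 : Trie (Vec) := .node (.node (.node (.node (.node (.node (.node (.node (.leaf ([])) (.leaf ([]))) (.node (.leaf ([])) (.leaf ([123, (-59), 14, (-113), 205, 110, 10, 115, (-394), (-10), (-123), 735, 152, 16, (-1), 4, 10, 31, (-44), 0, (-9), (-1), 4, (-7), 6, 13, (-1), 0, 1, 1, (-15), 4, 12, (-7), (-24), 7, 13, 1, (-13), 1, 2, 5])))) (.node (.node (.leaf ([])) (.leaf ([94, 121, (-83), (-169), 18, (-312), (-14), 108, (-56), 16, 27, 231, (-195), 83, (-58), (-71), 25, 39, 12, (-2), (-2), 0, 0, 1, 1, 0, 0, 0, (-1), 0, 0, 1, 0, (-1), 0, 0, 1, (-1), 1, 0, 1]))) (.leaf ([])))) (.node (.node (.node (.leaf ([237, 228, (-172), (-276), (-19), (-593), (-92), 169, (-109), 67, 89, 432, (-352), 154, (-79), (-143), 31, 71, 12, (-2), (-2), 0, 1, (-1), 1, 3, 0, 0, 0, 0, (-3), 0, 3, (-2), (-5), 1, 1, (-1), (-3), 0, 2, 3])) (.leaf ([0, 0, 0, 0, 0, 0, 0, 0, 0, 0, 0, 0, 0, 0, 0, 0, 0, 0, 0, 0, 0, 0, 0, 1]))) (.node (.leaf ([])) (.leaf ([0, 0, 0, 0, 0, 0, 0, 0, 0, 0, 0, 0, 0, 0, 0, 0, 0,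 0, 0, 0, 1])))) (.node (.node (.leaf ([])) (.leaf ([0, 0, 0, 0, 0, 0, 0, 0, 0, 0, 0, 0, 0, 0, 0, 0, 0, 0, 0, 0, 0, 0, 0, 0, 0, 0, 0, 0, 0, 0, 1]))) (.leaf ([]))))) (.node (.node (.node (.node (.leaf ([])) (.leaf ([]))) (.node (.leaf ([197, 37, (-79), 24, 150, 101, 26, 1, (-65), (-22), (-47), 128, 33, 32, (-3), 0, (-3), 8, (-3), (-5), (-1), (-1), 1, 2, 0, 1, 0, 0, (-4), 1, 0, 3, 0, 1, 3, (-3), 0, (-2), 3, 0, 2, (-3)])) (.leaf ([223, 321, (-205), (-454), (-281), (-891), (-245), 279, (-100), 191, 117, 633, (-565), 207, (-118), (-243), 52, 84, 36, (-2), (-3), 2, 1, (-1), 2, 3, 0, 0, (-4), 0, (-3), 0, 3, (-3), (-6), 2, 2, (-1), (-3), 0, 2, 2])))) (.node (.node (.leaf ([])) (.leaf ([]))) (.leaf ([])))) (.node (.node (.node (.leaf ([])) (.leaf ([(-1), 1, 0, (-2), 0, (-2), 1, 0, 0, 0, 0, 0, (-2), (-1), (-1), 0, 0, 0, 0, 0, 1, 0, 0, (-1)]))) (.node (.leaf ([])) (.leaf ([34, 118, (-56), (-269), 105, (-54), 23, 154, (-118), 4, (-116), 461, (-103), 110, (-82), (-100), 40, 42, 3, (-3), (-5), 1, 2,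 (-1), 3, 5, 0, 0, (-5), 0, (-4), 6, 4, 0, (-4), 1, 3, (-1), (-7), 0, 3, (-1)])))) (.node (.node (.leaf ([])) (.leaf ([0, 0, 0, 0, 0, 0, 0, 0, 0, 0, 0, 0, 0, 0, 0, 0, 0, 0, 0, 0, 0, 0, 0, 0, 0, 0, 0, 0, 0, 0, 0, 0, 0, 0, 0, 1]))) (.leaf ([(-102), (-72), 63, 87, 17, 333, 63, (-59), 77, (-33), (-95), (-170), 133, (-69), 11, 61, 3, (-34), (-2), 0, (-3), 1, (-1), 2, 0, (-2), 0, 0, (-1), 0, 3, 2, (-3), 1, 4, (-2), 0, 0, 4, 0, 0, (-4)])))))) (.node (.node (.node (.node (.node (.leaf ([])) (.leaf ([]))) (.node (.leaf ([])) (.leaf ([(-37), 1, 14, (-53), 4, 16, (-7), 29, (-22), 7, (-33), 108, (-6), 9, (-25), (-20), 17, 8, (-5), 0, (-1), 0, 0, (-1), 1, 1, 0, 0, 1, 0, (-2), 0, 2, (-1), (-4), 1, 1, 0, (-1), 0, 1])))) (.node (.node (.leaf ([])) (.leaf ([0, 0, 0, 0, 0, 0, 0, 0, 0, 0, 0, 0, 0, 0, 0, 0, 0, 0, 0, 0, 0, 0, 0, 0, 0, 0, 0, 0, 1]))) (.leaf ([])))) (.node (.node (.node (.leaf ([])) (.leaf ([138, 13, (-37), 196, 453, 892, 218, (-191), 212, (-202), (-270), (-228), 255, (-182), 24, 189, 15, (-68),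 (-60), (-7), (-7), (-3), (-5), 0, (-1), (-3), 1, 0, 14, (-3), 2, 2, (-1), 1, (-3), (-1), (-2), (-3), 4, 1, 3]))) (.node (.leaf ([])) (.leaf ([0, 0, 0, 0, 0, 0, 0, 0, 0, 0, 0, 0, 0, 0, 0, 0, 0, 0, 0, 0, (-1), 1])))) (.node (.node (.leaf ([])) (.leaf ([(-347), (-397), 277, 388, 287, 608, 183, (-196), (-17), (-193), (-50), (-417), 533, (-186), 150, 258, (-83), (-72), (-27), 7, 4, (-2), 1, 0, (-3), (-1), 0, 0, (-2), 0, 1, (-1), (-1), 2, 5, (-2), 0, 3, (-1), 0, (-2), (-1)]))) (.leaf ([]))))) (.node (.node (.node (.node (.leaf ([])) (.leaf ([(-488), (-369), 305, 437, (-51), 828, 97, (-288), 270, (-91), (-75), (-836), 509, (-238), 132, 205, (-55), (-117), (-11), 6, 6, 0, (-1), 1, (-3), (-5), 0, 0, 0, 0, 5, (-2), (-5), 4, 6, (-1), (-2), 3, 3, 0, (-4), (-5)]))) (.node (.leaf ([])) (.leaf ([(-377), (-225), 218, 207, (-286), 522, (-45), (-148), 188, 50, (-71), (-444), 265, (-165), 81, 80, (-26), (-76), (-3), 4, 1, 4, (-2), (-2), 0, (-3), 0, 0, 2, (-1), 2, (-3), (-2), 0, (-1), 2, 0, 1, (-2), 0, (-3),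 (-1)])))) (.node (.node (.leaf ([])) (.leaf ([0, 0, 0, 0, 0, 0, 0, 0, 0, 0, 0, 0, 0, 0, 0, 0, 0, 0, 0, 0, 0, 0, 0, 0, 0, 0, 0, 1]))) (.leaf ([(-187), (-215), 154, 272, 81, 510, 85, (-175), 72, (-81), (-53), (-378), 337, (-148), 88, 156, (-37), (-65), (-26), 2, 4, (-1), 1, 0, (-1), (-1), 0, 0, 2, 0, 1, (-1), (-1), 1, 1, 0, (-1), 1, 0, 0, (-2)])))) (.node (.node (.node (.leaf ([])) (.leaf ([]))) (.node (.leaf ([])) (.leaf ([(-583), (-763), 525, 560, 761, 1513, 538, (-317), (-496), (-358), (-265), (-276), 1274, (-270), 189, 421, (-95), (-77), (-85), 6, (-1), (-2), 7, (-3), 5, 10, (-1), 0, (-2), 3, (-10), 5, 6, 1, (-2), 1, 8, 3, (-7), (-1), 0, 1])))) (.node (.node (.leaf ([441, 114, (-196), 63, 319, (-294), 86, (-16), (-156), (-62), 104, 138, (-128), 67, (-42), 5, 17, 49, (-32), 6, (-3), (-4), (-3), (-2), (-1), 3, 0, 1, 8, (-1), (-4), (-2), 4, (-2), (-10), 1, (-2), 6, 4, 0, 4, 5])) (.leaf ([(-259), (-32), 93, (-145), (-9), 74, 24, 66, 24, (-9), (-88), 83, (-7), 9, (-25), (-16), 11, (-1), 21,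 1, (-2), 1, (-1), 1, 1, (-1), 0, 0, (-6), 0, 1, 3, (-1), 1, 4, (-1), 2, 0, (-3), 0, 0, (-3)]))) (.leaf ([(-539), (-250), 285, 120, (-227), 714, (-28), (-143), 206, 21, (-153), (-403), 337, (-191), 103, 111, (-39), (-98), 9, (-2), 1, 3, 1, 1, 1, (-4), 0, (-1), (-4), 0, 4, 0, (-4), 1, 6, 1, 2, (-2), (-3), 1, (-4), (-4)]))))))) (.node (.node (.node (.node (.node (.node (.leaf ([])) (.leaf ([]))) (.node (.leaf ([(-9), 5, (-12), (-52), 142, (-271), 61, 61, (-95), (-55), 72, 65, (-52), 64, (-17), (-8), (-9), 30, 18, (-1), 2, 0, 0, 2, (-2), (-1), 0, 0, (-6), 0, 1, 1, 0, 3, 8, (-4), (-4), 1, 1, 0, 2])) (.leaf ([296, 547, (-348), (-518), (-587), (-1343), (-357), 313, 268, 264, 251, 229, (-958), 276, (-170), (-353), 68, 89, 98, (-7), 4, 3, (-3), 7, (-4), (-10), 0, 0, (-9), (-1), 11, (-3), (-8), 3, 16, (-5), (-10), (-3), 6, 1, 1, (-3)])))) (.node (.node (.leaf ([])) (.leaf ([0, 0, 0, 0, 0, 0, 0, 0, 0, 0, 0, 0, 0, 0, 0, 0, 0, 0, 0, 0, 1, 0, 0, 0, 0, 0, 0, 0, (-1)]))) (.leaf ([0, 0, 0, 0, 0, 0, 0,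 0, 0, 0, 0, 0, 0, 0, 0, 0, 0, 0, 0, 0, 0, 0, 0, 0, 0, 0, 1])))) (.node (.node (.node (.leaf ([])) (.leaf ([(-471), (-331), 272, 291, (-192), 40, 35, (-137), 105, (-30), 139, (-664), 221, (-127), 129, 146, (-80), (-62), 22, 11, 6, 0, (-2), 2, (-3), (-4), 0, 0, (-7), 1, 5, (-4), (-5), 3, 10, (-2), (-2), 6, 4, 0, (-4), (-3)]))) (.node (.leaf ([])) (.leaf ([])))) (.node (.node (.leaf ([(-20), (-139), 69, 181, 182, 309, 104, (-104), (-66), (-81), (-31), (-121), 243, (-68), 48, 103, (-23), (-21), (-28), 1, 1, (-1), 1, (-1), 0, 1, 0, 0, 2, 0, (-1), 0, 1, 0, (-2), 1, 0, 1])) (.leaf ([(-897), (-1006), 738, 799, 288, 1566, 254, (-425), (-338), (-229), (-141), (-556), 1420, (-404), 359, 460, (-177), (-140), (-90), 9, 6, 2, 12, (-9), 2, 12, (-1), 0, 1, 3, (-12), (-2), 9, (-2), (-13), 7, 11, 2, (-19), 0, (-7), 4]))) (.leaf ([]))))) (.node (.node (.node (.node (.leaf ([])) (.leaf ([]))) (.node (.leaf ([201, 215, (-152), (-250), (-162), (-482), (-105), 149, (-65), 113, 59, 351, (-333), 126, (-89), (-159),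 47, 64, 13, (-1), (-6), 1, (-1), (-2), 3, 2, 0, 0, 5, 0, (-3), 0, 2, (-4), (-8), 3, 5, (-1), 0, 0, 0, 2])) (.leaf ([197, 266, (-177), (-340), 145, (-669), (-10), 216, (-79), (-38), 84, 419, (-349), 178, (-91), (-120), 29, 77, 25, (-3), (-1), (-1), 1, 2, (-2), 1, 0, 0, (-2), 0, (-1), 4, 1, 2, 3, (-3), (-1), (-1), 1, 0, 2, 1])))) (.node (.node (.leaf ([102, 109, (-77), (-154), 12, (-255), (-21), 98, (-70), 21, 14, 249, (-161), 67, (-48), (-61), 22, 34, 6, (-2), (-2), 0, 0, 0, 1, 1, 0, 0, 0, 0, (-1), 1, 1, (-1), (-1), 0, 1, (-1), 0, 0, 1, 1])) (.leaf ([239, 171, (-151), (-111), (-113), (-614), (-121), 97, (-18), 62, 170, 150, (-309), 89, (-18), (-86), (-1), 42, 13, (-3), 0, 0, 1, 1, (-1), 1, 0, 0, 0, 0, 0, (-3), 1, (-1), (-1), 0, (-1), (-1), 0, 1, 0, 3]))) (.leaf ([(-102), (-122), 86, 168, (-21), 307, 13, (-109), 59, (-16), (-24), (-237), 194, (-84), 58, 71, (-25), (-39), (-12), 2, 3, 0, 0, (-1), (-1), 0, 0, 0, 1, 0, 0, (-1), 0, 1, 0, 0, (-1), 1, (-1), 0, (-1)])))) (.node (.node (.node (.leaf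 ([])) (.leaf ([272, 299, (-232), (-96), (-382), (-640), (-205), 55, 263, 153, 195, (-225), (-478), 103, (-65), (-156), 23, 20, 57, (-4), 7, 2, (-3), 6, (-5), (-11), 0, 0, (-5), (-1), 12, (-4), (-9), 4, 17, (-5), (-11), (-2), 9, 0, 0, (-3)]))) (.node (.leaf ([])) (.leaf ([(-102), (-144), 93, 209, (-5), 350, 25, (-131), 65, (-23), (-23), (-289), 220, (-94), 66, 85, (-30), (-44), (-12), 2, 1, 0, 0, 0, (-1), (-1), 0, 0, 0, 0, 1, (-1), (-1), 1, 0, 0, (-1), 1, 0, 0, 0, (-1)])))) (.node (.node (.leaf ([20, 139, (-69), (-181), (-182), (-309), (-104), 104, 66, 81, 31, 121, (-243), 68, (-48), (-103), 23, 21, 28, (-1), 0, 1, (-1), 1, 0, (-1), 0, 0, (-2), 0, 1, 0, (-1), 0, 2, (-1), 0, (-1)])) (.leaf ([0, 0, 0, 0, 0, 0, 0, 0, 0, 0, 0, 0, 0, 0, 0, 0, 0, 0, 0, 0, 1]))) (.leaf ([(-292), (-247), 197, 279, 22, 658, 108, (-175), 129, (-77), (-112), (-465), 378, (-170), 81, 155, (-31), (-79), (-12), 2, 3, 0, (-1), 1, (-1), (-3), 0, 0, 0, 0, 3, 0, (-3), 2, 5, (-1), (-1), 1, 3, 0, (-2), (-3)])))))) (.node (.node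 (.node (.node (.node (.leaf ([])) (.leaf ([]))) (.node (.leaf ([])) (.leaf ([])))) (.node (.node (.leaf ([])) (.leaf ([]))) (.leaf ([])))) (.node (.node (.node (.leaf ([])) (.leaf ([169, 150, (-116), (-210), 67, (-386), (-38), 123, (-127), 27, 47, 378, (-220), 116, (-61), (-95), 23, 59, 4, 0, (-3), 0, 1, (-1), 1, 3, 0, 0, 0, 0, (-3), 1, 3, (-1), (-4), 1, 1, 0, (-3), 0, 2, 3]))) (.node (.leaf ([])) (.leaf ([])))) (.node (.node (.leaf ([])) (.leaf ([0, 0, 0, 0, 0, 0, 0, 0, 0, 0, 0, 0, 0, 0, 0, 0, 0, 0, 0, 0, 0, 0, 0, 0, 0, 0, 0, 0, 0, 0, 0, 0, 0, 0, 1]))) (.leaf ([(-376), (-100), 159, 23, (-549), (-34), (-206), (-50), 238, 160, 77, (-370), (-65), (-104), 84, (-14), (-36), (-44), 24, 1, 0, 6, (-2), (-1), 0, (-3), 0, 0, 1, (-1), 3, (-7), (-2), (-2), (-3), 4, 0, (-1), (-9), 1, (-4), 1]))))) (.node (.node (.node (.node (.leaf ([])) (.leaf ([(-114), (-320), 153, 531, 389, 414, 296, (-282), 20, (-225), 85, (-719), 446, (-94), 90, 206, (-57), (-29), (-40), 7, 7, (-5), 1, 0, (-4), 1, 1, 0, 9, 1,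 1, (-3), (-1), 4, 3, (-2), (-6), 4, 9, (-1)]))) (.node (.leaf ([0, 0, 0, 0, 0, 0, 0, 0, 0, 0, 0, 0, 0, 0, 0, 0, 0, 0, 0, 0, 1])) (.leaf ([(-334), (-160), 169, 154, (-77), 417, 39, (-120), 216, (-42), (-68), (-455), 197, (-127), 66, 103, (-29), (-73), 10, 2, 3, 1, 0, 2, (-2), (-5), 0, 0, (-6), 0, 6, 0, (-5), 4, 10, (-3), (-3), 1, 0, 0, (-1), (-5)])))) (.node (.node (.leaf ([])) (.leaf ([265, 164, (-162), (-197), 151, (-659), 45, 189, (-224), (-19), 110, 414, (-275), 184, (-99), (-107), 34, 93, 7, 1, (-2), (-2), 2, 0, 0, 5, 0, 0, (-2), 2, (-3), 2, 3, 0, (-2), (-1), 0, 2, 0, 0, 3, 1]))) (.leaf ([])))) (.node (.node (.node (.leaf ([0, 0, 0, 0, 0, 0, 0, 0, 0, 0, 0, 0, 0, 0, 0, 0, 0, 0, 0, 0, 1])) (.leaf ([484, 728, (-492), (-625), (-842), (-1561), (-439), 365, 296, 412, 296, 254, (-1149), 438, (-294), (-553), 134, 151, 120, (-10), 14, 5, 2, 8, (-3), (-12), 0, 0, (-6), 0, 14, (-2), (-11), 5, 25, (-5), (-14), (-5), 14, (-1), (-3), (-3)]))) (.node (.leaf ([])) (.leaf ([927, 1090, (-738), (-1109),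 (-392), (-1646), (-509), 605, 185, 321, 33, 1428, (-1525), 377, (-310), (-500), 165, 159, 66, (-16), (-13), 4, (-7), 0, 3, (-1), 1, 0, 9, (-4), 1, 1, 2, (-8), (-10), 1, (-1), (-9), 2, 1, 5, 7])))) (.node (.node (.leaf ([1554, 1449, (-1097), (-1568), (-878), (-3211), (-822), 982, (-473), 713, 438, 2407, (-2103), 884, (-473), (-990), 213, 364, 107, (-24), (-11), 7, 8, 0, 8, 14, 0, (-1), (-11), 2, (-11), 6, 11, (-9), (-16), 3, 2, (-12), (-11), 0, 10, 10])) (.leaf ([(-176), (-152), 119, 210, (-69), 388, 38, (-124), 127, (-26), (-47), (-379), 221, (-117), 59, 95, (-23), (-59), (-4), 0, 4, 0, (-1), 1, (-1), (-3), 0, 0, 0, 0, 3, (-1), (-3), 1, 4, (-1), (-1), 0, 3, 0, (-2), (-3)]))) (.leaf ([])))))))) (.node (.node (.node (.node (.node (.node (.node (.leaf ([])) (.leaf ([(-15), (-133), 62, 245, 66, 395, 74, (-144), 34, (-48), (-35), (-289), 249, (-94), 51, 98, (-20), (-39), (-20), 2, 2, (-1), 0, 0, (-1), (-1), 0, 0, 3, 0, 1, (-1), (-1), 1, 1, 0, (-1), 1, 3, 0, (-1)]))) (.node (.leaf ([0, 0, 0,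 0, 0, 0, 0, 0, 0, 0, 0, 0, 0, 0, 0, 0, 0, 0, 0, 1])) (.leaf ([138, 348, (-172), (-607), (-335), (-690), (-321), 332, (-94), 217, (-7), 871, (-536), 145, (-93), (-233), 48, 59, 38, (-6), (-6), 4, 0, (-2), 4, 1, (-1), 0, (-8), (-1), (-4), 1, 4, (-5), (-7), 4, 6, (-4), (-13), 1, 1, 4])))) (.node (.node (.leaf ([])) (.leaf ([0, 0, 0, 0, 0, 0, 0, 0, 0, 0, 0, 0, 0, 0, 0, 0, 0, 0, 0, 0, 0, 0, 0, 0, 1]))) (.leaf ([0, 0, 0, 0, 0, 0, 0, 0, 0, 0, 0, 0, 0, 0, 0, 0, 0, 0, 0, 1])))) (.node (.node (.node (.leaf ([])) (.leaf ([]))) (.node (.leaf ([(-353), (-323), 250, 295, 97, 540, 147, (-167), 19, (-114), (-57), (-416), 419, (-176), 95, 189, (-42), (-63), (-22), 3, 2, (-1), (-1), (-1), 0, (-2), 0, 0, 3, 0, 1, (-3), (-1), 0, 1, 1, 1, 1, 2, 0, (-2), (-1)])) (.leaf ([184, 174, (-132), (-190), (-6), (-323), (-32), 125, (-51), 36, 11, 289, (-237), 99, (-75), (-96), 36, 43, 10, (-2), (-4), 0, 0, 1, 1, 1, 0, 0, (-1), 0, 0, 2, 0, (-1), (-1), 0, 1, (-1), 1, 0, 2, (-1)])))) (.node (.node (.leaf ([])) (.leaf ([0,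 0, 0, 0, 0, 0, 0, 0, 0, 0, 0, 0, 0, 0, 0, 0, 0, 0, 0, 0, 0, 0, 0, 0, 0, 0, 0, 0, 0, 0, 0, 0, 1]))) (.leaf ([(-430), (-270), 260, 149, (-271), 504, (-60), (-127), 68, 70, (-79), (-257), 271, (-188), 95, 98, (-29), (-66), (-22), 3, 0, 5, (-1), (-4), 2, 0, 0, 0, 2, (-1), (-1), (-4), 1, (-3), (-9), 6, 2, 0, (-9), 0, (-3), 1]))))) (.node (.node (.node (.node (.leaf ([])) (.leaf ([]))) (.node (.leaf ([216, 32, (-81), 70, 165, (-61), 57, 0, (-82), (-54), 21, 72, 19, 21, (-15), 22, 5, 12, (-14), (-1), 1, (-2), 1, 0, (-1), 1, 0, 0, 1, 0, (-1), 1, 1, 1, 1, (-2), (-1), 0, 5, 0, 1, 1])) (.leaf ([0, 0, 0, 0, 0, 0, 0, 0, 0, 0, 0, 0, 0, 0, 0, 0, 0, 0, 0, 1])))) (.node (.node (.leaf ([])) (.leaf ([(-421), (-386), 293, 448, (-29), 718, 118, (-268), 165, (-95), (-41), (-757), 496, (-243), 164, 238, (-81), (-109), (-11), 4, 6, 0, (-2), 1, (-2), (-5), 0, 0, 0, 0, 5, (-4), (-5), 2, 8, (-1), (-2), 1, 3, 0, (-4), (-2)]))) (.leaf ([(-288), (-54), 116, (-28), (-346), 130, (-133), (-16), 187, 100, (-33), (-182),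 (-10), (-72), 39, (-13), (-13), (-42), 21, 3, 0, 4, (-2), (-1), 0, (-3), 0, 0, (-2), (-1), 2, (-2), (-2), 0, 1, 1, 0, 0, (-4), 0, (-2), (-1)])))) (.node (.node (.node (.leaf ([])) (.leaf ([(-74), (-92), 61, 133, 20, 206, 21, (-93), 45, (-21), 0, (-201), 136, (-48), 42, 48, (-22), (-24), (-7), 2, 2, 0, 0, (-1), (-1), 0, 0, 0, (-1), 0, 0, (-1), 0, 1, 0, 0, (-1), 1]))) (.node (.leaf ([])) (.leaf ([307, 482, (-308), (-490), (-418), (-889), (-275), 280, 155, 227, 88, 432, (-738), 247, (-187), (-330), 95, 86, 53, (-7), (-1), 3, (-1), 2, 0, (-4), 0, 0, (-2), (-1), 4, 1, (-2), 0, 3, 0, (-3), (-4), 2, 0, 1, (-2)])))) (.node (.node (.leaf ([])) (.leaf ([21, 27, (-20), 1, (-29), (-42), (-12), (-6), 36, 7, 20, (-58), (-33), 1, 3, (-2), (-3), (-3), 6, 1, 0, 0, 0, 1, (-1), (-1), 0, 0, (-1), 0, 1, 0, (-1), 1, 3, (-1), (-1), 0, 1]))) (.leaf ([0, 0, 0, 0, 0, 0, 0, 0, 0, 0, 0, 0, 0, 0, 0, 0, 0, 0, 0, 1])))))) (.node (.node (.node (.node (.node (.leaf ([])) (.leaf ([]))) (.node (.leaf ([])) (.leaf ([(-8),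 (-1), 3, (-1), (-5), (-3), (-1), 1, 6, 0, 0, (-4), (-3), (-1), (-1), 0, 0, 0, 0, 1, 0, 0, 0, 0, 0, 0, 0, 0, 0, 0, 0, (-1)])))) (.node (.node (.leaf ([])) (.leaf ([81, 97, (-66), (-137), (-18), (-221), (-22), 95, (-48), 23, 4, 206, (-143), 54, (-48), (-54), 25, 27, 7, (-2), (-2), 0, 0, 1, 1, 0, 0, 0, 1, 0, 0, 1, 0, (-1), 0, 0, 1, (-1), 1]))) (.leaf ([])))) (.node (.node (.node (.leaf ([])) (.leaf ([0, 0, 0, 0, 0, 0, 0, 0, 0, 0, 0, 0, 0, 0, 0, 0, 0, 0, 0, 0, 0, 0, 0, 0, 0, 0, 0, 0, 0, 0, 0, 0, 0, 1]))) (.node (.leaf ([])) (.leaf ([537, 140, (-234), 50, 238, (-534), 50, 55, (-249), (-35), 174, 261, (-154), 143, (-52), (-55), 12, 79, (-21), (-1), 0, (-3), 2, (-1), (-1), 5, 0, 0, 5, 1, (-4), (-1), 4, (-1), (-6), 0, (-2), 1, 5, 0, 3, 4])))) (.node (.node (.leaf ([0, 0, 0, 0, 0, 0, 0, 0, 0, 0, 0, 0, 0, 0, 0, 0, 0, 0, 0, 1])) (.leaf ([]))) (.leaf ([]))))) (.node (.node (.node (.node (.leaf ([])) (.leaf ([]))) (.node (.leaf ([])) (.leaf ([(-1), (-56), 24, 90, 83, 154, 51, (-59), (-21), (-36), (-10),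 (-92), 114, (-34), 24, 46, (-12), (-13), (-11), 2, 1, 0, 0, (-1), 0, 0, 0, 0, 1, 0, 0, 0, 0, 0, 0, 0, 0, 0, 1, (-1)])))) (.node (.node (.leaf ([348, 486, (-324), (-485), (-230), (-720), (-179), 212, 133, 184, 38, 409, (-729), 201, (-196), (-271), 105, 80, 33, (-3), (-8), 1, (-7), 0, 2, (-2), (-1), 0, 5, (-2), 0, 0, 0, (-2), (-6), 2, (-1), 1, 3, 1, 3, 2])) (.leaf ([321, 182, (-173), (-190), (-65), (-592), (-114), 162, (-220), 86, 133, 464, (-231), 173, (-44), (-152), 8, 77, 11, (-7), 1, 1, 7, 0, 1, 5, 0, 0, (-4), 2, (-3), 1, 3, (-1), (-1), 0, 1, (-5), (-4), 0, 1, 2]))) (.leaf ([(-98), (-70), 64, 83, (-117), 233, (-54), (-68), 86, 35, (-34), (-147), 96, (-66), 44, 31, (-17), (-36), (-2), 1, 1, 1, 0, 0, 0, (-1), 0, 0, (-1), 0, 1, (-1), (-1), 0, 0, 1, 0, 0, (-1), 0, (-1), (-1)])))) (.node (.node (.node (.leaf ([0, 0, 0, 0, 0, 0, 0, 0, 0, 0, 0, 0, 0, 0, 0, 0, 0, 0, 0, 1])) (.leaf ([(-217), (-178), 141, 250, (-112), 420, (-14), (-172), 173, (-2), (-17), (-463), 235, (-137), 86, 96, (-36), (-69),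 (-7), 5, 4, 0, 0, (-1), (-1), (-2), 0, 0, (-1), 0, 2, (-2), (-2), 2, 2, 0, (-1), 2, (-2), 0, (-2), (-2)]))) (.node (.leaf ([])) (.leaf ([(-66), (-118), 72, 65, 5, 190, 35, (-37), (-169), 27, (-8), 34, 224, 45, (-7), (-35), 1, 23, (-5), 0, 5, 1, 6, (-1), 2, 4, 0, 0, 0, 2, (-3), 2, 1, 0, 1, 1, 1, (-1), (-2), (-1), (-2), 1])))) (.node (.node (.leaf ([])) (.leaf ([11, 3, (-7), 1, (-9), (-32), 7, 10, (-6), 3, 5, (-1), (-14), 11, (-11), (-10), 4, 6, 2, 1, 0, 0, (-1)]))) (.leaf ([12, (-64), 23, 170, 136, 337, 101, (-107), 79, (-79), (-65), (-235), 153, (-88), 26, 101, (-7), (-36), (-20), 3, 0, (-2), (-3), 0, (-1), (-2), 0, 0, 4, (-1), 1, 0, (-1), 1, 1, (-1), (-1), 2, 4]))))))) (.node (.node (.node (.node (.node (.node (.leaf ([])) (.leaf ([]))) (.node (.leaf ([(-532), (-352), 320, 260, (-17), 856, 83, (-187), 138, (-70), (-169), (-463), 500, (-206), 119, 177, (-50), (-99), (-11), 5, 1, 2, 0, (-1), (-1), (-1), 0, 0, (-4), 0, 1, 1, (-1), 2, 3, (-1), 1, 2, (-5), 0, (-2), (-3)])) (.leaf ([1, 56,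 (-24), (-90), (-80), (-151), (-51), 57, 21, 36, 10, 92, (-114), 33, (-26), (-46), 12, 13, 11, (-1), (-1), 0, 0, 1, 0, 0, 0, 0, (-1), 0, 0, 0, 0, 0, 0, 0, 0, 0, (-1), 1])))) (.node (.node (.leaf ([])) (.leaf ([(-454), (-234), 247, 107, (-79), 445, 70, (-84), 69, (-26), (-106), (-246), 260, (-134), 5, 86, 16, (-51), (-11), 8, 2, 1, (-2), (-3), 1, (-2), 0, 0, 3, (-1), 0, 0, (-1), 0, (-2), 3, 1, 3, 0, (-1), (-2)]))) (.leaf ([])))) (.node (.node (.node (.leaf ([])) (.leaf ([]))) (.node (.leaf ([])) (.leaf ([(-170), (-167), 124, 173, 60, 294, 91, (-109), 13, (-60), (-19), (-266), 226, (-88), 47, 100, (-21), (-29), (-15), 3, 5, (-1), 0, (-1), 0, 0, 0, 0, 4, 0, 0, (-2), (-1), 1, 2, 1, (-1), 2, 2, 0, (-3), 2])))) (.node (.node (.leaf ([(-232), (-100), 119, 14, (-155), 190, (-42), (-35), 57, 45, (-45), (-100), 73, (-72), 27, 27, (-5), (-31), 3, 1, (-1), 2, (-1), 0, 1, (-1), 0, 0, (-1), 0, 1, (-1), (-1), (-1), (-1), 2, 1, 0, (-1), 0, (-1), (-1)])) (.leaf ([39, 12, (-16), 8, (-2), (-8), (-12), (-4),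 (-1), 4, 7, 9, (-4), 0, 3, 0, (-3), 1, 0, 1, 0, 0, 0, 0, (-1), (-1), 0, 0, 0, (-1)]))) (.leaf ([(-22), (-61), 36, 50, 60, 90, 19, (-27), (-53), (-23), (-5), 9, 96, (-26), 24, 36, (-11), (-5), (-13), 2, 0, 0, 1, (-1), 0, 1, 0, 0, 1, 0, (-1), 0, 1, 0, (-2), 1, 0, 1, (-3)]))))) (.node (.node (.node (.node (.leaf ([])) (.leaf ([0, 0, 0, 0, 0, 0, 0, 0, 0, 0, 0, 0, 0, 0, 0, 0, 0, 0, 0, 0, 0, 0, 0, 0, 0, 0, 0, 0, 0, 0, 0, 1]))) (.node (.leaf ([])) (.leaf ([468, 312, (-282), (-232), 168, (-925), (-9), 190, (-156), (-36), 210, 391, (-414), 188, (-99), (-108), 35, 103, 6, (-3), 4, (-4), 1, 2, (-2), 1, 0, 0, 6, 0, (-2), 0, 1, 1, 2, (-1), (-4), 0, 9, 0, 1, 5])))) (.node (.node (.leaf ([0, 0, 0, 0, 0, 0, 0, 0, 0, 0, 0, 0, 0, 0, 0, 0, 0, 0, 0, 1])) (.leaf ([]))) (.leaf ([])))) (.node (.node (.node (.leaf ([])) (.leaf ([]))) (.node (.leaf ([])) (.leaf ([(-363), (-48), 140, (-50), (-267), 323, (-73), (-29), 280, 47, (-125), (-242), 12, (-116), 29, 44, (-4), (-62), 26, 2, (-2), 5, (-4), 3, 1, (-5), 0,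 0, (-2), (-1), 6, 0, (-5), 1, 7, (-1), (-1), 0, 4, 0, (-3), (-3)])))) (.node (.node (.leaf ([6, 75, (-37), (-77), (-108), (-131), (-51), 38, 70, 42, 13, (-1), (-127), 24, (-21), (-45), 10, 3, 16, (-1), 0, 0, (-1), 1, 0, (-1), 0, 0, (-1), 0, 1, 0, (-1), 0, 2, (-1), 0, (-1), 1])) (.leaf ([(-251), (-179), 156, 134, (-12), 280, 30, (-97), 40, (-30), (-22), (-232), 198, (-107), 65, 98, (-30), (-41), (-9), 3, 3, 0, (-1), (-1), 0, (-1), 0, 0, 1, 0, 0, (-2), 0, 0, 0, 1, 0, 1, (-1), 0, (-2), 1]))) (.leaf ([])))))) (.node (.node (.node (.node (.node (.leaf ([])) (.leaf ([]))) (.node (.leaf ([])) (.leaf ([34, (-23), 1, 63, 11, 80, 15, (-30), (-13), (-5), (-6), (-38), 57, (-17), 6, 18, (-1), (-7), (-6), 0, 0, 0, 0, 0, 0, 0, 0, 0, 0, 0, 0, 0, 0, 0, 0, 0, 0, 0, 2])))) (.node (.node (.leaf ([])) (.leaf ([0, 0, 0, 0, 0, 0, 0, 0, 0, 0, 0, 0, 0, 0, 0, 0, 0, 0, 0, 0, 0, 0, 0, 0, 0, 1]))) (.leaf ([])))) (.node (.node (.node (.leaf ([])) (.leaf ([]))) (.node (.leaf ([])) (.leaf ([195, 188, (-141), (-270),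 78, (-477), (-10), 178, (-152), 20, 33, 459, (-277), 149, (-98), (-118), 42, 74, 11, (-4), (-4), 0, 0, 1, 1, 2, 0, 0, 1, 0, (-2), 2, 2, (-2), (-2), 0, 1, (-2), 2, 0, 2, 2])))) (.node (.node (.leaf ([32, 141, (-72), (-249), (-68), (-427), (-70), 150, (-46), 52, 43, 297, (-263), 106, (-61), (-108), 24, 45, 22, (-1), (-2), 1, 0, 0, 1, 1, 0, 0, (-3), 0, (-1), 1, 1, (-1), (-1), 0, 1, (-1), (-3), 0, 1])) (.leaf ([]))) (.leaf ([]))))) (.node (.node (.node (.node (.leaf ([])) (.leaf ([0, 0, 0, 0, 0, 0, 0, 0, 0, 0, 0, 0, 0, 0, 0, 0, 0, 0, 0, 1]))) (.node (.leaf ([(-26), (-31), 23, 5, 24, 41, 15, 0, (-39), (-5), (-14), 42, 37, (-2), (-4), 2, 3, 3, (-6), 0, 0, 0, 0, (-1), 1, 1, 0, 0, 1, 0, (-1), 0, 1, (-1), (-3), 1, 1, 0, (-1)])) (.leaf ([(-138), (-119), 94, 159, (-37), 330, 25, (-111), 95, (-19), (-39), (-291), 175, (-107), 59, 85, (-23), (-51), (-8), 3, 0, 0, (-1), 0, 0, (-2), 0, 0, (-2), 0, 1, (-1), (-2), 1, 2, (-1), 0, 1, (-1), 0, 0, (-2)])))) (.node (.node (.leaf ([])) (.leaf ([0, 0, 0, 0, 0,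 0, 0, 0, 0, 0, 0, 0, 0, 0, 0, 0, 0, 0, 0, 0, 0, 0, 0, 0, 0, 0, 0, 0, 0, 1]))) (.leaf ([0, 0, 0, 0, 0, 0, 0, 0, 0, 0, 0, 0, 0, 0, 0, 0, 0, 0, 0, 0, 0, 0, 1])))) (.node (.node (.node (.leaf ([])) (.leaf ([(-7), (-27), 13, 46, 30, 67, 17, (-27), 4, (-16), 0, (-55), 54, (-6), 11, 12, (-7), (-4), (-2), 0, 1, 0, 1, 0, (-1), 0, 0, 0, 0, 0, 0, 0, 0, 1, 1, (-1), (-1)]))) (.node (.leaf ([])) (.leaf ([1321, 1685, (-1129), (-1736), (-811), (-2796), (-799), 980, 305, 564, 149, 1997, (-2419), 704, (-525), (-890), 261, 265, 149, (-25), (-13), 8, (-8), 6, 2, (-6), 1, 0, (-4), (-5), 9, 4, (-2), (-5), 2, (-3), (-8), (-13), 4, 1, 8, 3])))) (.node (.node (.leaf ([])) (.leaf ([713, 691, (-505), (-819), (-3), (-1203), (-236), 492, (-250), 153, 41, 1292, (-835), 362, (-221), (-354), 98, 142, 57, (-10), (-12), 0, 1, 3, 3, 2, (-1), 0, (-10), 0, (-3), 8, 3, (-3), 1, (-3), 5, (-4), (-3), 1, 6, 2]))) (.leaf ([284, 87, (-129), (-42), 305, (-297), 101, 83, (-189), (-90), 45, 287, (-82), 91, (-54), (-7), 20, 53, (-15),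 (-2), 0, (-4), 2, 1, 0, 3, 0, 0, 2, 1, (-2), 2, 2, 0, (-1), (-1), 0, 0, 4, 0, 2, 1]))))))))

/-- data -/
def rank1 : Trie (ℕ) := .node (.node (.node (.node (.node (.node (.node (.node (.leaf 0) (.leaf 0)) (.node (.leaf 0) (.leaf 107))) (.node (.node (.leaf 0) (.leaf 40)) (.leaf 0))) (.node (.node (.node (.leaf 57) (.leaf 18)) (.node (.leaf 0) (.leaf 14))) (.node (.node (.leaf 0) (.leaf 28)) (.leaf 0)))) (.node (.node (.node (.node (.leaf 0) (.leaf 0)) (.node (.leaf 88) (.leaf 82))) (.node (.node (.leaf 0) (.leaf 0)) (.leaf 0))) (.node (.node (.node (.leaf 0) (.leaf 19)) (.node (.leaf 0) (.leaf 91))) (.node (.node (.leaf 0) (.leaf 34)) (.leaf 67))))) (.node (.node (.node (.node (.node (.leaf 0) (.leaf 0)) (.node (.leaf 0) (.leaf 49))) (.node (.node (.leaf 0) (.leaf 24)) (.leaf 0))) (.node (.node (.node (.leaf 0) (.leaf 100)) (.node (.leaf 0) (.leaf 15))) (.node (.node (.leaf 0) (.leaf 90)) (.leaf 0)))) (.node (.node (.node (.node (.leaf 0) (.leaf 75)) (.node (.leaf 0) (.leaf 70))) (.node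 (.node (.leaf 0) (.leaf 23)) (.leaf 61))) (.node (.node (.node (.leaf 0) (.leaf 0)) (.node (.leaf 0) (.leaf 101))) (.node (.node (.leaf 93) (.leaf 76)) (.leaf 106)))))) (.node (.node (.node (.node (.node (.node (.leaf 0) (.leaf 0)) (.node (.leaf 99) (.leaf 95))) (.node (.node (.leaf 0) (.leaf 25)) (.leaf 22))) (.node (.node (.node (.leaf 0) (.leaf 94)) (.node (.leaf 0) (.leaf 0))) (.node (.node (.leaf 64) (.leaf 98)) (.leaf 0)))) (.node (.node (.node (.node (.leaf 0) (.leaf 0)) (.node (.leaf 78) (.leaf 83))) (.node (.node (.leaf 43) (.leaf 79)) (.leaf 41))) (.node (.node (.node (.leaf 0) (.leaf 102)) (.node (.leaf 0) (.leaf 42))) (.node (.node (.leaf 54) (.leaf 13)) (.leaf 65))))) (.node (.node (.node (.node (.node (.leaf 0) (.leaf 0)) (.node (.leaf 0) (.leaf 0))) (.node (.node (.leaf 0) (.leaf 0)) (.leaf 0))) (.node (.node (.node (.leaf 0) (.leaf 51)) (.node (.leaf 0) (.leaf 0))) (.node (.node (.leaf 0) (.leaf 33)) (.leaf 89)))) (.node (.node (.node (.node (.leaf 0) (.leaf 108)) (.node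 (.leaf 12) (.leaf 74))) (.node (.node (.leaf 0) (.leaf 87)) (.leaf 0))) (.node (.node (.node (.leaf 11) (.leaf 96)) (.node (.leaf 0) (.leaf 111))) (.node (.node (.leaf 97) (.leaf 53)) (.leaf 0))))))) (.node (.node (.node (.node (.node (.node (.node (.leaf 0) (.leaf 62)) (.node (.leaf 5) (.leaf 110))) (.node (.node (.leaf 0) (.leaf 20)) (.leaf 7))) (.node (.node (.node (.leaf 0) (.leaf 0)) (.node (.leaf 77) (.leaf 50))) (.node (.node (.leaf 0) (.leaf 31)) (.leaf 109)))) (.node (.node (.node (.node (.leaf 0) (.leaf 0)) (.node (.leaf 69) (.leaf 10))) (.node (.node (.leaf 0) (.leaf 59)) (.leaf 68))) (.node (.node (.node (.leaf 1) (.leaf 36)) (.node (.leaf 0) (.leaf 86))) (.node (.node (.leaf 0) (.leaf 44)) (.leaf 8))))) (.node (.node (.node (.node (.node (.leaf 0) (.leaf 0)) (.node (.leaf 0) (.leaf 30))) (.node (.node (.leaf 0) (.leaf 37)) (.leaf 0))) (.node (.node (.node (.leaf 0) (.leaf 32)) (.node (.leaf 0) (.leaf 85))) (.node (.node (.leaf 6) (.leaf 0)) (.leaf 0)))) (.node (.node (.node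 (.node (.leaf 0) (.leaf 0)) (.node (.leaf 0) (.leaf 39))) (.node (.node (.leaf 105) (.leaf 84)) (.leaf 56))) (.node (.node (.node (.leaf 3) (.leaf 55)) (.node (.leaf 0) (.leaf 92))) (.node (.node (.leaf 0) (.leaf 17)) (.leaf 72)))))) (.node (.node (.node (.node (.node (.node (.leaf 0) (.leaf 0)) (.node (.leaf 80) (.leaf 38))) (.node (.node (.leaf 0) (.leaf 103)) (.leaf 0))) (.node (.node (.node (.leaf 0) (.leaf 0)) (.node (.leaf 0) (.leaf 81))) (.node (.node (.leaf 66) (.leaf 27)) (.leaf 47)))) (.node (.node (.node (.node (.leaf 0) (.leaf 29)) (.node (.leaf 0) (.leaf 104))) (.node (.node (.leaf 4) (.leaf 0)) (.leaf 0))) (.node (.node (.node (.leaf 0) (.leaf 0)) (.node (.leaf 2) (.leaf 73))) (.node (.node (.leaf 46) (.leaf 52)) (.leaf 0))))) (.node (.node (.node (.node (.node (.leaf 0) (.leaf 0)) (.node (.leaf 0) (.leaf 48))) (.node (.node (.leaf 0) (.leaf 21)) (.leaf 0))) (.node (.node (.node (.leaf 0) (.leaf 0)) (.node (.leaf 0) (.leaf 63))) (.node (.node (.leaf 60) (.leaf 0)) (.leaf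 0)))) (.node (.node (.node (.node (.leaf 0) (.leaf 9)) (.node (.leaf 45) (.leaf 58))) (.node (.node (.leaf 0) (.leaf 26)) (.leaf 16))) (.node (.node (.node (.leaf 0) (.leaf 35)) (.node (.leaf 0) (.leaf 112))) (.node (.node (.leaf 0) (.leaf 113)) (.leaf 71)))))))

/-- data -/
def tree1 : Trie (ℕ × ℕ) := .node (.node (.node (.node (.node (.node (.node (.leaf (0, 0)) (.leaf (43, 1))) (.node (.leaf (17, 1)) (.leaf (68, 1)))) (.node (.node (.leaf (7, 1)) (.leaf (55, 0))) (.leaf (30, 1)))) (.node (.node (.node (.leaf (3, 1)) (.leaf (48, 0))) (.node (.leaf (23, 0)) (.leaf (83, 0)))) (.node (.node (.leaf (12, 0)) (.leaf (64, 0))) (.leaf (38, 0))))) (.node (.node (.node (.node (.leaf (1, 1)) (.leaf (46, 0))) (.node (.leaf (19, 1)) (.leaf (73, 1)))) (.node (.node (.leaf (10, 0)) (.leaf (58, 1))) (.leaf (34, 1)))) (.node (.node (.node (.leaf (5, 1)) (.leaf (51, 0))) (.node (.leaf (26, 0)) (.leaf (91, 1)))) (.node (.node (.leaf (15, 1)) (.leaf (66, 1))) (.leaf (41, 1)))))) (.node (.node (.node (.node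 (.node (.leaf (0, 1)) (.leaf (44, 1))) (.node (.leaf (18, 1)) (.leaf (70, 1)))) (.node (.node (.leaf (9, 0)) (.leaf (57, 0))) (.leaf (32, 0)))) (.node (.node (.node (.leaf (4, 1)) (.leaf (50, 0))) (.node (.leaf (24, 0)) (.leaf (85, 1)))) (.node (.node (.leaf (13, 1)) (.leaf (65, 1))) (.leaf (40, 0))))) (.node (.node (.node (.node (.leaf (2, 1)) (.leaf (47, 0))) (.node (.leaf (20, 1)) (.leaf (77, 1)))) (.node (.node (.leaf (11, 0)) (.leaf (61, 1))) (.leaf (35, 1)))) (.node (.node (.node (.leaf (6, 1)) (.leaf (52, 0))) (.node (.leaf (28, 0)) (.leaf (105, 0)))) (.node (.node (.leaf (16, 1)) (.leaf (67, 1))) (.leaf (42, 1))))))) (.node (.node (.node (.node (.node (.node (.leaf (0, 0)) (.leaf (44, 0))) (.node (.leaf (18, 0)) (.leaf (69, 0)))) (.node (.node (.leaf (8, 1)) (.leaf (56, 0))) (.leaf (31, 1)))) (.node (.node (.node (.leaf (4, 0)) (.leaf (49, 1))) (.node (.leaf (23, 1)) (.leaf (84, 0)))) (.node (.node (.leaf (13, 0)) (.leaf (65, 0))) (.leaf (38, 1))))) (.node (.node (.node (.node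 (.leaf (2, 0)) (.leaf (46, 1))) (.node (.leaf (20, 0)) (.leaf (75, 1)))) (.node (.node (.leaf (10, 1)) (.leaf (59, 1))) (.leaf (35, 0)))) (.node (.node (.node (.leaf (6, 0)) (.leaf (51, 1))) (.node (.leaf (27, 0)) (.leaf (99, 0)))) (.node (.node (.leaf (16, 0)) (.leaf (67, 0))) (.leaf (42, 0)))))) (.node (.node (.node (.node (.node (.leaf (1, 0)) (.leaf (45, 0))) (.node (.leaf (19, 0)) (.leaf (72, 1)))) (.node (.node (.leaf (9, 1)) (.leaf (58, 0))) (.leaf (34, 0)))) (.node (.node (.node (.leaf (5, 0)) (.leaf (50, 1))) (.node (.leaf (24, 1)) (.leaf (90, 1)))) (.node (.node (.leaf (14, 0)) (.leaf (66, 0))) (.leaf (41, 0))))) (.node (.node (.node (.node (.leaf (3, 0)) (.leaf (47, 1))) (.node (.leaf (22, 0)) (.leaf (78, 0)))) (.node (.node (.leaf (11, 1)) (.leaf (63, 0))) (.leaf (37, 1)))) (.node (.node (.node (.leaf (7, 0)) (.leaf (53, 1))) (.node (.leaf (28, 1)) (.leaf (107, 0)))) (.node (.node (.leaf (17, 0)) (.leaf (68, 0))) (.leaf (43, 0)))))))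

/-- data -/
def cert1 : Trie (ℕ × ℕ × ℕ) := .node (.node (.node (.node (.node (.node (.node (.leaf (0, 0, 3)) (.leaf (3, 8, 4))) (.node (.leaf (17, 0, 7)) (.leaf (20, 100, 1)))) (.node (.node (.leaf (2, 37, 3)) (.leaf (20, 6, 5))) (.node (.leaf (23, 44, 6)) (.leaf (23, 56, 10))))) (.node (.node (.node (.leaf (2, 15, 3)) (.leaf (7, 99, 1))) (.node (.leaf (3, 19, 2)) (.leaf (22, 11, 1)))) (.node (.node (.leaf (3, 38, 2)) (.leaf (20, 59, 22))) (.leaf (20, 50, 8))))) (.node (.node (.node (.node (.leaf (2, 3, 3)) (.leaf (4, 52, 6))) (.node (.leaf (21, 45, 7)) (.leaf (20, 108, 1)))) (.node (.node (.leaf (8, 0, 7)) (.leaf (20, 29, 5))) (.leaf (3, 28, 3)))) (.node (.node (.node (.leaf (3, 14, 4)) (.leaf (19, 47, 17))) (.node (.leaf (2, 39, 0)) (.leaf (23, 12, 8)))) (.node (.node (.leaf (14, 0, 7)) (.leaf (20, 86, 6))) (.leaf (24, 38, 15)))))) (.node (.node (.node (.node (.node (.leaf (2, 0, 3)) (.leaf (4, 3, 13))) (.node (.leaf (19, 92, 21)) (.leaf (20, 104, 11)))) (.node (.node (.leaf (3, 34,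 2)) (.leaf (20, 13, 8))) (.leaf (24, 28, 19)))) (.node (.node (.node (.leaf (3, 0, 4)) (.leaf (19, 15, 3))) (.node (.leaf (23, 21, 14)) (.leaf (22, 46, 2)))) (.node (.node (.leaf (2, 80, 1)) (.leaf (20, 66, 20))) (.leaf (23, 14, 10))))) (.node (.node (.node (.node (.leaf (2, 7, 3)) (.leaf (4, 83, 12))) (.node (.leaf (2, 51, 2)) (.leaf (21, 1, 11)))) (.node (.node (.leaf (10, 0, 7)) (.leaf (20, 45, 6))) (.leaf (19, 20, 17)))) (.node (.node (.node (.leaf (4, 23, 4)) (.leaf (19, 69, 11))) (.node (.leaf (21, 20, 11)) (.leaf (23, 34, 12)))) (.node (.node (.leaf (15, 0, 7)) (.leaf (20, 88, 14))) (.leaf (2, 65, 2))))))) (.node (.node (.node (.node (.node (.node (.leaf (1, 0, 5)) (.leaf (4, 0, 5))) (.node (.leaf (18, 0, 7)) (.leaf (20, 102, 11)))) (.node (.node (.leaf (6, 0, 7)) (.leaf (20, 8, 3))) (.leaf (24, 2, 11)))) (.node (.node (.node (.leaf (2, 31, 3)) (.leaf (19, 1, 5))) (.node (.leaf (24, 80, 9)) (.leaf (22, 14, 4)))) (.node (.node (.leaf (12, 0, 7)) (.leaf (20, 65, 1))) (.leaf (23, 13,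 5))))) (.node (.node (.node (.node (.leaf (2, 5, 3)) (.leaf (4, 77, 1))) (.node (.leaf (22, 7, 5)) (.leaf (21, 0, 3)))) (.node (.node (.leaf (9, 0, 6)) (.leaf (20, 43, 12))) (.leaf (4, 4, 10)))) (.node (.node (.node (.leaf (3, 23, 4)) (.leaf (19, 63, 16))) (.node (.leaf (20, 92, 7)) (.leaf (23, 32, 5)))) (.node (.node (.leaf (2, 46, 3)) (.leaf (20, 87, 10))) (.leaf (2, 24, 2)))))) (.node (.node (.node (.node (.node (.leaf (2, 1, 3)) (.leaf (4, 30, 6))) (.node (.leaf (20, 76, 0)) (.leaf (20, 105, 20)))) (.node (.node (.leaf (7, 0, 7)) (.leaf (20, 14, 15))) (.leaf (2, 53, 2)))) (.node (.node (.node (.leaf (3, 2, 4)) (.leaf (19, 32, 16))) (.node (.leaf (24, 93, 2)) (.leaf (23, 10, 11)))) (.node (.node (.leaf (13, 0, 7)) (.leaf (20, 72, 4))) (.leaf (24, 24, 0))))) (.node (.node (.node (.node (.leaf (2, 11, 3)) (.leaf (5, 27, 32))) (.node (.leaf (23, 18, 12)) (.leaf (21, 12, 4)))) (.node (.node (.leaf (11, 0, 7)) (.leaf (20, 54, 8))) (.leaf (20, 4, 18)))) (.node (.node (.node (.leaf (5, 0,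 6)) (.leaf (19, 94, 15))) (.node (.leaf (21, 48, 2)) (.leaf (23, 43, 8)))) (.node (.node (.leaf (16, 0, 7)) (.leaf (20, 97, 11))) (.leaf (3, 6, 2)))))))

/-- data -/
def pot1 : Trie (Vec) := .node (.node (.node (.node (.node (.node (.node (.leaf ([])) (.leaf ([8, (-2)]))) (.node (.leaf ([7, (-2)])) (.leaf ([14, (-6)])))) (.node (.node (.leaf ([7, (-3)])) (.leaf ([11, (-4)]))) (.leaf ([9, (-3)])))) (.node (.node (.node (.leaf ([5, (-2)])) (.leaf ([11, (-4)]))) (.node (.leaf ([8, (-3)])) (.leaf ([14, (-6)])))) (.node (.node (.leaf ([6, (-2)])) (.leaf ([10, (-3)]))) (.leaf ([9, (-3)]))))) (.node (.node (.node (.node (.leaf ([3, (-1)])) (.leaf ([13, (-6)]))) (.node (.leaf ([7, (-2)])) (.leaf ([11, (-3)])))) (.node (.node (.leaf ([6, (-2)])) (.leaf ([11, (-4)]))) (.leaf ([9, (-3)])))) (.node (.node (.node (.leaf ([4, (-1)])) (.leaf ([12, (-5)]))) (.node (.leaf ([7, (-2)])) (.leaf ([11, (-3)])))) (.node (.node (.leaf ([9, (-4)])) (.leaf ([9, (-2)]))) (.leaf ([8, (-2)])))))) (.node (.node (.node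 (.node (.node (.leaf ([1])) (.leaf ([8, (-2)]))) (.node (.leaf ([8, (-3)])) (.leaf ([13, (-5)])))) (.node (.node (.leaf ([7, (-3)])) (.leaf ([10, (-3)]))) (.leaf ([9, (-3)])))) (.node (.node (.node (.leaf ([4, (-1)])) (.leaf ([11, (-4)]))) (.node (.leaf ([8, (-3)])) (.leaf ([11, (-3)])))) (.node (.node (.leaf ([5, (-1)])) (.leaf ([10, (-3)]))) (.leaf ([10, (-4)]))))) (.node (.node (.node (.node (.leaf ([2])) (.leaf ([12, (-5)]))) (.node (.leaf ([7, (-2)])) (.leaf ([12, (-4)])))) (.node (.node (.leaf ([7, (-3)])) (.leaf ([11, (-4)]))) (.leaf ([9, (-3)])))) (.node (.node (.node (.leaf ([3])) (.leaf ([11, (-4)]))) (.node (.leaf ([11, (-5)])) (.leaf ([15, (-6)])))) (.node (.node (.leaf ([8, (-3)])) (.leaf ([10, (-3)]))) (.leaf ([9, (-3)]))))))) (.node (.node (.node (.node (.node (.node (.leaf ([2, (-1)])) (.leaf ([9, (-3)]))) (.node (.leaf ([9, (-4)])) (.leaf ([14, (-6)])))) (.node (.node (.leaf ([6, (-2)])) (.leaf ([11, (-4)]))) (.leaf ([9, (-3)])))) (.node (.node (.node (.leaf ([5, (-2)]))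 (.leaf ([10, (-3)]))) (.node (.leaf ([7, (-2)])) (.leaf ([13, (-5)])))) (.node (.node (.leaf ([6, (-2)])) (.leaf ([11, (-4)]))) (.leaf ([8, (-2)]))))) (.node (.node (.node (.node (.leaf ([3, (-1)])) (.leaf ([12, (-5)]))) (.node (.leaf ([8, (-3)])) (.leaf ([11, (-3)])))) (.node (.node (.leaf ([5, (-1)])) (.leaf ([10, (-3)]))) (.leaf ([10, (-4)])))) (.node (.node (.node (.leaf ([4, (-1)])) (.leaf ([11, (-4)]))) (.node (.leaf ([7, (-2)])) (.leaf ([14, (-5)])))) (.node (.node (.leaf ([9, (-4)])) (.leaf ([11, (-4)]))) (.leaf ([10, (-4)])))))) (.node (.node (.node (.node (.node (.leaf ([4, (-2)])) (.leaf ([9, (-3)]))) (.node (.leaf ([8, (-3)])) (.leaf ([12, (-4)])))) (.node (.node (.leaf ([6, (-2)])) (.leaf ([12, (-5)]))) (.leaf ([10, (-4)])))) (.node (.node (.node (.leaf ([5, (-2)])) (.leaf ([10, (-3)]))) (.node (.leaf ([7, (-2)])) (.leaf ([11, (-3)])))) (.node (.node (.leaf ([5, (-1)])) (.leaf ([10, (-3)]))) (.leaf ([9, (-3)]))))) (.node (.node (.node (.node (.leaf ([6, (-3)])) (.leaf ([11,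 (-4)]))) (.node (.leaf ([9, (-4)])) (.leaf ([13, (-5)])))) (.node (.node (.leaf ([6, (-2)])) (.leaf ([11, (-4)]))) (.leaf ([9, (-3)])))) (.node (.node (.node (.leaf ([8, (-4)])) (.leaf ([11, (-4)]))) (.node (.leaf ([10, (-4)])) (.leaf ([13, (-4)])))) (.node (.node (.leaf ([8, (-3)])) (.leaf ([15, (-7)]))) (.leaf ([9, (-3)])))))))

/-- the table -/
def table1 : Table where
  size := 112
  ngen := 2
  next g x := next1.get (2 * g + x)
  prev g x := prev1.get (2 * g + x)
  lab g x := lab1.get (2 * g + x)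
  val g x := val1.get (2 * g + x)
  rank g x := rank1.get (2 * g + x)
  tree g := tree1.get g
  cert j := cert1.get j
  nded := 113
  rels := [⟨[(1, true), (0, true), (1, true), (1, true), (0, false), (1, false), (1, false)], [(0, true)], []⟩,
    ⟨[(1, true), (1, true), (1, true), (0, true), (0, true), (1, true), (0, false), (0, false), (1, false), (1, false), (1, false)], [(1, true)], []⟩,
    ⟨[(1, true), (1, true), (1, true), (1, true)], [], [0, 0, 0, 0, 0, 0, 0, 0, 0, 0, 0, 0, 0, 0, 0, 0, 0, 0, 0, 1]⟩,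
    ⟨[(0, true), (0, true), (0, true), (0, true), (0, true)], [], [0, 0, 0, 0, 0, 0, 0, 0, 0, 0, 0, 0, 0, 0, 0, 0, 0, 0, 0, 0, 1]⟩,
    ⟨[(1, true), (0, true), (1, true), (1, true), (0, true), (1, true), (1, true), (0, true), (1, false), (1, false), (0, true), (1, false), (1, false), (0, true), (1, true)], [], [0, 0, 0, 0, 0, 0, 0, 0, 0, 0, 0, 0, 0, 0, 0, 0, 0, 0, 0, 0, 0, 1]⟩,
    ⟨[(0, true), (1, true), (1, true), (0, true), (0, true), (1, true), (1, true), (0, false), (1, false), (1, false), (0, false), (0, false), (1, false), (0, true), (1, false), (1, false), (0, false), (1, true), (0, true), (1, false), (1, false), (0, false), (1, true), (1, true), (0, true), (0, true), (1, false), (1, false), (0, false), (0, false), (1, false), (0, true), (1, false), (1, false), (0, false), (1, false)], [], [0, 0, 0, 0, 0, 0, 0, 0, 0, 0, 0, 0, 0, 0, 0, 0, 0, 0, 0, 0, 0, 0, 1]⟩,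
    ⟨[(0, true), (0, true), (0, true), (1, true), (1, true), (1, true), (0, true), (0, true), (1, false), (0, false), (0, false), (1, false), (0, false), (1, true), (1, true), (0, true), (1, false), (1, false), (0, false), (1, true), (0, true), (1, false), (1, false), (0, false), (1, true), (1, true), (0, true), (0, true), (1, false), (0, false), (0, false), (1, false), (0, true), (1, false), (1, false), (0, false), (1, true), (0, true), (1, false), (1, false), (0, false), (1, true), (1, true), (0, true), (0, true), (1, false), (1, false), (0, false), (0, false), (1, false), (0, true), (1, false), (1, false), (0, false), (1, false)], [], [0, 0, 0, 0, 0, 0, 0, 0, 0, 0, 0, 0, 0, 0, 0, 0, 0, 0, 0, 0, 0, 0, 0, 1]⟩,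
    ⟨[(0, true), (1, true), (1, true), (0, true), (0, true), (1, true), (0, true), (1, true), (0, false), (0, false), (0, false), (1, false), (0, false), (1, true), (0, true), (0, true), (1, false), (0, false), (0, false), (1, false), (1, false), (0, true), (1, true), (1, true), (0, false), (1, true), (0, true), (0, true), (1, false), (1, false), (0, false), (0, false), (1, false), (1, false), (0, true), (1, true), (1, true), (0, false), (1, true), (0, true), (0, true), (1, true), (0, false), (0, false), (1, false), (0, true), (1, false), (1, false), (0, false), (1, true), (0, true), (1, false), (1, false), (0, false), (1, false)], [], [0, 0, 0, 0, 0, 0, 0, 0, 0, 0, 0, 0, 0, 0, 0, 0, 0, 0, 0, 0, 0, 0, 0, 0, 1]⟩,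
    ⟨[(1, true), (0, true), (0, true), (1, true), (0, true), (0, true), (0, true), (1, true), (0, false), (1, false), (0, false), (0, false), (1, false), (1, false), (0, false), (1, true), (1, true), (1, true), (0, true), (0, true), (1, true), (0, false), (0, false), (1, false), (1, false), (0, true), (1, true), (1, true), (0, false), (1, true), (0, true), (0, true), (1, true), (0, false), (0, false), (1, false), (0, true), (1, false), (1, false), (0, false), (1, true), (1, true), (0, true), (0, true), (1, false), (0, false), (0, false), (1, false), (0, true), (1, false), (1, false), (0, false), (1, true), (1, true), (0, true), (0, true), (1, true), (0, false), (0, false), (1, false), (1, false), (0, true), (1, true), (1, true), (0, false), (1, false), (1, false)], [], [0, 0, 0, 0, 0, 0, 0, 0, 0, 0, 0, 0, 0, 0, 0, 0, 0, 0, 0, 0, 0, 0, 0, 0, 0, 1]⟩,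
    ⟨[(0, true), (0, true), (1, true), (1, true), (0, true), (1, true), (0, true), (1, false), (1, false), (1, false), (0, false), (1, true), (1, true), (0, false), (1, true), (0, true), (0, true), (1, true), (0, false), (0, false), (1, false), (1, false), (0, true), (1, true), (1, true), (0, false), (1, true), (0, true), (0, true), (1, false), (0, false), (0, false), (1, false), (0, true), (1, false), (1, false), (0, false), (1, true), (1, true), (0, true), (0, true), (1, false), (0, false), (0, false), (1, false), (0, true), (1, false), (1, false), (0, false), (1, true), (1, true), (0, true), (0, true), (1, true), (0, false), (0, false), (1, false), (0, true), (1, false), (1, false), (0, false), (1, false)], [], [0, 0, 0, 0, 0, 0, 0, 0, 0, 0, 0, 0, 0, 0, 0, 0, 0, 0, 0, 0, 0, 0, 0, 0, 0, 0, 1]⟩,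
    ⟨[(1, true), (0, true), (1, true), (0, true), (0, true), (0, true), (1, true), (0, true), (1, false), (1, false), (0, false), (1, false), (1, false), (0, false), (1, true), (1, true), (0, false), (1, true), (0, true), (0, true), (1, false), (0, false), (0, false), (1, false), (0, true), (1, false), (1, false), (0, false), (1, true), (0, true), (1, false), (1, false), (0, false), (1, true), (1, true), (0, true), (0, true), (1, true), (0, false), (0, false), (1, false), (1, false), (0, true), (1, true), (1, true), (0, false), (1, true), (0, true), (0, true), (1, false), (1, false), (0, false), (0, false), (1, false), (1, false), (1, false)], [], [0, 0, 0, 0, 0, 0, 0, 0, 0, 0, 0, 0, 0, 0, 0, 0, 0, 0, 0, 0, 0, 0, 0, 0, 0, 0, 0, 1]⟩,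
    ⟨[(0, true), (1, true), (1, true), (0, true), (1, true), (1, true), (0, true), (0, true), (1, false), (0, false), (1, false), (1, false), (0, false), (1, true), (1, true), (1, true), (0, true), (0, true), (1, false), (0, false), (0, false), (1, false), (0, true), (1, false), (1, false), (0, false), (1, true), (1, true), (0, true), (0, true), (1, true), (0, false), (0, false), (1, false), (1, false), (0, true), (1, true), (1, true), (0, false), (1, true), (0, true), (0, true), (1, false), (0, false), (0, false), (1, false), (0, true), (1, false), (1, false), (0, false), (1, true), (1, true), (0, true), (0, true), (1, true), (0, false), (0, false), (1, false), (0, true), (1, false), (1, false), (0, false), (1, true), (1, true), (0, true), (0, true), (1, false), (0, false), (0, false), (1, false), (1, false), (1, false)], [], [0, 0, 0, 0, 0, 0, 0, 0, 0, 0, 0, 0, 0, 0, 0, 0, 0, 0, 0, 0, 0, 0, 0, 0, 0, 0, 0, 0, 1]⟩,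
    ⟨[(1, true), (0, true), (1, true), (0, true), (1, true), (0, true), (0, true), (1, true), (0, false), (0, false), (0, false), (1, false), (0, false), (0, false), (1, true), (0, true), (1, false), (1, false), (0, false), (1, true), (1, true), (0, true), (0, true), (1, false), (0, false), (0, false), (1, false), (0, true), (1, false), (1, false), (0, false), (1, true), (1, true), (0, true), (0, true), (1, true), (0, false), (0, false), (1, false), (0, true), (1, false), (1, false), (0, false), (1, true), (1, true), (0, true), (0, true), (1, false), (0, false), (0, false), (1, false), (0, true), (1, false), (1, false), (0, false), (1, true), (1, true), (0, true), (0, true), (1, false), (0, false), (0, false), (1, false), (1, false), (0, true), (1, true), (1, true), (0, false), (1, false), (1, false)], [], [0, 0, 0, 0, 0, 0, 0, 0, 0, 0, 0, 0, 0, 0, 0, 0, 0, 0, 0, 0, 0, 0, 0, 0, 0, 0, 0, 0, 0, 1]⟩,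
    ⟨[(1, true), (0, true), (1, true), (0, true), (1, true), (1, true), (0, true), (0, true), (1, false), (1, false), (0, false), (1, false), (0, false), (1, false), (0, true), (1, true), (1, true), (0, false), (1, true), (0, true), (0, true), (1, true), (0, false), (0, false), (1, false), (0, true), (1, false), (1, false), (0, false), (1, true), (0, true), (1, false), (1, false), (0, false), (1, true), (1, true), (0, true), (0, true), (1, false), (0, false), (0, false), (1, false), (0, true), (1, false), (1, false), (0, false), (1, true), (1, true), (0, true), (0, true), (1, true), (0, false), (0, false), (1, false), (1, false), (0, true), (1, true), (1, true), (0, false), (1, true), (0, true), (0, true), (1, true), (0, false), (0, false), (1, false), (1, false), (1, false)], [], [0, 0, 0, 0, 0, 0, 0, 0, 0, 0, 0, 0, 0, 0, 0, 0, 0, 0, 0, 0, 0, 0, 0, 0, 0, 0, 0, 0, 0, 0, 1]⟩,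
    ⟨[(0, true), (0, true), (0, true), (0, true), (1, true), (0, true), (1, true), (1, true), (0, false), (1, false), (1, false), (0, false), (0, false), (0, false), (0, false), (1, true), (1, true), (1, true), (0, true), (0, true), (1, true), (0, false), (0, false), (1, false), (1, false), (0, true), (1, true), (1, true), (0, false), (1, true), (0, true), (0, true), (1, false), (0, false), (0, false), (1, false), (0, true), (1, false), (1, false), (0, false), (1, true), (0, true), (1, false), (1, false), (0, false), (1, true), (1, true), (0, true), (0, true), (1, false), (0, false), (0, false), (1, false), (0, true), (1, false), (1, false), (0, false), (1, true), (1, true), (0, true), (0, true), (1, false), (1, false), (0, false), (0, false), (1, false), (1, false), (1, false)], [], [0, 0, 0, 0, 0, 0, 0, 0, 0, 0, 0, 0, 0, 0, 0, 0, 0, 0, 0, 0, 0, 0, 0, 0, 0, 0, 0, 0, 0, 0, 0, 1]⟩,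
    ⟨[(1, true), (0, true), (1, true), (0, true), (1, true), (1, true), (0, true), (1, true), (0, false), (1, false), (0, false), (0, false), (1, false), (0, false), (0, false), (1, true), (1, true), (0, true), (0, true), (1, true), (0, false), (0, false), (1, false), (1, false), (0, true), (1, true), (1, true), (0, false), (1, true), (0, true), (0, true), (1, false), (0, false), (0, false), (1, false), (0, true), (1, false), (1, false), (0, false), (1, true), (1, true), (0, true), (0, true), (1, true), (0, false), (0, false), (1, false), (1, false), (0, true), (1, true), (1, true), (0, false), (1, true), (0, true), (0, true), (1, false), (1, false), (0, false), (0, false), (1, false), (1, false), (0, true), (1, true), (1, true), (0, false), (1, false), (1, false)], [], [0, 0, 0, 0, 0, 0, 0, 0, 0, 0, 0, 0, 0, 0, 0, 0, 0, 0, 0, 0, 0, 0, 0, 0, 0, 0, 0, 0, 0, 0, 0, 0, 1]⟩,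
    ⟨[(0, true), (0, true), (1, true), (1, true), (1, true), (0, true), (0, true), (1, true), (0, false), (1, false), (0, false), (1, false), (1, false), (1, false), (0, false), (1, true), (0, true), (1, false), (1, false), (0, false), (1, true), (1, true), (0, true), (0, true), (1, false), (0, false), (0, false), (1, false), (0, true), (1, false), (1, false), (0, false), (1, true), (1, true), (0, true), (0, true), (1, true), (0, false), (0, false), (1, false), (1, false), (0, true), (1, true), (1, true), (0, false), (1, true), (0, true), (0, true), (1, false), (0, false), (0, false), (1, false), (0, true), (1, false), (1, false), (0, false), (1, true), (1, true), (0, true), (0, true), (1, true), (0, false), (0, false), (1, false), (0, true), (1, false), (1, false), (0, false), (1, false)], [], [0, 0, 0, 0, 0, 0, 0, 0, 0, 0, 0, 0, 0, 0, 0, 0, 0, 0, 0, 0, 0, 0, 0, 0, 0, 0, 0, 0, 0, 0, 0, 0, 0, 1]⟩,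
    ⟨[(1, true), (1, true), (0, true), (1, true), (0, true), (1, true), (0, true), (0, true), (1, false), (1, false), (1, false), (0, false), (0, false), (0, false), (0, false), (1, true), (0, true), (1, true), (1, true), (0, false), (1, true), (0, true), (0, true), (1, false), (0, false), (0, false), (1, false), (0, true), (1, false), (1, false), (0, false), (1, true), (0, true), (1, false), (1, false), (0, false), (1, true), (1, true), (0, true), (0, true), (1, true), (0, false), (0, false), (1, false), (1, false), (0, true), (1, true), (1, true), (0, false), (1, true), (0, true), (0, true), (1, false), (0, false), (0, false), (1, false), (1, false), (0, true), (1, true), (1, true), (0, false), (1, true), (0, true), (0, true), (1, true), (0, false), (0, false), (1, false), (1, false), (1, false)], [], [0, 0, 0, 0, 0, 0, 0, 0, 0, 0, 0, 0, 0, 0, 0, 0, 0, 0, 0, 0, 0, 0, 0, 0, 0, 0, 0, 0, 0, 0, 0, 0, 0, 0, 1]⟩,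
    ⟨[(1, true), (1, true), (0, true), (1, true), (0, true), (1, true), (1, true), (0, true), (1, false), (0, false), (0, false), (1, false), (0, false), (1, false), (0, false), (1, true), (0, true), (1, true), (1, true), (0, false), (1, true), (0, true), (0, true), (1, true), (0, false), (0, false), (1, false), (0, true), (1, false), (1, false), (0, false), (1, true), (1, true), (0, true), (0, true), (1, false), (0, false), (0, false), (1, false), (0, true), (1, false), (1, false), (0, false), (1, true), (1, true), (0, true), (0, true), (1, true), (0, false), (0, false), (1, false), (1, false), (0, true), (1, true), (1, true), (0, false), (1, true), (0, true), (0, true), (1, true), (0, false), (0, false), (1, false), (0, true), (1, false), (1, false), (0, false), (1, false)], [], [0, 0, 0, 0, 0, 0, 0, 0, 0, 0, 0, 0, 0, 0, 0, 0, 0, 0, 0, 0, 0, 0, 0, 0, 0, 0, 0, 0, 0, 0, 0, 0, 0, 0, 0, 1]⟩,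
    ⟨[(1, false), (1, false), (0, true), (0, true), (1, false), (0, false), (1, true), (0, true), (0, true), (1, true), (0, true), (0, true), (1, false), (0, true), (0, true), (1, true), (0, true), (1, true), (0, true), (1, false), (0, false), (1, false), (0, false)], [], [0, 0, 0, 0, 0, 0, 0, 0, 0, 0, 0, 0, 0, 0, 0, 0, 0, 0, 0, 0, 0, 0, 0, 0, 0, 0, 0, 0, 0, 0, 0, 0, 0, 0, 0, 0, 1]⟩,
    ⟨[(1, true), (0, true), (1, false), (0, true), (1, true), (1, true), (0, true), (1, false), (0, false), (1, false), (0, true), (0, true), (1, false), (1, false), (0, true), (1, false), (1, false), (0, false), (1, false), (1, false), (0, false), (1, false), (0, false)], [], [0, 0, 0, 0, 0, 0, 0, 0, 0, 0, 0, 0, 0, 0, 0, 0, 0, 0, 0, 0, 0, 0, 0, 0, 0, 0, 0, 0, 0, 0, 0, 0, 0, 0, 0, 0, 0, 1]⟩,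
    ⟨[(0, true), (1, true), (1, true), (0, false), (1, true), (1, true), (0, true), (1, true), (1, true), (0, false), (1, false), (1, false), (0, true), (1, false), (1, false), (0, false), (1, false), (1, false)], [], [0, 0, 0, 0, 0, 0, 0, 0, 0, 0, 0, 0, 0, 0, 0, 0, 0, 0, 0, 0, 0, 0, 0, 0, 0, 0, 0, 0, 0, 0, 0, 0, 0, 0, 0, 0, 0, 0, 1]⟩,
    ⟨[(0, true), (1, true), (0, true), (1, true), (0, true), (1, true), (0, true), (1, true), (0, true), (1, true), (0, true), (1, true), (0, true), (1, true)], [], [0, 0, 0, 0, 0, 0, 0, 0, 0, 0, 0, 0, 0, 0, 0, 0, 0, 0, 0, 0, 0, 0, 0, 0, 0, 0, 0, 0, 0, 0, 0, 0, 0, 0, 0, 0, 0, 0, 0, 1]⟩,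
    ⟨[(1, true), (0, true), (0, true), (1, false), (0, true), (1, true), (0, true), (0, true), (1, false), (0, true), (1, true), (0, true), (0, true), (1, false), (0, true)], [], [0, 0, 0, 0, 0, 0, 0, 0, 0, 0, 0, 0, 0, 0, 0, 0, 0, 0, 0, 0, 0, 0, 0, 0, 0, 0, 0, 0, 0, 0, 0, 0, 0, 0, 0, 0, 0, 0, 0, 0, 1]⟩,
    ⟨[(1, false), (0, false), (1, true), (0, true), (1, false), (0, true), (1, false), (0, true), (1, true), (0, false), (0, false), (1, false), (0, false), (0, false), (1, true), (0, true), (1, false), (0, true), (1, true), (0, true)], [], [0, 0, 0, 0, 0, 0, 0, 0, 0, 0, 0, 0, 0, 0, 0, 0, 0, 0, 0, 0, 0, 0, 0, 0, 0, 0, 0, 0, 0, 0, 0, 0, 0, 0, 0, 0, 0, 0, 0, 0, 0, 1]⟩]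
  pot g := pot1.get g
  innerSize := 29160
  innerGen := 2

/-- the table with its checks -/
def level1 : CfsgLib.Sporadic.ChainLevel where
  table := table1
  gexp := [[2, (-1)], [1, 0]]
  perm := [36648282801376756339329406354731621189394032586955161878996030854427136008991215877746744187844397148099078447718642927573260790285458804305407203842457470665638774547478477395054714380576927324479821829485413105200405597598318429707406881416007195334884977948317465782342566351862535816381494811773961981291801508737547461376329341842458949207497830538778480196345613626418824015451905688105427677031945432886500654478993538864454628313452919771309044825810572708262976790188410956450199296463868662228829233303588653404902956173632863857526073473218619069485848706041023441583012536889635706773529231971022573904242802970689637568301482751438600283847793476384271432729639538244141472569601545839309487290981227545994398325831278160175207959894351068811839589059133302528262933614184219765993122639378184083222510381880738816,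 47939334132508805668896769850977628904882188398774701757206475780234112826612149305878792413392683876088537229428185151624570260516722664983444903703384216953259962706535802011165119028584629075120468057142305434264708904000735542865729417639014765699145760478991658297055248326257378862594753484842618172555560625301687464287882814004911837589262543154012099708638651065461662354970247064520454420617171376357488457709491037382593841345794429659942952843562549038013284733794432862793314363070215934961508812931073483958799733494911118208613108274742157685171766068509513815654077414292354414414270171224756586089976127172416155939496620976474370023538376470246105282439761200983874171449806227701742491494791429947728246187847480331868523001534421804004437194271952642883315485915872833618432471107740118547072905969892797440]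
  pinv := [79166301282385484964094590986426249934966340486383306117661972582080690096862987211499239074188031564831558647291829463276150768715828156000349491986785086240023063643476485230034113328712032399126484874401058946109735438289191140564836336132821125633348679223696975369485900182970923574707833040578178155846912161254146826206191444013268025677656981983463710524255480324698322188147407368973004672248685279994308713109753184888401352902903526900747614108136350595226089759546458728702116537091022123218721449109928321000361700755289125036160409579978612500223850138841565566299151397872450076464214774548733794271916248867405291674206854704666873210083478948722852116818385552962346712178244262149759965761968994438898161558690604511343321109227869782563558193474041567495348108813660864957113645794719850202267290757217926144, 115696371522600566455028919898804652516436440681922159957551298565109599958998851953043810092936217777593129190941972226100001166922566568130481900867076919383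491421606251087505851590437786994176437009994429631268475186253137341659178775719094442162339442948463772417276799410183244009747458264280952297870381048712268059037429634553496874507874290870850641320124270422341900265370383305230722177820434514620744574668951654112236669880607659111747438624197101018618434880618334266324711998357440023705821716545320932097699831713511941948862355177783179534936524874251404479369695590172465450466176608555793401010657096161980765961612973424072102362957609680120003297639696141384837906393064193938238475818470407801971925987423939781426452172862952073006620211011461123683083739559301138031070995747454551053907723233288915052544]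
  defs := [[(1, true), (0, true), (1, true), (1, true), (0, false), (1, false), (1, false)], [(1, true), (1, true), (1, true), (0, true), (0, true), (1, true), (0, false), (0, false), (1, false), (1, false), (1, false)]]
  eqs := [(2, 33, [(-64), (-40), 38, 28, 151, (-69), 75, 3, (-18), (-106), 41, (-72), 86, (-17), 21, 69, (-15), 4, (-5), 1, 5, (-2), 1, 1, (-3), 0, 0, 0, 2, 0, (-1), 1, 0, 3, 5, (-2), (-3), 2, 4, 0, (-1), 2]),
    (2, 45, [0, 0, 0, 0, 0, 0, 0, 0, 0, 0, 0, 0, 0, 0, 1, 0, 0, 0, 0, (-1)]),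
    (3, 85, [(-350), (-52), 123, (-55), (-160), (-63), (-35), 15, 197, (-4), 16, (-258), (-62), (-46), 35, 27, (-24), (-37), 38, 0, 0, 2, 0, 4, (-2), (-5), 0, 0, (-12), 0, 7, 0, (-5), 4, 13, (-4), (-2), 0, (-3), 1, (-1), (-5)]),
    (4, 29, [11, 47, (-28), (-91), 30, (-75), (-28), 40, (-6), 1, 3, 78, (-57), 35, 40, (-10), (-34), 3, 19, (-4), (-1), (-1), 2, 3, 0, 1, 0, 0, (-9), 1, 1, 2, 0, 1, 5, (-3), 1, (-2), (-6), 1, 1, (-3)]),
    (5, 77, [172, (-17), (-46), 220, 41, 280, (-26), (-112), 102, (-37), (-3), (-263), 181, (-49), 96, 68, (-56), (-60), 8, (-4), 5, (-3), 5, 6, (-3), (-5), 1, 0, (-11), 2, 10, 2, (-7), 3, 18, (-8), (-2), (-6), 2, (-1), 0, (-7)]),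
    (5, 94, [1, (-83), 31, 40, 269, (-66), 162, 3, (-200), (-102), 37, 71, 101, 40, 3, 45, (-16), 33, (-13), 1, (-1), (-1), 0, (-1), 0, 4, 0, 0, (-1), 1, (-3), 1, 3, 0, (-3), 0, 0, 2, (-3), 0, 2, 1]),
    (10, 27, [119, 125, (-98), (-27), 203, 107, 92, (-61), 88, (-53), (-37), (-98), (-61), 18, (-75), (-3), 49, 14, (-2), (-1), (-2), (-7), (-1), 1, 0, (-2), 1, (-3), 15, (-1), (-1), 0, (-1), 2, 2, 1, (-4), 6, 14, 2, 2, 1]),
    (13, 87, [100, (-69), (-33), 165, 422, 16, 293, (-3), 5, (-221), (-32), (-229), 4, (-66), 26, 159, (-22), 4, (-11), 7, (-8), (-5), (-13), 3, (-3), (-2), 0, 1, (-1), (-3), (-2), (-2), 1, 2, 0, (-4), (-3), 11, 5, 3, 4]),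
    (20, 7, [255, 181, (-154), (-126), (-110), (-176), (-105), 51, (-15), 103, 9, 213, (-208), 58, (-29), (-89), 16, 17, 4, (-5), (-2), 0, 0, (-1), 2, 2, 0, 0, (-1), 0, (-2), (-1), 2, (-2), (-2), 0, 1, (-3), (-1), 0, 2, 3]),
    (20, 15, [(-80), (-126), 73, 168, 135, 133, 166, (-50), (-21), (-113), 3, (-250), 185, (-40), 29, 89, (-22), (-15), (-1), (-1), 3, (-2), (-1), 1, (-1), (-2), 0, 0, 1, 1, 2, (-1), (-3), 1, 5, (-2), (-1), (-1), 4, 0, (-1), (-1)]),
    (20, 40, [(-51), (-16), 31, (-70), 59, 19, 28, 49, (-83), (-19), (-48), 195, 32, 9, (-35), (-10), 25, 16, (-15), 0, (-2), (-1), 1, (-3), 2, 3, 0, 0, 4, 0, (-4), 0, 4, (-2), (-8), 3, 3, 0, (-2), 0, 1, 1]),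
    (20, 64, [(-96), (-41), 50, 41, (-105), 422, (-23), (-68), 159, 50, (-157), (-82), 1, (-110), 26, 33, 1, (-52), (-9), 4, (-16), 3, (-8), (-4), 3, (-1), 0, 0, 2, (-2), 0, (-2), 1, (-6), (-15), 4, 8, 0, (-7), 1, 2, (-1)]),
    (20, 99, [(-6), (-134), 66, 49, 62, 145, (-20), (-40), (-284), 43, 17, 238, 230, 18, 46, (-23), (-22), 19, (-33), 0, (-3), 0, 4, (-6), 1, 10, 0, 0, 2, 1, (-12), 0, 10, (-4), (-17), 5, 6, 0, (-14), 0, 2, 7]),
    (21, 19, [(-89), (-27), 42, 16, (-136), 64, (-61), (-25), 69, 43, (-3), (-89), 10, (-36), 23, 6, (-9), (-23), 5, 1, 1, 1, 0, 0, 0, (-1), 0, 0, (-1), 0, 1, (-1), (-1), 0, 0, 1, 0, 0, (-3), 0, (-1), (-1)]),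
    (21, 24, [11, (-19), 0, 96, 103, 238, 65, (-68), 107, (-56), (-63), (-178), 60, (-59), 13, 67, (-2), (-26), (-13), 3, 0, (-2), (-3), 0, (-1), (-2), 0, 0, 4, (-1), 1, 0, (-1), 1, 1, (-1), (-1), 2, 1]),
    (21, 62, [31, 17, (-13), (-19), 30, (-18), (-3), 18, (-13), (-16), (-5), 60, 0, (-4), 8, 9, (-5), 0, (-1), 0, 0, 0, 0, 0, 0, 0, 0, 0, 0, 0, 0, 0, 0, 0, 0, 0, 0, 0, (-1)]),
    (21, 85, [(-153), 17, 41, (-108), (-147), (-14), (-112), 46, 129, 43, (-35), 20, (-93), (-31), 32, (-3), (-16), (-24), 26, (-7), (-2), 2, 0, 4, 0, (-3), 0, 0, (-8), 0, 4, 1, (-3), 1, 8, (-3), 1, (-4), (-1), 1, (-1), (-4)]),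
    (21, 103, [27, 135, (-73), (-116), 73, (-196), 4, 67, 184, (-57), (-20), (-7), (-253), (-7), (-22), 19, 7, (-13), 19, (-2), (-4), 0, (-5), 3, (-3), (-6), 0, 0, (-4), (-2), 7, 0, (-4), 1, 5, (-3), (-3), 0, 2, 1, 2, (-4)]),
    (22, 47, [25, (-46), 9, 4, 148, 27, 45, 27, (-101), (-44), (-27), 136, 49, 10, 11, 27, (-11), 12, 0, (-3), (-1), (-1), 0, 2, 1, 1, 0, 0, (-4), 1, 0, 1, 0, 0, 3, (-2), 1, (-2), 3, (-1), 2, (-2)]),
    (22, 71, [(-173), (-7), 52, (-99), 162, (-107), 94, 67, 11, (-109), 0, (-3), 17, 45, (-16), 9, (-6), 15, 22, 1, 3, (-1), 0, 2, (-3), (-2), 0, 0, (-4), 0, 1, 3, (-1), 4, 8, (-3), (-1), 0, 0, (-1), 0, (-1)]),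
    (23, 104, [286, 188, (-164), (-84), (-56), (-138), (-60), 61, 26, 47, (-14), 172, (-169), 58, (-45), (-77), 30, 15, (-6), 0, (-3), 0, 0, 0, 0, 0, 0, 0, 0, 0, 0, 3, 0, 0, (-3), 0, 0, 0, 0, 0, 2, (-3)]),
    (24, 16, [(-282), (-141), 148, 39, (-149), 175, (-8), (-33), 53, 26, (-37), (-154), 80, (-85), 46, 54, (-19), (-27), 3, (-1), (-6), 5, (-1), 0, 1, (-1), 0, 0, (-3), (-1), 2, (-1), (-1), (-1), (-1), 1, 2, (-1), (-6), 1, (-1), (-3)]),
    (24, 91, [(-8), 89, (-35), (-206), 31, (-214), (-21), 116, (-40), 11, (-21), 280, (-167), 75, (-50), (-65), 20, 34, 14, (-1), (-2), 1, 0, 0, 1, 1, 0, 0, (-3), 0, (-1), 2, 1, (-1), 0, 0, 1, 0, (-3), 0, 1, (-1)]),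
    (24, 95, [159, (-32), (-37), 119, (-172), (-165), (-31), (-20), (-120), 84, 96, (-27), (-27), (-7), 23, (-4), (-10), 13, (-18), (-1), 1, 3, 0, (-2), 1, 3, 0, 0, 1, 0, (-1), (-2), 2, (-3), (-8), 3, 0, 0, (-2), 0, (-1)])]
  pts := [6]

end

end CfsgLib.LocalEvenB.McLCover
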