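import Mathlib
import Cfsg.Agent.Lib.Sporadic.ChainCertificate

/-!
# Coset table 2 of a chain for the McLaughlin group
-/

set_option autoImplicit false
set_option maxRecDepth 100000
set_option maxHeartbeats 0
set_option Elab.async false

namespace CfsgLib.LocalEvenB.McLCover

open CfsgLib.Schur.Cert

noncomputable section

/-- data -/
def next2 : Trie (ℕ) := .node (.node (.node (.node (.node (.node (.leaf 1) (.leaf 8)) (.node (.leaf 11) (.leaf 10))) (.node (.node (.leaf 4) (.leaf 26)) (.node (.leaf 16) (.leaf 20)))) (.node (.node (.node (.leaf 5) (.leaf 6)) (.node (.leaf 14) (.leaf 23))) (.node (.node (.leaf 9) (.leaf 27)) (.leaf 19)))) (.node (.node (.node (.node (.leaf 3) (.leaf 17)) (.node (.leaf 13) (.leaf 29))) (.node (.node (.leaf 2) (.leaf 25)) (.node (.leaf 18) (.leaf 15)))) (.node (.node (.node (.leaf 7) (.leaf 24)) (.node (.leaf 12) (.leaf 22))) (.node (.node (.leaf 0) (.leaf 28)) (.leaf 21))))) (.node (.node (.node (.node (.node (.leaf 2) (.leaf 22)) (.node (.leaf 3) (.leaf 18))) (.node (.node (.leaf 9) (.leaf 16))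 (.node (.leaf 17) (.leaf 19)))) (.node (.node (.node (.leaf 6) (.leaf 24)) (.node (.leaf 15) (.leaf 26))) (.node (.node (.leaf 11) (.leaf 14)) (.leaf 20)))) (.node (.node (.node (.node (.leaf 4) (.leaf 23)) (.node (.leaf 13) (.leaf 27))) (.node (.node (.leaf 10) (.leaf 5)) (.node (.leaf 1) (.leaf 29)))) (.node (.node (.node (.leaf 8) (.leaf 25)) (.node (.leaf 0) (.leaf 28))) (.node (.node (.leaf 12) (.leaf 7)) (.leaf 21)))))

/-- data -/
def prev2 : Trie (ℕ) := .node (.node (.node (.node (.node (.node (.leaf 7) (.leaf 12)) (.node (.leaf 16) (.leaf 19))) (.node (.node (.leaf 4) (.leaf 28)) (.node (.leaf 11) (.leaf 23)))) (.node (.node (.node (.leaf 5) (.leaf 13)) (.node (.leaf 24) (.leaf 20))) (.node (.node (.leaf 18) (.leaf 27)) (.leaf 10)))) (.node (.node (.node (.node (.leaf 0) (.leaf 17)) (.node (.leaf 6) (.leaf 21))) (.node (.node (.leaf 2) (.leaf 15)) (.node (.leaf 9) (.leaf 25)))) (.node (.node (.node (.leaf 1) (.leaf 14)) (.node (.leaf 8) (.leaf 22))) (.node (.node (.leaf 3) (.leaf 26)) (.leaf 29))))) (.node (.node (.node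 (.node (.node (.leaf 11) (.leaf 20)) (.node (.leaf 3) (.leaf 18))) (.node (.node (.leaf 1) (.leaf 14)) (.node (.leaf 7) (.leaf 27)))) (.node (.node (.node (.leaf 0) (.leaf 24)) (.node (.leaf 5) (.leaf 26))) (.node (.node (.leaf 2) (.leaf 16)) (.leaf 22)))) (.node (.node (.node (.node (.leaf 13) (.leaf 12)) (.node (.leaf 4) (.leaf 19))) (.node (.node (.leaf 21) (.leaf 15)) (.node (.leaf 9) (.leaf 29)))) (.node (.node (.node (.leaf 8) (.leaf 28)) (.node (.leaf 6) (.leaf 25))) (.node (.node (.leaf 23) (.leaf 17)) (.leaf 10)))))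

/-- data -/
def lab2 : Trie (Word) := .node (.node (.node (.node (.node (.node (.leaf ([])) (.leaf ([(2, true), (0, true), (0, true)]))) (.node (.leaf ([(0, true), (0, true), (2, true), (1, true)])) (.leaf ([(2, true), (0, true), (0, true), (2, true), (1, true), (0, true)])))) (.node (.node (.leaf ([(0, true)])) (.leaf ([]))) (.node (.leaf ([])) (.leaf ([(2, true), (0, true), (0, true), (1, true), (0, true)]))))) (.node (.node (.node (.leaf ([])) (.leaf ([(2, true), (0, false), (2, true), (0, true), (1, true), (2, true), (0, true)]))) (.node (.leaf ([])) (.leaf ([(0, false), (1, true), (0, true), (0, true), (2, true)])))) (.node (.node (.leaf ([(1, true), (2, true), (0, true), (1, true), (0, false), (1, true), (0, false)])) (.leaf ([]))) (.leaf ([]))))) (.node (.node (.node (.node (.leaf ([])) (.leaf ([(0, true), (1, true), (2, true), (1, true)]))) (.node (.leaf ([])) (.leaf ([])))) (.node (.node (.leaf ([(2, true)])) (.leaf ([(0, false), (1, true), (0, true), (2, true), (0, false), (2, true), (0, true), (1, true), (0, false)])))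 (.node (.leaf ([])) (.leaf ([(0, true), (1, true), (0, false), (2, true), (0, true), (2, true), (0, false), (1, true), (0, true)]))))) (.node (.node (.node (.leaf ([])) (.leaf ([(0, false), (1, true), (2, true), (0, true), (0, true), (2, true)]))) (.node (.leaf ([(1, true)])) (.leaf ([(2, true), (0, true), (2, true), (1, true), (0, true), (1, true), (2, true), (1, true)])))) (.node (.node (.leaf ([])) (.leaf ([]))) (.leaf ([])))))) (.node (.node (.node (.node (.node (.leaf ([])) (.leaf ([]))) (.node (.leaf ([(1, true), (0, true), (1, true), (0, true)])) (.leaf ([(1, true), (2, true), (1, true), (0, false), (1, true), (2, true), (1, true), (0, false)])))) (.node (.node (.leaf ([])) (.leaf ([(0, true), (0, true), (1, true), (2, true), (1, true), (0, true)]))) (.node (.leaf ([])) (.leaf ([(0, false), (2, true), (0, true), (2, true), (0, false), (1, true)]))))) (.node (.node (.node (.leaf ([])) (.leaf ([]))) (.node (.leaf ([])) (.leaf ([(2, true), (0, true), (0, true), (1, true), (0, true)])))) (.node (.node (.leaf ([])) (.leaf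 ([(0, false), (1, true), (2, true), (1, true), (0, true), (0, true)]))) (.leaf ([]))))) (.node (.node (.node (.node (.leaf ([])) (.leaf ([]))) (.node (.leaf ([(0, true), (0, true), (2, true), (1, true), (0, true)])) (.leaf ([(2, true), (1, true), (0, true), (1, true), (0, false), (2, true), (0, true)])))) (.node (.node (.leaf ([])) (.leaf ([(1, true), (0, true), (1, true), (2, true), (0, true), (2, true), (1, true), (0, false)]))) (.node (.leaf ([(0, false), (1, true), (2, true), (0, true), (0, true)])) (.leaf ([(0, false), (2, true), (0, true), (2, true), (0, true)]))))) (.node (.node (.node (.leaf ([])) (.leaf ([]))) (.node (.leaf ([])) (.leaf ([(1, true), (2, true), (1, true), (0, false), (1, true), (2, true), (0, true)])))) (.node (.node (.leaf ([])) (.leaf ([]))) (.leaf ([(1, true), (2, true), (0, false), (2, true), (0, true), (2, true), (1, true), (0, false)]))))))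

/-- data -/
def val2 : Trie (Vec) := .node (.node (.node (.node (.node (.node (.leaf ([])) (.leaf ([0, 0, 0, 0, 0, 0, 0, 0, 0, 0, 0, 0, 0, 1, 0, (-1)]))) (.node (.leaf ([0, 0, 0, 0, (-1), 0, (-1), 0, 0, 0, 0, 0, 0, (-1), 0, 1])) (.leaf ([(-23), (-27), 19, 27, 9, 55, 11, (-16), (-3), (-8), (-7), (-31), 41, (-15), 10, 16, (-4), (-6), (-3)])))) (.node (.node (.leaf ([])) (.leaf ([]))) (.node (.leaf ([])) (.leaf ([(-17), (-4), 7, (-6), 12, (-19), 4, 3, (-2), (-8), 6, 2, (-2), 1, 1, 2, (-1), 1]))))) (.node (.node (.node (.leaf ([])) (.leaf ([1, 5, (-3), (-7), 1, (-21), 1, 4, (-1), 0, 4, 4, (-11), 6, (-3), (-4), 1, 2, 1]))) (.node (.leaf ([])) (.leaf ([18, 21, (-16), (-16), (-23), (-33), (-11), 9, 8, 14, 4, 9, (-31), 16, (-11), (-20), 5, 5, 4])))) (.node (.node (.leaf ([3, (-4), 1, 8, 0, 20, (-1), (-5), 1, 0, (-4), (-4), 10, (-5), 3, 4, (-1), (-2), (-1)])) (.leaf ([]))) (.leaf ([]))))) (.node (.node (.node (.node (.leaf ([])) (.leaf ([1, 0, 0, 0, 0, 1, (-2), (-1), 0, 0, 0, 2, 0, (-2), 2, 2, (-1), (-1)]))) (.node (.leaf ([])) (.leaf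 ([])))) (.node (.node (.leaf ([])) (.leaf ([5, 4, (-3), (-2), (-8), (-6), (-4), 0, 3, 3, 1, (-1), (-6), (-1), 2, 1, (-1), (-1)]))) (.node (.leaf ([])) (.leaf ([(-5), (-4), 3, 2, 6, 4, 4, 0, (-3), (-3), (-1), 1, 6, 2, (-2), (-1), 1, 1]))))) (.node (.node (.node (.leaf ([])) (.leaf ([24, 27, (-19), (-26), (-8), (-59), (-7), 19, 0, 4, 7, 31, (-36), 16, (-10), (-16), 4, 6, 3]))) (.node (.leaf ([])) (.leaf ([18, 7, (-8), (-2), (-2), (-13), (-6), 1, (-5), 3, 4, 12, (-6), 3, 1, (-2), (-1), 1])))) (.node (.node (.leaf ([0, 0, 0, 0, 0, 0, 0, 0, 0, 0, 0, 0, 0, 1])) (.leaf ([]))) (.leaf ([])))))) (.node (.node (.node (.node (.node (.leaf ([])) (.leaf ([]))) (.node (.leaf ([10, 4, (-5), (-2), (-2), (-15), (-2), 3, (-5), 2, 4, 8, (-6), 5, (-2), (-4), 1, 3])) (.leaf ([(-10), (-3), 5, (-1), 3, 14, (-2), (-5), 4, (-2), (-2), (-4), 7, (-6), 5, 5, (-2), (-3), (-1)])))) (.node (.node (.leaf ([])) (.leaf ([4, 3, (-3), (-1), 1, 0, 1, (-1), 0, 1, 0, (-2), (-2), 3, (-2), (-3), 1, 1, 1]))) (.node (.leaf ([])) (.leaf ([(-7), (-1), 2, (-3), 3, (-23),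 1, 1, (-2), (-2), 9, (-3), (-6), 3, 1, (-1), (-1), 2, 1]))))) (.node (.node (.node (.leaf ([])) (.leaf ([]))) (.node (.leaf ([])) (.leaf ([(-2), (-8), 4, 10, 12, 20, 7, (-6), (-4), (-5), (-3), (-7), 14, (-3), 2, 5, (-1), (-1), (-1)])))) (.node (.node (.leaf ([])) (.leaf ([(-3), (-5), 3, 5, (-1), 12, 2, (-2), 0, (-1), (-3), (-5), 7, (-3), 3, 3, (-1), (-1), (-1)]))) (.leaf ([]))))) (.node (.node (.node (.node (.leaf ([])) (.leaf ([]))) (.node (.leaf ([1, 0, 0, 0, (-1), 0, (-2), 0, 0, 0, 0, 2, 0, (-1), 2, 1, (-1)])) (.leaf ([(-9), (-17), 10, 25, 27, 59, 21, (-18), (-1), (-13), (-9), (-32), 37, (-8), 4, 11, (-2), (-4), (-2)])))) (.node (.node (.leaf ([])) (.leaf ([16, 32, (-19), (-43), (-6), (-62), (-8), 23, 1, 7, 2, 45, (-48), 21, (-15), (-21), 7, 8, 4]))) (.node (.leaf ([(-1), 0, 0, 0, 0, (-1), 1, 0, 0, 0, 0, (-2), 0, 1, (-1), (-1), 1])) (.leaf ([(-5), 3, 0, (-9), 1, (-16), 3, 5, (-2), (-1), 2, 4, (-7), 5, (-3), (-4), 1, 2, 2]))))) (.node (.node (.node (.leaf ([])) (.leaf ([]))) (.node (.leaf ([0, 0, 0, 0, 0, 0, 0, 0, 0, 0, 0,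 0, 0, 0, 1])) (.leaf ([13, (-5), (-1), 10, 18, 36, 7, (-5), (-7), (-6), (-12), 9, 17, (-7), 3, 10, (-1), (-2), (-3)])))) (.node (.node (.leaf ([])) (.leaf ([0, 0, 0, 0, 0, 0, 0, 0, 0, 0, 0, 0, 0, 0, 1]))) (.leaf ([9, 13, (-8), (-13), (-25), (-37), (-14), 8, (-1), 11, 8, 14, (-20), 2, (-5), (-8), 4, 2, 1]))))))

/-- data -/
def rank2 : Trie (ℕ) := .node (.node (.node (.node (.node (.node (.leaf 0) (.leaf 7)) (.node (.leaf 8) (.leaf 28))) (.node (.node (.leaf 1) (.leaf 0)) (.node (.leaf 0) (.leaf 17)))) (.node (.node (.node (.leaf 0) (.leaf 15)) (.node (.leaf 0) (.leaf 21))) (.node (.node (.leaf 14) (.leaf 0)) (.leaf 0)))) (.node (.node (.node (.node (.leaf 0) (.leaf 11)) (.node (.leaf 0) (.leaf 0))) (.node (.node (.leaf 3) (.leaf 26)) (.node (.leaf 0) (.leaf 18)))) (.node (.node (.node (.leaf 0) (.leaf 29)) (.node (.leaf 2) (.leaf 27))) (.node (.node (.leaf 4) (.leaf 0)) (.leaf 0))))) (.node (.node (.node (.node (.node (.leaf 0) (.leaf 0)) (.node (.leaf 23) (.leaf 20))) (.node (.node (.leaf 0) (.leaf 12)) (.node (.leaf 0) (.leaf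 16)))) (.node (.node (.node (.leaf 0) (.leaf 0)) (.node (.leaf 0) (.leaf 19))) (.node (.node (.leaf 0) (.leaf 13)) (.leaf 0)))) (.node (.node (.node (.node (.leaf 0) (.leaf 0)) (.node (.leaf 10) (.leaf 25))) (.node (.node (.leaf 0) (.leaf 30)) (.node (.leaf 9) (.leaf 22)))) (.node (.node (.node (.leaf 0) (.leaf 0)) (.node (.leaf 5) (.leaf 24))) (.node (.node (.leaf 0) (.leaf 6)) (.leaf 31)))))

/-- data -/
def tree2 : Trie (ℕ × ℕ) := .node (.node (.node (.node (.node (.leaf (0, 0)) (.leaf (12, 0))) (.node (.leaf (3, 1)) (.leaf (18, 1)))) (.node (.node (.leaf (1, 1)) (.leaf (14, 1))) (.node (.leaf (7, 1)) (.leaf (23, 0))))) (.node (.node (.node (.leaf (0, 1)) (.leaf (13, 0))) (.node (.leaf (5, 1)) (.leaf (20, 0)))) (.node (.node (.leaf (2, 1)) (.leaf (16, 1))) (.leaf (10, 0))))) (.node (.node (.node (.node (.leaf (0, 0)) (.leaf (12, 1))) (.node (.leaf (4, 1)) (.leaf (19, 1)))) (.node (.node (.leaf (2, 0)) (.leaf (15, 0))) (.node (.leaf (9, 0)) (.leaf (25, 0))))) (.node (.node (.node (.leaf (1, 0)) (.leaf (14, 0))) (.node (.leaf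 (6, 1)) (.leaf (22, 0)))) (.node (.node (.leaf (3, 0)) (.leaf (17, 1))) (.leaf (10, 1)))))

/-- data -/
def cert2 : Trie (ℕ × ℕ × ℕ) := .node (.node (.node (.node (.node (.leaf (0, 0, 2)) (.leaf (5, 5, 4))) (.node (.leaf (6, 0, 5)) (.leaf (8, 19, 13)))) (.node (.node (.leaf (4, 0, 3)) (.leaf (7, 14, 11))) (.node (.leaf (8, 7, 8)) (.leaf (5, 20, 12))))) (.node (.node (.node (.leaf (2, 0, 2)) (.leaf (7, 7, 7))) (.node (.leaf (7, 4, 11)) (.leaf (5, 8, 11)))) (.node (.node (.leaf (5, 0, 11)) (.leaf (8, 3, 13))) (.node (.leaf (3, 6, 3)) (.leaf (6, 14, 5)))))) (.node (.node (.node (.node (.leaf (1, 0, 3)) (.leaf (5, 17, 7))) (.node (.leaf (4, 1, 2)) (.leaf (3, 15, 1)))) (.node (.node (.leaf (4, 7, 3)) (.leaf (8, 1, 6))) (.node (.leaf (7, 16, 11)) (.leaf (6, 5, 9))))) (.node (.node (.node (.leaf (3, 0, 3)) (.leaf (7, 9, 12))) (.node (.leaf (8, 2, 4)) (.leaf (5, 18, 1)))) (.node (.node (.leaf (5, 1, 6)) (.leaf (8, 8, 3))) (.leaf (5, 2, 10)))))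

/-- data -/
def pot2 : Trie (Vec) := .node (.node (.node (.node (.node (.leaf ([])) (.leaf ([5]))) (.node (.leaf ([3])) (.leaf ([6])))) (.node (.node (.leaf ([2])) (.leaf ([5]))) (.node (.leaf ([4])) (.leaf ([7]))))) (.node (.node (.node (.leaf ([1])) (.leaf ([5]))) (.node (.leaf ([3])) (.leaf ([6])))) (.node (.node (.leaf ([2])) (.leaf ([6]))) (.leaf ([4]))))) (.node (.node (.node (.node (.leaf ([1])) (.leaf ([5]))) (.node (.leaf ([3])) (.leaf ([6])))) (.node (.node (.leaf ([2])) (.leaf ([5]))) (.node (.leaf ([4])) (.leaf ([7]))))) (.node (.node (.node (.leaf ([2])) (.leaf ([5]))) (.node (.leaf ([3])) (.leaf ([7])))) (.node (.node (.leaf ([3])) (.leaf ([6]))) (.leaf ([4])))))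

/-- the table -/
def table2 : Table where
  size := 30
  ngen := 2
  next g x := next2.get (2 * g + x)
  prev g x := prev2.get (2 * g + x)
  lab g x := lab2.get (2 * g + x)
  val g x := val2.get (2 * g + x)
  rank g x := rank2.get (2 * g + x)
  tree g := tree2.get g
  cert j := cert2.get j
  nded := 31
  rels := [⟨[(0, true), (1, true), (0, true), (1, false), (0, false)], [(0, true)], []⟩,
    ⟨[(1, true), (1, true), (1, true), (0, true), (1, false), (0, false), (0, false), (0, false)], [(1, true)], []⟩,
    ⟨[(1, true), (0, true), (0, true), (1, false)], [(2, true)], []⟩,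
    ⟨[(0, true), (0, true), (0, true), (0, true)], [], [0, 0, 0, 0, 0, 0, 0, 0, 0, 0, 0, 0, 0, 1]⟩,
    ⟨[(1, true), (1, true), (1, true), (1, true)], [], [0, 0, 0, 0, 0, 0, 0, 0, 0, 0, 0, 0, 0, 0, 1]⟩,
    ⟨[(1, true), (0, true), (0, true), (1, false), (0, true), (1, true), (0, true), (0, true), (1, false), (0, true), (1, true), (0, false), (0, false), (1, false), (0, true)], [], [0, 0, 0, 0, 0, 0, 0, 0, 0, 0, 0, 0, 0, 0, 0, 1]⟩,
    ⟨[(0, true), (1, true), (0, true), (1, true), (0, true), (1, true), (0, true), (1, true), (0, true), (1, true)], [], [0, 0, 0, 0, 0, 0, 0, 0, 0, 0, 0, 0, 0, 0, 0, 0, 1]⟩,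
    ⟨[(1, true), (1, true), (0, false), (1, false), (0, true), (1, false), (0, true), (1, true), (0, false), (0, false), (1, true), (0, false), (1, false), (1, false), (0, false), (0, false), (1, true), (0, false)], [], [0, 0, 0, 0, 0, 0, 0, 0, 0, 0, 0, 0, 0, 0, 0, 0, 0, 1]⟩,
    ⟨[(0, false), (1, true), (0, true), (1, true), (1, true), (0, false), (1, true), (0, true), (1, false), (1, false), (0, false), (1, true), (0, true), (1, false), (1, false)], [], [0, 0, 0, 0, 0, 0, 0, 0, 0, 0, 0, 0, 0, 0, 0, 0, 0, 0, 1]⟩]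
  pot g := pot2.get g
  innerSize := 972
  innerGen := 3

/-- the table with its checks -/
def level2 : CfsgLib.Sporadic.ChainLevel where
  table := table2
  gexp := [[1, 0], [1, 0]]
  perm := [181440707314483819758662862275381598963895602585453525937763211616281268387508204858761755749816023521029564592710413817285437834122935053749678000055540230430063564013298858445820941820668996460866744974043512813961724902763357089527588067547703514654252872713126659597817277602199200400160823478956876427682169268739393660699217280329530373088948815915399556378965059148301683201131548935906307237703405609179240887779061233914739736547947693251684812511728977881547303750212983253225512705212409301536751864280087130937750773357418727598707422735230581192599790268755537140852870340952355067350630017232410245542364855456831885439139041531517602629901098918958621808537690290874601429299643544361751531729710276260933928577243073459418501671188565829587970323877710675135962260720920532072891276279621862288324954038575622144, 113039066660229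881148129972148114937207451284443064558694825550682256861984565755184616454054087913125563167366044764167033342127605307679786832567545241299898356704248586343778331508493552155223073214738048170867508293119794469094241963523764846582491019763535178989143224674501628076997880860363872623980889938927010571036348784229481442730422376179478613394642796357827972700686390765292956643409208250460594980964823059342943392506720200921051609884449549716625905310602427189506216389935671338985700961307298861494563373891248198360434024104834641433740275353074966361530082473670951715300334714736708626905898650162870099833420354301997141328701704362528261988511649699842248041511704604091179395661190030216076990980383351173048344954882504355413126770573126964861115507995758927983469236900549917231546156757357200325632]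
  pinv := [169505652380941509516986459163833597756173219061170870634415006758835139156827370422926923339097766232882150576793367019541875415393083782174687529298100082058745124764031188197468554649359294977008549115600863187038763747813497239755648910202698901168328933813424262766136700221466614883474938997285669792450508195380252683614124674001166516673378219562782956429777669262141040349127911287121644748432364050420251312457209126800908590738177195786942592405419495543259074653706536108498436837246813535948661338294691807578556455324803699380940223180382713522354652242244241987349663707258840565914535796167020917820059424154478444092803515064777251673959025922268162770689011697115876263033098631409274085393577407854516536782451256661123704534671142007777329168995059552288237087954626225963531250306706728459360437441365294080, 145504574273831707865293545435683317180818188256570940266459509473627661589932629238135555693293228654759330405455676593017437109861642991276596245370108915113047832617453166967660479659611908379018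411855698147710517435913472308804523923385935489823864198453585500408565291348717947055899905001794407921085344907844588125940555066760530242603479889094139499924768589535357497059271581037153735399812031597164414039120770215011676213637209820904730903211580008660620433181027665665130725882688536468444219824449172780467583436486589971434173591083213856307018618880176330021053777543075800920511304464329126169492914615435645234992159026095187846958825867590388801873555534911642794082066300000188881060222894576572484052724202927373190869559465330895159002081032456490230633935792638868681032032013185289400901335934605233142784]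
  defs := [[(0, true), (1, true), (0, true), (1, false), (0, false)], [(1, true), (1, true), (1, true), (0, true), (1, false), (0, false), (0, false), (0, false)], [(1, true), (0, true), (0, true), (1, false)]]
  eqs := [(3, 2, [0, 0, 0, 0, 0, 1, 0, 0, 0, 0, 0, 0, 0, (-1)]),
    (3, 4, [0, 0, 0, 0, 0, 0, 1, 0, 0, 0, 0, 0, 0, (-1)]),
    (5, 4, [(-1), 0, 0, (-1), (-8), (-18), 0, 6, (-1), (-1), 4, (-4), (-2), 0, 2, 0, (-1), (-1)]),
    (5, 7, [0, 0, 0, 0, 0, 1, 1, 0, 0, 0, 0, 0, 1, 3, 0, (-4)]),
    (5, 21, [15, 0, (-5), 7, 22, 3, 13, (-3), (-6), (-8), 1, (-3), 3, 6, 3, 1, (-4), 1, 1]),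
    (8, 0, [6, 9, (-7), (-7), 16, (-14), 5, 0, 10, (-5), 3, (-7), (-16), 9, 0, (-4), (-2), 2]),
    (8, 4, [(-3), (-1), 0, 0, 15, 0, 4, (-1), 0, (-4), 0, (-2), 0, 3, (-5), (-3), 3, 0, (-1)]),
    (8, 9, [(-5), (-5), 3, 2, 13, (-1), 9, (-1), (-5), (-5), 1, (-3), 2, 2, (-1), 1, 0, 1, (-1)])]
  pts := [126]

end

end CfsgLib.LocalEvenB.McLCover
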