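import Mathlib
import Cfsg.Agent.Lib.Sporadic.ChainCertificate

/-!
# Coset table 3 of a chain for the McLaughlin group
-/

set_option autoImplicit false
set_option maxRecDepth 100000
set_option maxHeartbeats 0
set_option Elab.async false

namespace CfsgLib.LocalEvenB.McLCover

open CfsgLib.Schur.Cert

noncomputable section

/-- data -/
def next3 : Trie (ℕ) := .node (.node (.node (.node (.node (.node (.node (.leaf 1) (.leaf 12)) (.leaf 19)) (.node (.node (.leaf 5) (.leaf 23)) (.leaf 19))) (.node (.node (.node (.leaf 0) (.leaf 6)) (.leaf 7)) (.node (.leaf 15) (.leaf 25)))) (.node (.node (.node (.node (.leaf 0) (.leaf 20)) (.leaf 18)) (.node (.leaf 11) (.leaf 9))) (.node (.node (.node (.leaf 10) (.leaf 20)) (.leaf 14)) (.node (.leaf 17) (.leaf 26))))) (.node (.node (.node (.node (.node (.leaf 2) (.leaf 24)) (.leaf 4)) (.node (.leaf 14) (.leaf 8))) (.node (.node (.node (.leaf 8) (.leaf 17)) (.leaf 22)) (.node (.leaf 16) (.leaf 22)))) (.node (.node (.node (.node (.leaf 5) (.leaf 14)) (.leaf 15)) (.node (.leaf 13) (.leaf 2))) (.node (.node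 (.node (.leaf 1) (.leaf 23)) (.leaf 15)) (.node (.leaf 4) (.leaf 22)))))) (.node (.node (.node (.node (.node (.node (.leaf 1) (.leaf 21)) (.leaf 20)) (.node (.leaf 13) (.leaf 24))) (.node (.node (.node (.leaf 7) (.leaf 16)) (.leaf 5)) (.node (.leaf 3) (.leaf 25)))) (.node (.node (.node (.node (.leaf 4) (.leaf 11)) (.leaf 21)) (.node (.leaf 0) (.leaf 24))) (.node (.node (.node (.leaf 11) (.leaf 18)) (.leaf 13)) (.node (.leaf 3) (.leaf 25))))) (.node (.node (.node (.node (.node (.leaf 3) (.leaf 19)) (.leaf 6)) (.node (.leaf 2) (.leaf 17))) (.node (.node (.node (.leaf 9) (.leaf 21)) (.leaf 23)) (.node (.leaf 8) (.leaf 10)))) (.node (.node (.node (.node (.leaf 6) (.leaf 26)) (.leaf 9)) (.node (.leaf 7) (.leaf 10))) (.node (.node (.node (.leaf 12) (.leaf 26)) (.leaf 12)) (.node (.leaf 18) (.leaf 16))))))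

/-- data -/
def prev3 : Trie (ℕ) := .node (.node (.node (.node (.node (.node (.node (.leaf 7) (.leaf 12)) (.leaf 19)) (.node (.node (.leaf 5) (.leaf 23)) (.leaf 21))) (.node (.node (.node (.leaf 0) (.leaf 22)) (.leaf 7)) (.node (.leaf 9) (.leaf 25)))) (.node (.node (.node (.node (.leaf 0) (.leaf 20)) (.leaf 5)) (.node (.leaf 11) (.leaf 9))) (.node (.node (.node (.leaf 10) (.leaf 20)) (.leaf 14)) (.node (.leaf 17) (.leaf 11))))) (.node (.node (.node (.node (.node (.leaf 2) (.leaf 14)) (.leaf 4)) (.node (.leaf 24) (.leaf 8))) (.node (.node (.node (.leaf 8) (.leaf 17)) (.leaf 6)) (.node (.leaf 16) (.leaf 22)))) (.node (.node (.node (.node (.leaf 18) (.leaf 14)) (.leaf 15)) (.node (.leaf 13) (.leaf 12))) (.node (.node (.node (.leaf 1) (.leaf 20)) (.leaf 15)) (.node (.leaf 4) (.leaf 22)))))) (.node (.node (.node (.node (.node (.node (.leaf 1) (.leaf 21)) (.leaf 23)) (.node (.leaf 13) (.leaf 24))) (.node (.node (.node (.leaf 1) (.leaf 16)) (.leaf 5)) (.node (.leaf 3) (.leaf 16)))) (.node (.node (.node (.node (.leaf 4) (.leaf 26)) (.leaf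 21)) (.node (.leaf 3) (.leaf 24))) (.node (.node (.node (.leaf 11) (.leaf 18)) (.leaf 8)) (.node (.leaf 3) (.leaf 25))))) (.node (.node (.node (.node (.node (.leaf 0) (.leaf 19)) (.leaf 6)) (.node (.leaf 2) (.leaf 17))) (.node (.node (.node (.leaf 9) (.leaf 19)) (.leaf 23)) (.node (.leaf 13) (.leaf 10)))) (.node (.node (.node (.node (.leaf 6) (.leaf 26)) (.leaf 15)) (.node (.leaf 7) (.leaf 10))) (.node (.node (.node (.leaf 2) (.leaf 26)) (.leaf 12)) (.node (.leaf 18) (.leaf 25))))))

/-- data -/
def lab3 : Trie (Word) := .node (.node (.node (.node (.node (.node (.node (.leaf ([])) (.leaf ([]))) (.leaf ([]))) (.node (.node (.leaf ([(1, true)])) (.leaf ([(1, true), (0, true), (0, true), (1, true)]))) (.leaf ([(1, true), (0, false), (1, true), (0, true), (0, true)])))) (.node (.node (.node (.leaf ([])) (.leaf ([(0, true), (1, true), (0, false), (1, true), (0, true)]))) (.leaf ([(0, true), (1, true), (0, false), (1, true)]))) (.node (.leaf ([])) (.leaf ([]))))) (.node (.node (.node (.node (.leaf ([(0, false)])) (.leaf ([(0, false), (1,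 true), (0, true)]))) (.leaf ([(0, false)]))) (.node (.leaf ([(0, true)])) (.leaf ([])))) (.node (.node (.node (.leaf ([])) (.leaf ([(1, true), (0, true), (0, true)]))) (.leaf ([(1, true), (0, true), (1, true), (0, true)]))) (.node (.leaf ([])) (.leaf ([])))))) (.node (.node (.node (.node (.node (.leaf ([])) (.leaf ([(0, false), (1, true), (0, true), (1, true), (0, false)]))) (.leaf ([]))) (.node (.leaf ([])) (.leaf ([])))) (.node (.node (.node (.leaf ([])) (.leaf ([]))) (.leaf ([]))) (.node (.leaf ([])) (.leaf ([(1, true), (0, true), (1, true), (0, true)]))))) (.node (.node (.node (.node (.leaf ([])) (.leaf ([]))) (.leaf ([(1, true), (0, false)]))) (.node (.leaf ([(1, true), (0, true), (1, true), (0, false)])) (.leaf ([(0, true)])))) (.node (.node (.node (.leaf ([])) (.leaf ([(0, true)]))) (.leaf ([(0, true), (0, true)]))) (.node (.leaf ([(0, true), (1, true), (0, false)])) (.leaf ([(0, false), (1, true), (0, true)]))))))) (.node (.node (.node (.node (.node (.node (.leaf ([(0, true)])) (.leaf ([(1, true), (0, true), (0, true), (1,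 true)]))) (.leaf ([]))) (.node (.leaf ([])) (.leaf ([])))) (.node (.node (.node (.leaf ([])) (.leaf ([]))) (.leaf ([]))) (.node (.leaf ([])) (.leaf ([(0, false)]))))) (.node (.node (.node (.node (.leaf ([])) (.leaf ([(0, false)]))) (.leaf ([]))) (.node (.leaf ([])) (.leaf ([])))) (.node (.node (.node (.leaf ([])) (.leaf ([]))) (.leaf ([(1, true), (0, false), (1, true), (0, true), (0, true)]))) (.node (.leaf ([])) (.leaf ([(0, true), (0, true), (1, true)])))))) (.node (.node (.node (.node (.node (.leaf ([])) (.leaf ([(1, true), (0, true), (1, true), (0, true)]))) (.leaf ([(0, false)]))) (.node (.leaf ([])) (.leaf ([(1, true), (0, true), (1, true)])))) (.node (.node (.node (.leaf ([])) (.leaf ([(1, true), (0, false), (1, true)]))) (.leaf ([]))) (.node (.leaf ([(1, true), (0, false)])) (.leaf ([]))))) (.node (.node (.node (.node (.leaf ([])) (.leaf ([(1, true), (0, true), (0, true), (1, true)]))) (.leaf ([(0, true), (1, true), (0, false)]))) (.node (.leaf ([(0, true), (1, true), (0, false)])) (.leaf ([])))) (.node (.node (.node (.leaf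 ([])) (.leaf ([(0, true), (1, true), (0, false)]))) (.leaf ([(0, true), (1, true)]))) (.node (.leaf ([])) (.leaf ([(0, true), (1, true), (0, false), (1, true), (0, true)])))))))

/-- data -/
def val3 : Trie (Vec) := .node (.node (.node (.node (.node (.node (.node (.leaf ([])) (.leaf ([0, 0, 0, 0, 1]))) (.leaf ([]))) (.node (.node (.leaf ([])) (.leaf ([2, 3, (-2), (-4), 2, (-2), (-1), 2, 1, (-1), (-1), 7, (-3)]))) (.leaf ([(-4), (-1), 1, 0, 0, (-3), (-1), 0, 2, 0, 1, (-2), (-1)])))) (.node (.node (.node (.leaf ([0, 0, 0, 0, 0, 1])) (.leaf ([1, 1, (-1), (-1), 2, 1, 0, 1, 1, (-1), (-1), 2, 1]))) (.leaf ([(-1), 0, 0, 0, 0, (-1), 1, 0, (-2), 0, 1, (-1)]))) (.node (.leaf ([])) (.leaf ([]))))) (.node (.node (.node (.node (.leaf ([0, 0, 0, 0, 1])) (.leaf ([2, 3, (-2), (-4), (-1), (-2), (-2), 2, 0, 1, (-1), 5, (-3)]))) (.leaf ([0, 0, 0, 0, 0, 0, 1, 0, (-1)]))) (.node (.leaf ([0, 0, 0, 0, (-2), (-1), 0, 1])) (.leaf ([0, 0, 0, 0, 1])))) (.node (.node (.node (.leaf ([])) (.leaf ([2, 1, (-1), (-2), 1, 6, 0, 1, (-1), 0, (-3), 5, 2]))) (.leaf ([4,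 1, (-2), 2, (-6), 0, 0, 0, 0, 2, 0, (-2), (-1)]))) (.node (.leaf ([])) (.leaf ([])))))) (.node (.node (.node (.node (.node (.leaf ([])) (.leaf ([2, 2, (-2), 0, (-1), (-7), (-2), (-2), (-1), 2, 4, (-2), (-4)]))) (.leaf ([0, 0, 0, 0, 1]))) (.node (.leaf ([])) (.leaf ([0, 0, 0, 0, 0, 1])))) (.node (.node (.node (.leaf ([])) (.leaf ([0, 0, 0, 0, (-1), (-1), 0, 1]))) (.leaf ([]))) (.node (.leaf ([])) (.leaf ([(-1), (-2), 1, 2, 0, 7, 2, 0, (-1), (-1), (-2), 0, 5]))))) (.node (.node (.node (.node (.leaf ([])) (.leaf ([0, 0, 0, 0, 1]))) (.leaf ([0, 0, 0, 0, 0, 1, 1, 0, (-2), 0, 0, 1]))) (.node (.leaf ([(-1), 0, 0, 0, 1, 1, (-1), 0, 2, 0, (-1), 1])) (.leaf ([0, 0, 0, 0, 0, 0, 0, 0, 1])))) (.node (.node (.node (.leaf ([0, 0, 0, 0, 0, 1])) (.leaf ([0, 0, 0, 0, 1, 0, 1, 0, 1, (-1)]))) (.leaf ([6, 2, (-3), 0, 0, (-1), (-1), 0, 0, 1, 0, 1, (-2)]))) (.node (.leaf ([0, 0, 0, 0, 0, 0, 0, 0, 0, 0, 0, 1])) (.leaf ([(-3), (-3), 2, 4, (-1), 0, 1, 0, 0, (-1), 1, (-3), 3]))))))) (.node (.node (.node (.node (.node (.node (.leaf ([])) (.leaf ([(-7), (-3),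 3, 0, (-1), 0, 1, 1, 0, (-1), 0, (-1), 2]))) (.leaf ([]))) (.node (.leaf ([])) (.leaf ([])))) (.node (.node (.node (.leaf ([])) (.leaf ([0, 0, 0, 0, 1]))) (.leaf ([0, 0, 0, 0, 0, 1]))) (.node (.leaf ([0, 0, 0, 0, 1])) (.leaf ([0, 0, 0, 0, 0, (-2), 0, 0, (-1), 0, 1]))))) (.node (.node (.node (.node (.leaf ([])) (.leaf ([0, 0, 0, 0, (-1), 0, 0, 0, (-1), 1]))) (.leaf ([]))) (.node (.leaf ([0, 0, 0, 0, 0, 0, 1])) (.leaf ([0, 0, 0, 0, (-2), (-1), 0, 1])))) (.node (.node (.node (.leaf ([])) (.leaf ([0, 0, 0, 0, 0, 1]))) (.leaf ([(-3), (-1), 1, 0, 0, 2, (-1), 0, 2, 0, (-1), 0, 2]))) (.node (.leaf ([0, 0, 0, 0, 0, 1])) (.leaf ([(-3), (-2), 1, 2, 0, (-6), 0, (-1), 1, 0, 3, (-5), (-2)])))))) (.node (.node (.node (.node (.node (.leaf ([])) (.leaf ([1, 2, (-2), (-2), 0, (-7), (-1), 0, 1, 1, 2, (-2), (-5)]))) (.leaf ([0, 0, 0, 0, (-1), (-1), 0, 1]))) (.node (.leaf ([0, 0, 0, 0, 1])) (.leaf ([(-1), 0, 0, 0, (-3), 0, 0, 0, 0, 1, 0, (-1)])))) (.node (.node (.node (.leaf ([])) (.leaf ([2, 1, (-1), 1, 1, 3, (-1), (-1), 0, 0, 0, 1, 2]))) (.leaf ([])))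 (.node (.leaf ([0, 0, 0, 0, 0, 1, 1, 0, (-2), 0, 0, 1, 1])) (.leaf ([0, 0, 0, 0, 0, 1]))))) (.node (.node (.node (.node (.leaf ([])) (.leaf ([2, 0, (-1), (-1), 0, 4, 0, 1, (-4), 1, (-2), 5, 2]))) (.leaf ([(-1), 0, 0, 0, 0, (-2), 0, 0, 0, 0, 1, (-1), (-1)]))) (.node (.leaf ([0, 0, 0, 0, 0, 1, (-1), 0, 0, 0, 0, 1, 1])) (.leaf ([0, 0, 0, 0, 1])))) (.node (.node (.node (.leaf ([])) (.leaf ([0, 0, 0, 0, 1, 0, (-1), 0, 0, 0, 0, 2]))) (.leaf ([(-1), 0, 0, 0, 0, 0, (-1), 0, 2, 0, 0, (-1)]))) (.node (.leaf ([])) (.leaf ([4, 3, (-3), (-2), 0, (-4), 0, 0, (-1), 1, 1, 1, (-4)])))))))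

/-- data -/
def rank3 : Trie (ℕ) := .node (.node (.node (.node (.node (.node (.node (.leaf 0) (.leaf 9)) (.leaf 0)) (.node (.node (.leaf 2) (.leaf 55)) (.leaf 35))) (.node (.node (.node (.leaf 12) (.leaf 43)) (.leaf 38)) (.node (.leaf 0) (.leaf 0)))) (.node (.node (.node (.node (.leaf 3) (.leaf 53)) (.leaf 25)) (.node (.leaf 21) (.leaf 7))) (.node (.node (.node (.leaf 0) (.leaf 48)) (.leaf 51)) (.node (.leaf 0) (.leaf 0))))) (.node (.node (.node (.node (.node (.leaf 0) (.leaf 49)) (.leaf 6)) (.node (.leaf 0) (.leaf 16))) (.node (.node (.node (.leaf 0) (.leaf 22)) (.leaf 0)) (.node (.leaf 0) (.leaf 47)))) (.node (.node (.node (.node (.leaf 0) (.leaf 10)) (.leaf 32)) (.node (.leaf 37) (.leaf 24))) (.node (.node (.node (.leaf 13) (.leaf 27)) (.leaf 40)) (.node (.leaf 29) (.leaf 52)))))) (.node (.node (.node (.node (.node (.node (.leaf 1) (.leaf 42)) (.leaf 0)) (.node (.leaf 0) (.leaf 0))) (.node (.node (.node (.leaf 0) (.leaf 11)) (.leaf 15)) (.node (.leaf 5) (.leaf 28)))) (.node (.node (.node (.node (.leaf 0) (.leaf 26)) (.leaf 0))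 (.node (.leaf 19) (.leaf 23))) (.node (.node (.node (.leaf 0) (.leaf 18)) (.leaf 39)) (.node (.leaf 14) (.leaf 50))))) (.node (.node (.node (.node (.node (.leaf 0) (.leaf 46)) (.leaf 20)) (.node (.leaf 4) (.leaf 41))) (.node (.node (.node (.leaf 0) (.leaf 45)) (.leaf 0)) (.node (.leaf 33) (.leaf 17)))) (.node (.node (.node (.node (.leaf 0) (.leaf 54)) (.leaf 36)) (.node (.leaf 34) (.leaf 8))) (.node (.node (.node (.leaf 0) (.leaf 30)) (.leaf 31)) (.node (.leaf 0) (.leaf 44))))))

/-- data -/
def tree3 : Trie (ℕ × ℕ) := .node (.node (.node (.node (.node (.leaf (0, 0)) (.leaf (8, 2))) (.node (.leaf (3, 1)) (.leaf (16, 1)))) (.node (.node (.leaf (1, 2)) (.leaf (11, 0))) (.leaf (5, 0)))) (.node (.node (.node (.leaf (0, 2)) (.leaf (10, 1))) (.node (.leaf (4, 0)) (.leaf (20, 0)))) (.node (.node (.leaf (2, 1)) (.leaf (14, 0))) (.leaf (6, 0))))) (.node (.node (.node (.node (.leaf (0, 0)) (.leaf (9, 1))) (.node (.leaf (3, 2)) (.leaf (18, 2)))) (.node (.node (.leaf (2, 0)) (.leaf (12, 1))) (.leaf (5, 2)))) (.node (.node (.node (.leaf (1, 0))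 (.leaf (10, 2))) (.leaf (4, 1))) (.node (.node (.leaf (3, 0)) (.leaf (14, 1))) (.leaf (8, 0)))))

/-- data -/
def cert3 : Trie (ℕ × ℕ × ℕ) := .node (.node (.node (.node (.node (.node (.leaf (0, 0, 0)) (.leaf (10, 0, 3))) (.node (.leaf (3, 10, 1)) (.leaf (9, 19, 7)))) (.node (.node (.leaf (2, 12, 1)) (.leaf (7, 3, 4))) (.leaf (4, 2, 2)))) (.node (.node (.node (.leaf (2, 3, 1)) (.leaf (9, 1, 2))) (.node (.leaf (5, 1, 3)) (.leaf (5, 18, 3)))) (.node (.node (.leaf (3, 1, 1)) (.leaf (8, 8, 4))) (.leaf (9, 5, 3))))) (.node (.node (.node (.node (.leaf (2, 0, 1)) (.leaf (8, 1, 4))) (.node (.leaf (4, 0, 3)) (.leaf (10, 14, 8)))) (.node (.node (.leaf (2, 16, 1)) (.leaf (6, 2, 6))) (.leaf (4, 11, 2)))) (.node (.node (.node (.leaf (2, 9, 1)) (.leaf (10, 2, 3))) (.node (.leaf (5, 8, 3)) (.leaf (6, 14, 5)))) (.node (.node (.leaf (3, 5, 1)) (.leaf (9, 12, 5))) (.leaf (6, 8, 1)))))) (.node (.node (.node (.node (.node (.leaf (1, 0, 2)) (.leaf (10, 1, 2))) (.node (.leaf (3, 18, 1)) (.leaf (9, 20, 8)))) (.node (.node (.leaf (2, 14, 1)) (.leaf (5, 12,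 1))) (.leaf (7, 4, 6)))) (.node (.node (.node (.leaf (2, 4, 1)) (.leaf (9, 13, 8))) (.node (.leaf (5, 3, 3)) (.leaf (6, 4, 5)))) (.node (.node (.leaf (3, 3, 1)) (.leaf (9, 2, 5))) (.leaf (9, 11, 2))))) (.node (.node (.node (.node (.leaf (2, 2, 1)) (.leaf (8, 2, 2))) (.node (.leaf (5, 0, 3)) (.leaf (5, 10, 3)))) (.node (.node (.leaf (3, 0, 1)) (.leaf (6, 15, 4))) (.leaf (8, 0, 4)))) (.node (.node (.node (.leaf (2, 10, 1)) (.leaf (7, 1, 3))) (.leaf (6, 0, 4))) (.node (.node (.leaf (3, 8, 1)) (.leaf (9, 16, 2))) (.leaf (6, 10, 5))))))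

/-- data -/
def pot3 : Trie (Vec) := .node (.node (.node (.node (.node (.leaf ([])) (.leaf ([4]))) (.node (.leaf ([2])) (.leaf ([4])))) (.node (.node (.leaf ([3])) (.leaf ([4]))) (.leaf ([4])))) (.node (.node (.node (.leaf ([2])) (.leaf ([4]))) (.node (.leaf ([4])) (.leaf ([5])))) (.node (.node (.leaf ([2])) (.leaf ([4]))) (.leaf ([3]))))) (.node (.node (.node (.node (.leaf ([1])) (.leaf ([4]))) (.node (.leaf ([4])) (.leaf ([6])))) (.node (.node (.leaf ([3])) (.leaf ([4]))) (.leaf ([5])))) (.node (.node (.node (.leaf ([2])) (.leaf ([6]))) (.leaf ([3]))) (.node (.node (.leaf ([3])) (.leaf ([3]))) (.leaf ([3])))))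

/-- the table -/
def table3 : Table where
  size := 27
  ngen := 3
  next g x := next3.get (3 * g + x)
  prev g x := prev3.get (3 * g + x)
  lab g x := lab3.get (3 * g + x)
  val g x := val3.get (3 * g + x)
  rank g x := rank3.get (3 * g + x)
  tree g := tree3.get g
  cert j := cert3.get j
  nded := 55
  rels := [⟨[(1, true), (0, false)], [(0, true)], []⟩,
    ⟨[(2, true), (0, true), (1, true), (0, false), (2, false)], [(1, true)], []⟩,
    ⟨[(1, true), (1, true)], [], [0, 0, 0, 0, 1]⟩,
    ⟨[(2, true), (2, true)], [], [0, 0, 0, 0, 0, 1]⟩,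
    ⟨[(0, true), (0, true), (0, true), (0, true)], [], [0, 0, 0, 0, 0, 0, 1]⟩,
    ⟨[(1, true), (2, true), (1, true), (2, true), (1, true), (2, true)], [], [0, 0, 0, 0, 0, 0, 0, 1]⟩,
    ⟨[(0, true), (2, true), (0, true), (1, true), (0, true), (2, false), (0, true), (1, false)], [], [0, 0, 0, 0, 0, 0, 0, 0, 1]⟩,
    ⟨[(0, true), (1, true), (0, true), (1, true), (0, true), (1, true), (0, true), (1, true)], [], [0, 0, 0, 0, 0, 0, 0, 0, 0, 1]⟩,
    ⟨[(0, true), (2, true), (0, true), (2, true), (0, true), (2, true), (0, true), (2, true)], [], [0, 0, 0, 0, 0, 0, 0, 0, 0, 0, 1]⟩,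
    ⟨[(0, true), (0, true), (1, true), (0, true), (0, true), (1, false), (0, false), (0, false), (1, false)], [], [0, 0, 0, 0, 0, 0, 0, 0, 0, 0, 0, 1]⟩,
    ⟨[(0, true), (0, true), (2, true), (0, true), (0, true), (2, false), (0, false), (0, false), (2, false)], [], [0, 0, 0, 0, 0, 0, 0, 0, 0, 0, 0, 0, 1]⟩]
  pot g := pot3.get g
  innerSize := 36
  innerGen := 2

/-- the table with its checks -/
def level3 : CfsgLib.Sporadic.ChainLevel where
  table := table3
  gexp := [[1, 0], [0, 0], [2, 0]]
  perm := [87165215929113007617741822571423767636732352895422310630496846610586061042121069277459714691459689338817151163166817450352070459874833373707971178674691897744360736102308724425059684923673351828483633510157185615531897227741145226876979905727614654501089698508774079916206837741202934659974610841577760123098618096394097916078548472863956577056801948825989620843475503533970638779547023897060216962720006102608606673277463843976866695782469315392364374762732136136092594961243061118639812722588257016535524435752999628494729551788074891046812814660097545463363075995357424956400313276254182193226854050440431702095477294901566768120465726861743885501403705119334530820389842585105596063762978431483528268917467553781979787418816453473645952829563144711797044877381022904494592473980177093527150668935717265205896112875091538944,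 182104090772259986273104066292319640275693517524459580713517140283728463711101043760906070330042106289994044780090271404572521068806904555146635571443773655824195865401688479633762331407966783865700810796176862284807978903858156713953169240074094905175598623703859743302446830729917874491846189408891745036563416783660607991690641189756034710641248483279063707902330703197111947239971963796871056014179691549574063083369535980027821615652316905165555757195460484311647466132079757088426641017503360760954181544746690208024214449533158298547805192342357054057300756213554825477011329585709006777520950309477012875822058935397931623854928905784523808488597388398392776692686884755576877851580010733155093959784207898623982328295786573138949826456151409604053987738886554942968519373687056414173338013654549429385516619972565088256, 1821047373324334167647301816369810079574443900843336730568527244710468720118750423090207019617400138092801356535514266454471123867418223993707792662336893517282306261307646693171942922854055615198434339926427124403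84571108893926138352893286535008096827244943907722216192975093169064886249930685812402819110729367276823929045117910440328252422456257743565772318666645010326641172751512817838408903206281967791496300701786886250624814274692037711970605693905552558376357412722971310548286757988567216305119660306250075152022333074607421722995867125399686328741811252607323113402265615230932036804682967187673243369069449358239923563358901138185506550493812271543567553129050735076864507642232398231361365770780379487830633691845493080097484589170632320387347937855498210540940089265354182471223290553404246720378599847354480726016]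
  pinv := [87165179231675973682595756792338948585870004108733607220666987397414166670539023416001924039840145882571667852292888403081883324052007379104851412964927914855349781960941373261887466707355922086247430785764976394891314824960191988119353524210367428288340692651820513531148306369219337901242488737173123933686958039681330747593733061193741526462805134517862666540969243571832839477598964306622411431705833186638612875864512739054178344073135822586094352688456577642542894909161357437446480165021192090122085738757512766569763407580633523943222645375859163988037323082804517984587280940651415265231604746145714216898890807117409724220306247026453350983346637052165759608800993801559981012311473819535687253302752754200320892563324056336842639552442997038596324443450219328974265156655760760055367145087582689479629240583242987520, 182104090772259986273104066292319640275693517524459580713517140283728463711101043760906070330042106289994044780090271404572521068806904555146635571443773655824195865401688479633762331407966783865700810796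176862284807978903858156713953169240074094905175598623703859743302446830729917874491846189408891745036563416783660607991690641189756034710641248483279063707902330703197111947239971963796871056014179691549574063083369535980027821615652316905165555757195460484311647466132079757088426641017503360760954181544746690208024214449533158298547805192342357054057300756213554825477011329585709006777520950309477012875822058935397931623854928905784523808488597388398392776692686884755576877851580010733155093959784207898623982328295786573138949826456151409604053987738886554942968519373687056414173338013654549429385516619972565088256, 182104737332433416764730181636981007957444390084333673056852724471046872011875042309020701961740013809280135653551426645447112386741822399370779266233689351728230626130764669317194292285405561519843433992642712440384571108893926138352893286535008096827244943907722216192975093169064886249930685812402819110729367276823929045117910440328252422456257743565772318666645010326641172751512817838408903206281967791496300701786886250624814274692037711970605693905552558376357412722971310548286757988567216305119660306250075152022333074607421722995867125399686328741811252607323113402265615230932036804682967187673243369069449358239923563358901138185506550493812271543567553129050735076864507642232398231361365770780379487830633691845493080097484589170632320387347937855498210540940089265354182471223290553404246720378599847354480726016]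
  defs := [[(1, true), (0, false)], [(2, true), (0, true), (1, true), (0, false), (2, false)]]
  eqs := [(2, 5, [1, 0, 0, 0, (-1)]),
    (2, 19, [0, 0, 0, 0, (-1), 0, 1, 0, 0, 0, 0, (-2)]),
    (4, 9, [0, 0, 0, 0, 0, 1, (-1), 0, 0, 0, 0, 0, 2]),
    (5, 5, [1, 0, 0, 0, 1, 2, (-1), (-1), 0, 0, 0, 1, 1]),
    (6, 1, [0, 0, 0, 0, 0, 0, 3, 0, (-3)]),
    (7, 7, [6, 3, (-3)]),
    (8, 16, [1, (-1), 0, 2]),
    (10, 6, [0, (-1), 0, 1, 0, 1, 0, (-1), 0, 1, 0, (-2), (-1)])]
  pts := [1]

end

end CfsgLib.LocalEvenB.McLCover
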