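import Mathlib
import Cfsg.Agent.Lib.Sporadic.ChainCertificate

/-!
# Coset table 4 of a chain for the McLaughlin group
-/

set_option autoImplicit false
set_option maxRecDepth 100000
set_option maxHeartbeats 0
set_option Elab.async false

namespace CfsgLib.LocalEvenB.McLCover

open CfsgLib.Schur.Cert

noncomputable section

/-- data -/
def next4 : Trie (ℕ) := .node (.node (.node (.node (.node (.node (.node (.leaf 1) (.leaf 33)) (.leaf 23)) (.node (.leaf 13) (.leaf 30))) (.node (.node (.leaf 8) (.leaf 4)) (.node (.leaf 16) (.leaf 31)))) (.node (.node (.node (.node (.leaf 5) (.leaf 35)) (.leaf 21)) (.node (.leaf 17) (.leaf 29))) (.node (.node (.leaf 0) (.leaf 28)) (.node (.leaf 22) (.leaf 10))))) (.node (.node (.node (.node (.node (.leaf 3) (.leaf 19)) (.leaf 24)) (.node (.leaf 15) (.leaf 11))) (.node (.node (.leaf 9) (.leaf 25)) (.node (.leaf 20) (.leaf 34)))) (.node (.node (.node (.node (.leaf 6) (.leaf 26)) (.leaf 27)) (.node (.leaf 18) (.leaf 32))) (.node (.node (.leaf 12) (.leaf 7)) (.node (.leaf 2) (.leaf 14)))))) (.node (.node (.node (.node (.node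 (.node (.leaf 2) (.leaf 35)) (.leaf 9)) (.node (.leaf 14) (.leaf 31))) (.node (.node (.leaf 1) (.leaf 27)) (.node (.leaf 19) (.leaf 33)))) (.node (.node (.node (.node (.leaf 0) (.leaf 30)) (.leaf 26)) (.node (.leaf 5) (.leaf 18))) (.node (.node (.leaf 11) (.leaf 15)) (.node (.leaf 8) (.leaf 34))))) (.node (.node (.node (.node (.node (.leaf 4) (.leaf 28)) (.leaf 25)) (.node (.leaf 16) (.leaf 17))) (.node (.node (.leaf 10) (.leaf 13)) (.node (.leaf 21) (.leaf 23)))) (.node (.node (.node (.node (.leaf 7) (.leaf 32)) (.leaf 12)) (.node (.leaf 6) (.leaf 20))) (.node (.node (.leaf 3) (.leaf 29)) (.node (.leaf 22) (.leaf 24))))))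

/-- data -/
def prev4 : Trie (ℕ) := .node (.node (.node (.node (.node (.node (.node (.leaf 6) (.leaf 27)) (.leaf 12)) (.node (.leaf 4) (.leaf 17))) (.node (.node (.leaf 20) (.leaf 13)) (.node (.leaf 7) (.leaf 22)))) (.node (.node (.node (.node (.leaf 15) (.leaf 29)) (.leaf 11)) (.node (.leaf 30) (.leaf 35))) (.node (.node (.leaf 3) (.leaf 14)) (.node (.leaf 31) (.leaf 24))))) (.node (.node (.node (.node (.node (.leaf 0) (.leaf 32)) (.leaf 10)) (.node (.leaf 5) (.leaf 21))) (.node (.node (.leaf 2) (.leaf 18)) (.node (.leaf 8) (.leaf 26)))) (.node (.node (.node (.node (.leaf 1) (.leaf 34)) (.leaf 33)) (.node (.leaf 25) (.leaf 19))) (.node (.node (.leaf 23) (.leaf 16)) (.node (.leaf 9) (.leaf 28)))))) (.node (.node (.node (.node (.node (.node (.leaf 2) (.leaf 35)) (.leaf 9)) (.node (.leaf 14) (.leaf 31))) (.node (.node (.leaf 1) (.leaf 27)) (.node (.leaf 19) (.leaf 33)))) (.node (.node (.node (.node (.leaf 0) (.leaf 30)) (.leaf 26)) (.node (.leaf 5) (.leaf 18))) (.node (.node (.leaf 11) (.leaf 15)) (.node (.leaf 8) (.leaf 34))))) (.node (.node (.node (.node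 (.node (.leaf 4) (.leaf 28)) (.leaf 25)) (.node (.leaf 16) (.leaf 17))) (.node (.node (.leaf 10) (.leaf 13)) (.node (.leaf 21) (.leaf 23)))) (.node (.node (.node (.node (.leaf 7) (.leaf 32)) (.leaf 12)) (.node (.leaf 6) (.leaf 20))) (.node (.node (.leaf 3) (.leaf 29)) (.node (.leaf 22) (.leaf 24))))))

/-- data -/
def lab4 : Trie (Word) := .node (.node (.node (.node (.node (.node (.node (.leaf ([])) (.leaf ([]))) (.leaf ([]))) (.node (.leaf ([])) (.leaf ([])))) (.node (.node (.leaf ([])) (.leaf ([]))) (.node (.leaf ([])) (.leaf ([]))))) (.node (.node (.node (.node (.leaf ([])) (.leaf ([]))) (.leaf ([]))) (.node (.leaf ([])) (.leaf ([])))) (.node (.node (.leaf ([])) (.leaf ([]))) (.node (.leaf ([])) (.leaf ([])))))) (.node (.node (.node (.node (.node (.leaf ([])) (.leaf ([]))) (.leaf ([]))) (.node (.leaf ([])) (.leaf ([])))) (.node (.node (.leaf ([])) (.leaf ([]))) (.node (.leaf ([])) (.leaf ([]))))) (.node (.node (.node (.node (.leaf ([])) (.leaf ([]))) (.leaf ([]))) (.node (.leaf ([])) (.leaf ([])))) (.node (.node (.leaf ([])) (.leaf ([]))) (.node (.leaf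 ([])) (.leaf ([]))))))) (.node (.node (.node (.node (.node (.node (.leaf ([])) (.leaf ([]))) (.leaf ([]))) (.node (.leaf ([])) (.leaf ([])))) (.node (.node (.leaf ([])) (.leaf ([]))) (.node (.leaf ([])) (.leaf ([]))))) (.node (.node (.node (.node (.leaf ([])) (.leaf ([]))) (.leaf ([]))) (.node (.leaf ([])) (.leaf ([])))) (.node (.node (.leaf ([])) (.leaf ([]))) (.node (.leaf ([])) (.leaf ([])))))) (.node (.node (.node (.node (.node (.leaf ([])) (.leaf ([]))) (.leaf ([]))) (.node (.leaf ([])) (.leaf ([])))) (.node (.node (.leaf ([])) (.leaf ([]))) (.node (.leaf ([])) (.leaf ([]))))) (.node (.node (.node (.node (.leaf ([])) (.leaf ([]))) (.leaf ([]))) (.node (.leaf ([])) (.leaf ([])))) (.node (.node (.leaf ([])) (.leaf ([]))) (.node (.leaf ([])) (.leaf ([])))))))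

/-- data -/
def val4 : Trie (Vec) := .node (.node (.node (.node (.node (.node (.node (.leaf ([])) (.leaf ([(-2), (-1), 1, 1]))) (.leaf ([]))) (.node (.leaf ([])) (.leaf ([])))) (.node (.node (.leaf ([])) (.leaf ([0, 1]))) (.node (.leaf ([0, 0, 0, 1])) (.leaf ([(-2), (-1), 1, 1]))))) (.node (.node (.node (.node (.leaf ([])) (.leaf ([]))) (.leaf ([0, 0, 0, 1]))) (.node (.leaf ([])) (.leaf ([4, 2, (-2), 1])))) (.node (.node (.leaf ([0, 1])) (.leaf ([]))) (.node (.leaf ([])) (.leaf ([0, 1])))))) (.node (.node (.node (.node (.node (.leaf ([])) (.leaf ([3, 1, (-1), 1]))) (.leaf ([]))) (.node (.leaf ([])) (.leaf ([(-1), (-1), 1])))) (.node (.node (.leaf ([])) (.leaf ([2, 1, (-1), 1]))) (.node (.leaf ([])) (.leaf ([]))))) (.node (.node (.node (.node (.leaf ([])) (.leaf ([(-3), (-2), 2, 1]))) (.leaf ([]))) (.node (.leaf ([])) (.leaf ([])))) (.node (.node (.leaf ([])) (.leaf ([1, 0, 0, 1]))) (.node (.leaf ([0, 1])) (.leaf ([3, 1, (-1), 1]))))))) (.node (.node (.node (.node (.node (.node (.leaf ([])) (.leaf ([]))) (.leaf ([1]))) (.node (.leaf ([])) (.leaf ([]))))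 (.node (.node (.leaf ([1])) (.leaf ([2, 1, (-1)]))) (.node (.leaf ([])) (.leaf ([]))))) (.node (.node (.node (.node (.leaf ([1])) (.leaf ([(-1), (-1), 1]))) (.leaf ([]))) (.node (.leaf ([1])) (.leaf ([1])))) (.node (.node (.leaf ([])) (.leaf ([(-1), (-1), 1]))) (.node (.leaf ([1])) (.leaf ([2, 1, (-1)])))))) (.node (.node (.node (.node (.node (.leaf ([])) (.leaf ([1]))) (.leaf ([]))) (.node (.leaf ([])) (.leaf ([1])))) (.node (.node (.leaf ([])) (.leaf ([1]))) (.node (.leaf ([])) (.leaf ([1]))))) (.node (.node (.node (.node (.leaf ([])) (.leaf ([1]))) (.leaf ([1]))) (.node (.leaf ([1])) (.leaf ([(-1), (-1), 1])))) (.node (.node (.leaf ([1])) (.leaf ([]))) (.node (.leaf ([2, 1, (-1)])) (.leaf ([1])))))))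

/-- data -/
def rank4 : Trie (ℕ) := .node (.node (.node (.node (.node (.node (.node (.leaf 0) (.leaf 32)) (.leaf 0)) (.node (.leaf 0) (.leaf 0))) (.node (.node (.leaf 0) (.leaf 18)) (.node (.leaf 27) (.leaf 31)))) (.node (.node (.node (.node (.leaf 0) (.leaf 34)) (.leaf 28)) (.node (.leaf 0) (.leaf 37))) (.node (.node (.leaf 16) (.leaf 0)) (.node (.leaf 0) (.leaf 19))))) (.node (.node (.node (.node (.node (.leaf 0) (.leaf 35)) (.leaf 0)) (.node (.leaf 0) (.leaf 22))) (.node (.node (.leaf 0) (.leaf 30)) (.node (.leaf 0) (.leaf 0)))) (.node (.node (.node (.node (.leaf 0) (.leaf 36)) (.leaf 0)) (.node (.leaf 0) (.leaf 0))) (.node (.node (.leaf 0) (.leaf 29)) (.node (.leaf 17) (.leaf 33)))))) (.node (.node (.node (.node (.node (.node (.leaf 0) (.leaf 0)) (.leaf 7)) (.node (.leaf 0) (.leaf 0))) (.node (.node (.leaf 2) (.leaf 25)) (.node (.leaf 0) (.leaf 0)))) (.node (.node (.node (.node (.leaf 1) (.leaf 23)) (.leaf 0)) (.node (.leaf 4) (.leaf 11))) (.node (.node (.leaf 0) (.leaf 20)) (.node (.leaf 6) (.leaf 26))))) (.node (.node (.node (.node (.node (.leaf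 0) (.leaf 14)) (.leaf 0)) (.node (.leaf 0) (.leaf 10))) (.node (.node (.leaf 0) (.leaf 9)) (.node (.leaf 0) (.leaf 12)))) (.node (.node (.node (.node (.leaf 0) (.leaf 15)) (.leaf 8)) (.node (.leaf 5) (.leaf 21))) (.node (.node (.leaf 3) (.leaf 0)) (.node (.leaf 24) (.leaf 13))))))

/-- data -/
def tree4 : Trie (ℕ × ℕ) := .node (.node (.node (.node (.node (.node (.leaf (0, 0)) (.leaf (27, 0))) (.leaf (9, 1))) (.node (.leaf (4, 0)) (.leaf (17, 0)))) (.node (.node (.leaf (1, 1)) (.leaf (13, 0))) (.node (.leaf (7, 0)) (.leaf (22, 0))))) (.node (.node (.node (.node (.leaf (0, 1)) (.leaf (29, 0))) (.leaf (11, 0))) (.node (.leaf (5, 1)) (.leaf (18, 1)))) (.node (.node (.leaf (3, 0)) (.leaf (14, 0))) (.node (.leaf (8, 1)) (.leaf (24, 0)))))) (.node (.node (.node (.node (.node (.leaf (0, 0)) (.leaf (28, 1))) (.leaf (10, 0))) (.node (.leaf (5, 0)) (.leaf (17, 1)))) (.node (.node (.leaf (2, 0)) (.leaf (13, 1))) (.node (.leaf (8, 0)) (.leaf (23, 1))))) (.node (.node (.node (.node (.leaf (1, 0)) (.leaf (32, 1))) (.leaf (12, 1))) (.node (.leaf (6, 1)) (.leaf (19, 0))))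 (.node (.node (.leaf (3, 1)) (.leaf (16, 0))) (.node (.leaf (9, 0)) (.leaf (24, 1))))))

/-- data -/
def cert4 : Trie (ℕ × ℕ × ℕ) := .node (.node (.node (.node (.node (.node (.leaf (0, 0, 1)) (.leaf (3, 10, 3))) (.leaf (1, 2, 3))) (.node (.leaf (0, 13, 1)) (.leaf (0, 20, 0)))) (.node (.node (.node (.leaf (0, 6, 1)) (.leaf (3, 18, 7))) (.leaf (2, 1, 5))) (.node (.leaf (0, 24, 1)) (.leaf (3, 2, 4))))) (.node (.node (.node (.node (.leaf (0, 3, 1)) (.leaf (3, 14, 3))) (.leaf (1, 10, 3))) (.node (.leaf (0, 18, 1)) (.leaf (3, 0, 4)))) (.node (.node (.leaf (0, 9, 1)) (.leaf (2, 5, 5))) (.node (.leaf (0, 32, 1)) (.leaf (3, 5, 4)))))) (.node (.node (.node (.node (.node (.leaf (0, 1, 1)) (.leaf (3, 12, 4))) (.leaf (1, 4, 3))) (.node (.leaf (0, 17, 1)) (.leaf (0, 30, 0)))) (.node (.node (.leaf (0, 8, 1)) (.leaf (2, 2, 4))) (.node (.leaf (0, 28, 1)) (.leaf (3, 4, 3))))) (.node (.node (.node (.node (.leaf (0, 5, 1)) (.leaf (3, 17, 4))) (.leaf (2, 0, 5))) (.node (.leaf (0, 23, 1)) (.leaf (3, 1, 4)))) (.node (.node (.leaf (0, 12, 1)) (.leaf (0, 15, 0))) (.node (.leaf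 (1, 0, 3)) (.leaf (3, 8, 4))))))

/-- data -/
def pot4 : Trie (Vec) := .node (.node (.node (.node (.node (.node (.leaf ([])) (.leaf ([(-5)]))) (.leaf ([(-2)]))) (.node (.leaf ([(-2)])) (.leaf ([(-3)])))) (.node (.node (.leaf ([(-1)])) (.leaf ([(-4)]))) (.node (.leaf ([(-3)])) (.leaf ([(-4)]))))) (.node (.node (.node (.node (.leaf ([])) (.leaf ([(-4)]))) (.leaf ([(-4)]))) (.node (.leaf ([(-1)])) (.leaf ([(-4)])))) (.node (.node (.leaf ([(-3)])) (.leaf ([(-3)]))) (.node (.leaf ([(-2)])) (.leaf ([(-4)])))))) (.node (.node (.node (.node (.node (.leaf ([(-1)])) (.leaf ([(-4)]))) (.leaf ([(-2)]))) (.node (.leaf ([(-2)])) (.leaf ([(-2)])))) (.node (.node (.leaf ([(-1)])) (.leaf ([(-3)]))) (.node (.leaf ([(-3)])) (.leaf ([(-3)]))))) (.node (.node (.node (.node (.leaf ([(-2)])) (.leaf ([(-5)]))) (.leaf ([(-3)]))) (.node (.leaf ([(-3)])) (.leaf ([(-4)])))) (.node (.node (.leaf ([(-2)])) (.leaf ([(-3)]))) (.node (.leaf ([(-3)])) (.leaf ([(-3)]))))))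

/-- the table -/
def table4 : Table where
  size := 36
  ngen := 2
  next g x := next4.get (2 * g + x)
  prev g x := prev4.get (2 * g + x)
  lab g x := lab4.get (2 * g + x)
  val g x := val4.get (2 * g + x)
  rank g x := rank4.get (2 * g + x)
  tree g := tree4.get g
  cert j := cert4.get j
  nded := 37
  rels := [⟨[(1, true), (1, true)], [], [1]⟩,
    ⟨[(0, true), (0, true), (0, true), (0, true)], [], [0, 1]⟩,
    ⟨[(0, true), (1, true), (0, true), (1, true), (0, true), (1, true), (0, true), (1, true)], [], [0, 0, 1]⟩,
    ⟨[(0, true), (0, true), (1, true), (0, true), (0, true), (1, false), (0, false), (0, false), (1, false)], [], [0, 0, 0, 1]⟩]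
  pot g := pot4.get g
  innerSize := 1
  innerGen := 0

/-- the table with its checks -/
def level4 : CfsgLib.Sporadic.ChainLevel where
  table := table4
  gexp := [[(-1), 0], [0, 0]]
  perm := [87147695958747291555000900144770766861210324207830864903624291203694705608005355870074837921703266821694805916563795762911450963179096466018724548588158227686057660685974189510595558642308721496586353041555121083057937540993360739337729601207516136172641867145451205161469014290085863896606378879361335938093462755001101234647434436718468630253919200445722199786272823499141598971634746094032858580008678539565122102143365862864760129520263045930933751743781175826800814300360785676697549466259608475787169596885992093471792055401430018541060124923066774553113649703301246768408878022204105666899806206585091509911656921008807952415195158374749648255381204032998098741966211052975307924967003788017372464642050587768905786729852494364441418876645646044762985749687902129655235333563837109607832940269593956738950868416139887616, 1821170601268837528753942842261042711741203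42876092936523535347108672796509683321069728890881332248560098783724749130312642162421906609008875157613293334648146789233170127260603520132509625814501209042292210145411159298850765384902883529067207282514838113844661081073275894429454663299457000658025570847969134431324665970946457598982961281947221714752150603192933349693271521419527515423019674379434320550932030843168747624210230104960535957086448985463060840693821354408767659830890677698612252378719195163378245907554738271929414093790132019089205688673499747160707355370573175599447090708628930974160141595503340341025904297326777104863972137536061182565740718551942020206305551695400142204453536394254619602818361665130551525506240207557667961632078201631047836735920832118731835969249000136949968443309031990596993866007552]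
  pinv := [87163919025192825822002376142719259306176872748811853637414928431350668219358035851941344513653014645848190357844278251384440368819258212968192523732053099192780306701450519044120134427105852708429027848489429454785636577741153005257251714916886104243092828190968957133297096438356568115039142327942701724435707908148608774036194220461216682066484783187086727276424460058359140773494363646126346148679816378502890216192793992834099311320652488416117349749478815758505718099093067498469396311850756134504395218596590405989813384867859235814408306374568884112691943709428984490759969230339711509094731886769189435556626375679501838038158325632723628030544779061520562014252653144516256533768086369090333553587329686501303640963385128102455568983198671247134999890223130639414193248356473141218587003629983245136449913939082347520, 18211706012688375287539428422610427117412034287609293652353534710867279650968332106972889088133224856009878372474913031264216242190660900887515761329333464814678923317012726060352013250962581450120904229221014541115929885076538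4902883529067207282514838113844661081073275894429454663299457000658025570847969134431324665970946457598982961281947221714752150603192933349693271521419527515423019674379434320550932030843168747624210230104960535957086448985463060840693821354408767659830890677698612252378719195163378245907554738271929414093790132019089205688673499747160707355370573175599447090708628930974160141595503340341025904297326777104863972137536061182565740718551942020206305551695400142204453536394254619602818361665130551525506240207557667961632078201631047836735920832118731835969249000136949968443309031990596993866007552]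
  defs := []
  eqs := []
  pts := [3, 2]

end

end CfsgLib.LocalEvenB.McLCover
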