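import Mathlib
import Cfsg.Agent.Lib.LocalEvenB.McLCover.Data
import Cfsg.Agent.Lib.LocalEvenB.McLCover.TransferData

/-!
# Checks of the coset representatives and factors
-/

set_option autoImplicit false
set_option maxRecDepth 100000
set_option maxHeartbeats 0
set_option Elab.async false

namespace CfsgLib.LocalEvenB.McLCover

open CfsgLib.Schur.Cert CfsgLib.Sporadic

/-- one coset -/
noncomputable def repOKOne (i : ℕ) : Bool := ((repWord i).all fun l => Nat.blt l.1 2) && forallLt 275 fun p => Nat.beq (wordImgN level0.perm level0.pinv (repWord i) p) (pgetN (repPerm i) p)

theorem repOK_0 : ((List.range' 0 55).all repOKOne) = true := by decide +kernel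

theorem repOK_1 : ((List.range' 55 55).all repOKOne) = true := by decide +kernel

theorem repOK_2 : ((List.range' 110 55).all repOKOne) = true := by decide +kernel

theorem repOK_3 : ((List.range' 165 55).all repOKOne) = true := by decide +kernel

theorem repOK_4 : ((List.range' 220 55).all repOKOne) = true := by decide +kernel

theorem repOK_all : ∀ i < 275, repOKOne i = true := by
  intro i hi
  have h : (List.range 275).all repOKOne = true := by
    rw [show List.range 275 = List.range' 0 55 ++ List.range' 55 55 ++ List.range' 110 55 ++ List.range' 165 55 ++ List.range' 220 55 from by decide +kernel]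
    simp only [List.all_append, Bool.and_self, repOK_0, repOK_1, repOK_2, repOK_3, repOK_4]
  exact List.all_eq_true.1 h i (List.mem_range.2 hi)

end CfsgLib.LocalEvenB.McLCover
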