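import Mathlib
import Cfsg.Agent.Lib.Schur.MonomialWitness
import Cfsg.Agent.Lib.LocalEvenB.McLCover.InnerData
import Cfsg.Agent.Lib.LocalEvenB.McLCover.MonData
import Cfsg.Agent.Lib.LocalEvenB.McLCover.RepChecks
import Cfsg.Agent.Lib.LocalEvenB.McLCover.FacChecksX
import Cfsg.Agent.Lib.LocalEvenB.McLCover.FacChecksY

/-!
# Checks of the witness
-/

set_option autoImplicit false
set_option maxRecDepth 100000
set_option maxHeartbeats 0
set_option Elab.async false

namespace CfsgLib.LocalEvenB.McLCover

open CfsgLib.Schur.Cert CfsgLib.Sporadic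

theorem monK_check : monOK 126 3 chainK monK = true := by decide +kernel

theorem gens_perm_check : (forallLt 275 fun p => Nat.blt (pgetN xPerm p) 275 && Nat.blt (pgetN yPerm p) 275 &&
    Nat.beq (wordImgN level0.perm level0.pinv xWord p) (pgetN xPerm p) && Nat.beq (wordImgN level0.perm level0.pinv yWord p) (pgetN yPerm p) &&
    Nat.beq (pgetN xPerm (pgetN yPerm p)) (pgetN yPerm (pgetN xPerm p)) &&
    Nat.beq (pgetN (repPerm p) 0) p) = true := by decide +kernel

theorem words_small : ((xWord ++ yWord).all fun l => Nat.blt l.1 2) = true := by decide +kernel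

theorem value_check :
    (∑ i ∈ Finset.range 275, meval 3 (monK.getD 0 ([], [])).1 (monK.getD 0 ([], [])).2 (crdX (pgetN yPerm i) ++ crdY i) 0) % 3 ≠
      (∑ i ∈ Finset.range 275, meval 3 (monK.getD 0 ([], [])).1 (monK.getD 0 ([], [])).2 (crdY (pgetN xPerm i) ++ crdX i) 0) % 3 := by
  decide +kernel

end CfsgLib.LocalEvenB.McLCover
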