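import Cfsg.Agent.Lib.LocalEvenB.McLCover.Action
import Cfsg.Agent.Lib.LocalEvenB.McLCover.Cocycle
import Cfsg.Agent.Lib.LocalEvenB.McLCover.Checks
import Cfsg.Agent.Lib.LocalEvenB.McLCover.InnerChecks
import Cfsg.Agent.Lib.LocalEvenB.McLCover.WitnessChecks

/-!
# The Schur multiplier of the McLaughlin group has order three

A chain of coset tables gives the bound. A monomial cover of the point stabiliser gives a cocycle there;
transferred along the 275 cosets it takes a nonzero commutator value on two commuting elements of order three.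
-/

set_option autoImplicit false
set_option maxRecDepth 100000

namespace CfsgLib.LocalEvenB.McLCover

open Cfsg CfsgLib.Sporadic CfsgLib.Schur.Cert CfsgLib.Sporadic.Conway
open CfsgLib.Schur.TransferCocycle (Cocycle Ext certCocycle cert_value)

attribute [local instance] finite_G

theorem size_check : (chainPerm chain).length = 2 ∧ chainGen chain = 2 ∧ chainSize chain = 898128000 ∧
    lin.bound = 3 ∧ (chainPerm chainK).length = 2 ∧ chainGen chainK = 2 ∧ chainSize chainK = 3265920 ∧
    ((level0.defs.getD 0 []).all fun l => Nat.blt l.1 2) = true ∧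
    ((level0.defs.getD 1 []).all fun l => Nat.blt l.1 2) = true ∧
    (forallLt 2 fun j => forallLt 275 fun p => Nat.beq (pgetN (level0.pinv.getD j 0) (pgetN (level0.perm.getD j 0) p)) p) = true ∧
    (forallLt 2 fun j => forallLt 275 fun p => Nat.beq (pgetN (level1.pinv.getD j 0) (pgetN (level1.perm.getD j 0) p)) p) = true ∧
    (forallLt 2 fun j => forallLt 275 fun p =>
      Nat.beq (wordImgN level0.perm level0.pinv (level0.defs.getD j []) p) (pgetN (level1.perm.getD j 0) p)) = true ∧
    (forallLt 2 fun j => Nat.beq (pgetN (level1.perm.getD j 0) 0) 0) = true := by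
  decide +kernel

theorem card_ker_le_three {Γ : Type*} [Group Γ] [Finite Γ] (σ : Γ →* ↥G)
    (hσ : Cfsg.IsStemExtension σ) : Nat.card σ.ker ≤ 3 := by
  obtain ⟨hlen, hgen, hsize, hbound, -⟩ := size_check
  rw [← hbound]
  exact card_ker_le_of_chainN act act_injective chain lin rows 2 exists_gen hlen hgen perms_check
    rows_check.1 tables_check (rows_check.2.trans (by decide +kernel)) (card_fix_mcl.trans hsize.symm)
    lin_check σ hσ

/-- The two generators. -/
noncomputable def gA (j : ℕ) : ↥G := if h : j < 2 then (exists_gen j h).choose else 1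

theorem rep_gA (j : ℕ) (hj : j < 2) : RepN (act (gA j)) (level0.perm.getD j 0) := by
  simp only [gA, dif_pos hj]
  exact (exists_gen j hj).choose_spec

theorem img_gA {w : Word} (hw : (w.all fun l => Nat.blt l.1 2) = true) (p : Fin 275) :
    wordImgN level0.perm level0.pinv w p = (act (wval gA w) p : ℕ) := by
  simp only [List.all_eq_true, Nat.blt_eq] at hw
  exact wordImgN_spec act (m := 2) rep_gA
    (fun j hj => RepN.inv (rep_gA j hj) (forallLt_elim size_check.2.2.2.2.2.2.2.2.2.1 hj)) w hw p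

/-- The first point. -/
def base : Fin 275 := ⟨0, by norm_num⟩

/-- The point stabiliser. -/
noncomputable def K : Subgroup ↥G := (MulAction.stabilizer (Equiv.Perm (Fin 275)) base).comap act

theorem mem_K {g : ↥G} : g ∈ K ↔ act g base = base := Iff.rfl

/-- The generators of the point stabiliser. -/
noncomputable def cG (j : ℕ) : ↥G := if j < 2 then wval gA (level0.defs.getD j []) else 1

theorem rep_cG (j : ℕ) (hj : j < 2) : RepN (act (cG j)) (level1.perm.getD j 0) := fun p => by
  obtain ⟨-, -, -, -, -, -, -, h0, h1, -, -, hd, -⟩ := size_check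
  have hv : ((level0.defs.getD j []).all fun l => Nat.blt l.1 2) = true := by
    match j, hj with
    | 0, _ => exact h0
    | 1, _ => exact h1
  simp only [cG, if_pos hj]
  rw [← img_gA hv p]
  exact (Nat.eq_of_beq_eq_true (forallLt_elim (forallLt_elim hd hj) p.isLt)).symm

theorem cG_mem (j : ℕ) : cG j ∈ K := by
  by_cases hj : j < 2
  · rw [mem_K]
    refine Fin.ext ?_
    rw [← rep_cG j hj base]
    exact Nat.eq_of_beq_eq_true (forallLt_elim size_check.2.2.2.2.2.2.2.2.2.2.2.2 hj)
  · simp only [cG, if_neg hj, one_mem]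

/-- The generators, in the subgroup. -/
noncomputable def cK (j : ℕ) : ↥K := ⟨cG j, cG_mem j⟩

/-- The action of the point stabiliser. -/
noncomputable def actK : ↥K →* Equiv.Perm (Fin 275) := act.comp K.subtype

theorem actK_injective : Function.Injective actK := act_injective.comp Subtype.val_injective

/-- The coset representatives. -/
noncomputable def rep (i : Fin 275) : ↥G := wval gA (repWord i)

theorem act_rep (i p : Fin 275) : pgetN (repPerm i) p = (act (rep i) p : ℕ) := by
  have h := repOK_all i i.isLt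
  simp only [repOKOne, Bool.and_eq_true] at h
  rw [show act (rep i) = act (wval gA (repWord i)) from rfl, ← img_gA h.1 p]
  exact (Nat.eq_of_beq_eq_true (forallLt_elim h.2 p.isLt)).symm

theorem rep_base (i : Fin 275) : act (rep i) base = i := by
  refine Fin.ext ?_
  rw [← act_rep i base]
  have h := forallLt_elim gens_perm_check i.isLt
  simp only [Bool.and_eq_true] at h
  exact Nat.eq_of_beq_eq_true h.2

theorem rep_bijective : Function.Bijective fun i => (QuotientGroup.mk (rep i) : ↥G ⧸ K) := by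
  refine ⟨fun i j h => ?_, fun q => ?_⟩
  · have h' := mem_K.1 (QuotientGroup.eq.1 h)
    rw [map_mul, map_inv, Equiv.Perm.mul_apply, rep_base, Equiv.Perm.inv_eq_iff_eq, rep_base] at h'
    exact h'.symm
  · induction q using QuotientGroup.induction_on with
    | H g =>
      refine ⟨act g base, QuotientGroup.eq.2 (mem_K.2 ?_)⟩
      rw [map_mul, map_inv, Equiv.Perm.mul_apply, Equiv.Perm.inv_eq_iff_eq, rep_base]

theorem card_K : Nat.card ↥K = 3265920 := by
  have h : K.index = 275 := by
    rw [Subgroup.index_eq_card, ← Nat.card_congr (Equiv.ofBijective _ rep_bijective), Nat.card_fin]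
  have h2 := K.card_mul_index
  rw [h, card_fix_mcl] at h2
  omega

theorem chainK_facts : Subgroup.closure (cK '' Set.Iio 2) = ⊤ ∧ Nat.card ↥K = chainSize chainK ∧
    ∀ w ∈ chainRels chainK top, wval cK w = 1 := by
  obtain ⟨-, -, -, -, hlen, -, hsz, -⟩ := size_check
  have htl : top.length = 2 := by simp [top]
  have hb : ∀ j < 2, wval cK (top.getD j []) = cK j := fun j hj => by
    rw [List.getD_eq_getElem _ _ (by omega)]; simp [top, wval, lett]
  obtain ⟨hrel, hsize⟩ := chain_permsN actK actK_injective cK chainK top permsK_check (by rw [hlen, htl])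
    fun j hj => by rw [htl] at hj; rw [hb j hj]; exact rep_cG j hj
  refine ⟨Subgroup.eq_top_of_le_card _ ?_, card_K.trans hsz.symm, hrel⟩
  rw [card_K, ← hsz]
  have : (fun j => wval cK (top.getD j [])) '' Set.Iio top.length = cK '' Set.Iio 2 := by
    rw [htl]; exact Set.image_congr fun j hj => hb j hj
  rwa [this] at hsize

theorem exists_mon : ∃ X : ℕ → monW 126 3, (∀ j < 2, RepM (X j).1 ((monK.getD 0 ([], [])).1.getD j 0) ∧
    RepM ((X j)⁻¹).1 ((monK.getD 0 ([], [])).2.getD j 0)) ∧
    ∀ w ∈ chainRels chainK top, wval X w ∈ Subgroup.zpowers (scalar 126 3) := by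
  obtain ⟨-, -, -, -, -, hgl, -⟩ := size_check
  have key : ∀ j < 2, ∃ σ : monW 126 3, RepM σ.1 ((monK.getD 0 ([], [])).1.getD j 0) ∧
      RepM (σ⁻¹).1 ((monK.getD 0 ([], [])).2.getD j 0) := fun j hj => by
    refine exists_repM ?_
    have h' := monK_check
    simp only [chainK] at h'
    unfold monOK at h'
    simp only [Bool.and_eq_true, List.all_eq_true, List.mem_range] at h'
    exact h'.1.1.1.1.1 j hj
  choose X hX using key
  let Y : ℕ → monW 126 3 := fun j => if h : j < 2 then X j h else 1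
  have hY : ∀ j < 2, RepM (Y j).1 ((monK.getD 0 ([], [])).1.getD j 0) ∧
      RepM ((Y j)⁻¹).1 ((monK.getD 0 ([], [])).2.getD j 0) := fun j hj => by
    simp only [Y, dif_pos hj]; exact hX j hj
  refine ⟨Y, hY, rels_scalar Y chainK _ monK monK_check (hgl.trans (by simp [top])) fun j hj => ?_⟩
  have hj' : j < 2 := by simpa [top] using hj
  rw [show (top : List Word).getD j [] = [(j, true)] by
    rw [List.getD_eq_getElem _ _ hj]; simp [top], show wval Y [(j, true)] = Y j by simp [wval, lett]]
  exact hY j hj'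

/-- The monomial generators. -/
noncomputable def monY : ℕ → monW 126 3 := exists_mon.choose

theorem monY_rep : ∀ j < 2, RepM (monY j).1 ((monK.getD 0 ([], [])).1.getD j 0) ∧
    RepM ((monY j)⁻¹).1 ((monK.getD 0 ([], [])).2.getD j 0) := exists_mon.choose_spec.1

/-- A scalar times a monomial map. -/
theorem scalar_mem_relations (w : Word) (hw : ∀ l ∈ w, l.1 < 2) (h1 : wval cK w = 1) :
    wval monY w ∈ Subgroup.zpowers (scalar 126 3) := by
  obtain ⟨-, -, -, -, -, hgl, -⟩ := size_check
  obtain ⟨hgen, hcard, harel⟩ := chainK_facts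
  rw [← QuotientGroup.eq_one_iff]
  have hcomp : (fun j => (monY j : monW 126 3 ⧸ Subgroup.zpowers (scalar 126 3))) = QuotientGroup.mk' _ ∘ monY := rfl
  have := eq_one_of_present cK (fun j => (monY j : monW 126 3 ⧸ Subgroup.zpowers (scalar 126 3))) chainK rowsK 2
    hgl rowsK_check tablesK_check hgen hcard harel (fun u hu => by
      rw [hcomp, ← map_wval]
      exact (QuotientGroup.eq_one_iff _).2 (exists_mon.choose_spec.2 u hu)) w hw h1
  rwa [hcomp, ← map_wval] at this

/-- The generators of the cover. -/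
noncomputable def cC (j : ℕ) : ↥K × monW 126 3 := (cK j, monY j)

/-- The cover of the point stabiliser. -/
noncomputable def Cover : Subgroup (↥K × monW 126 3) := Subgroup.closure (cC '' Set.Iio 2)

/-- Its projection. -/
noncomputable def coverProj : ↥Cover →* ↥K := (MonoidHom.fst _ _).comp Cover.subtype

theorem wval_cC (w : Word) : wval cC w = (wval cK w, wval monY w) := by
  refine Prod.ext ?_ ?_
  · show MonoidHom.fst _ _ (wval cC w) = _
    rw [map_wval]; rfl
  · show MonoidHom.snd _ _ (wval cC w) = _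
    rw [map_wval]; rfl

theorem wval_cC_mem {w : Word} (hw : ∀ l ∈ w, l.1 < 2) : wval cC w ∈ Cover := by
  refine Cover.list_prod_mem fun x hx => ?_
  obtain ⟨l, hl, rfl⟩ := List.mem_map.1 hx
  have hmem : cC l.1 ∈ Cover := Subgroup.subset_closure ⟨l.1, hw l hl, rfl⟩
  obtain ⟨x, s⟩ := l
  cases s
  · exact inv_mem hmem
  · exact hmem

theorem exists_word {x : ↥K × monW 126 3} (hx : x ∈ Cover) :
    ∃ w : Word, (∀ l ∈ w, l.1 < 2) ∧ wval cC w = x := by
  induction hx using Subgroup.closure_induction with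
  | mem y hy =>
    obtain ⟨j, hj, rfl⟩ := hy
    exact ⟨[(j, true)], by simpa using hj, by simp [wval, lett]⟩
  | one => exact ⟨[], by simp, rfl⟩
  | mul y z _ _ ihy ihz =>
    obtain ⟨u, hu, rfl⟩ := ihy; obtain ⟨u', hu', rfl⟩ := ihz
    exact ⟨u ++ u', fun l hl => (List.mem_append.mp hl).elim (hu l) (hu' l), wval_append _ _ _⟩
  | inv y _ ih =>
    obtain ⟨u, hu, rfl⟩ := ih
    refine ⟨winv u, fun l hl => ?_, wval_winv _ _⟩
    simp only [winv, List.mem_map, List.mem_reverse] at hl
    obtain ⟨l', hl', rfl⟩ := hl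
    exact hu l' hl'

theorem ker_scalar {x : ↥Cover} (hx : x ∈ coverProj.ker) : x.1.2 ∈ Subgroup.zpowers (scalar 126 3) := by
  obtain ⟨w, hw, e⟩ := exists_word x.2
  have h1 : wval cK w = 1 := by
    have : x.1.1 = 1 := MonoidHom.mem_ker.1 hx
    rwa [← e, wval_cC] at this
  rw [← e, wval_cC]
  exact scalar_mem_relations w hw h1

theorem coverProj_surjective : Function.Surjective coverProj := by
  rw [← MonoidHom.range_eq_top, eq_top_iff, ← chainK_facts.1, Subgroup.closure_le]
  rintro _ ⟨j, hj, rfl⟩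
  exact ⟨⟨cC j, Subgroup.subset_closure ⟨j, hj, rfl⟩⟩, rfl⟩

theorem coverProj_central : coverProj.ker ≤ Subgroup.center ↥Cover := fun x hx => by
  refine Subgroup.mem_center_iff.2 fun y => Subtype.ext (Prod.ext ?_ ?_)
  · show y.1.1 * x.1.1 = x.1.1 * y.1.1
    rw [show x.1.1 = 1 from MonoidHom.mem_ker.1 hx, one_mul, mul_one]
  · exact Subgroup.mem_center_iff.1 (scalar_central _ _ (ker_scalar hx)) _

/-- The label of a scalar. -/
noncomputable def lg (x : coverProj.ker) : ZMod 3 :=
  ((x.1.1.2.1 (⟨0, by norm_num⟩ : Fin (126 * 3)) : ℕ) : ZMod 3)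

theorem scalar_apply (k : ℕ) (e : Fin (126 * 3)) :
    ((((scalar 126 3) ^ k).1 e : ℕ) : ZMod 3) = (e : ℕ) + k := by
  rw [SubmonoidClass.coe_pow]
  show (((labShift 126 3 ^ k) e : ℕ) : ZMod 3) = _
  rw [labShift_pow]
  show (((e : ℕ) / 3 * 3 + ((e : ℕ) + k) % 3 : ℕ) : ZMod 3) = _
  rw [Nat.cast_add, Nat.cast_mul, ZMod.natCast_self, mul_zero, zero_add, ZMod.natCast_mod, Nat.cast_add]

theorem lg_apply (x : coverProj.ker) (e : Fin (126 * 3)) :
    ((x.1.1.2.1 e : ℕ) : ZMod 3) = (e : ℕ) + lg x := by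
  obtain ⟨k, hk⟩ := mem_powers_iff_mem_zpowers.2 (ker_scalar x.2)
  simp only [lg, ← hk, scalar_apply, Nat.cast_zero, zero_add]

theorem lg_mul (u v : coverProj.ker) : lg (u * v) = lg u + lg v := by
  show (((u.1.1.2 * v.1.1.2).1 (⟨0, by norm_num⟩ : Fin (126 * 3)) : ℕ) : ZMod 3) = _
  rw [Subgroup.coe_mul, Equiv.Perm.mul_apply, lg_apply, lg_apply]
  simp [add_comm]

/-- The cocycle on the point stabiliser. -/
noncomputable def cocK : Cocycle ↥K (ZMod 3) :=
  sectCocycle coverProj lg lg_mul coverProj_surjective coverProj_central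

/-- The transferred cocycle. -/
noncomputable def cocG : Cocycle ↥G (ZMod 3) := certCocycle (MonoidHom.id ↥K) rep rep_bijective cocK

/-- The two elements. -/
noncomputable def elt3 : Fin 2 → ↥G := ![wval gA xWord, wval gA yWord]

/-- Their permutations. -/
noncomputable def perm3 : Fin 2 → ℕ := ![xPerm, yPerm]

/-- Their factors as words. -/
noncomputable def fac3 : Fin 2 → ℕ → Word := ![crdX, crdY]

theorem act_elt3 (n : Fin 2) (p : Fin 275) : pgetN (perm3 n) p = (act (elt3 n) p : ℕ) := by
  have h := forallLt_elim gens_perm_check p.isLt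
  simp only [Bool.and_eq_true] at h
  have hw := words_small
  rw [List.all_append, Bool.and_eq_true] at hw
  fin_cases n
  · show pgetN xPerm p = (act (wval gA xWord) p : ℕ)
    rw [← img_gA hw.1 p]
    exact (Nat.eq_of_beq_eq_true h.1.1.1.2).symm
  · show pgetN yPerm p = (act (wval gA yWord) p : ℕ)
    rw [← img_gA hw.2 p]
    exact (Nat.eq_of_beq_eq_true h.1.1.2).symm

theorem commute_elt3 : elt3 0 * elt3 1 = elt3 1 * elt3 0 := by
  refine act_injective (Equiv.ext fun p => Fin.ext ?_)
  have h := forallLt_elim gens_perm_check p.isLt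
  simp only [Bool.and_eq_true] at h
  rw [map_mul, map_mul, Equiv.Perm.mul_apply, Equiv.Perm.mul_apply, ← act_elt3, ← act_elt3, ← act_elt3,
    ← act_elt3]
  exact Nat.eq_of_beq_eq_true h.1.2

theorem fac_check (n : Fin 2) (i : Fin 275) : ((fac3 n i).all fun l => Nat.blt l.1 2) = true ∧
    ∀ p : Fin 275, pgetN (perm3 n) (pgetN (repPerm i) p) =
      pgetN (repPerm (pgetN (perm3 n) i)) (wordImgN level1.perm level1.pinv (fac3 n i) p) := by
  fin_cases n
  · have h := facX_all i i.isLt
    simp only [facXOne, Bool.and_eq_true] at h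
    exact ⟨h.1, fun p => Nat.eq_of_beq_eq_true (forallLt_elim h.2 p.isLt)⟩
  · have h := facY_all i i.isLt
    simp only [facYOne, Bool.and_eq_true] at h
    exact ⟨h.1, fun p => Nat.eq_of_beq_eq_true (forallLt_elim h.2 p.isLt)⟩

theorem fac_lt (n : Fin 2) (i : Fin 275) : ∀ l ∈ fac3 n i, l.1 < 2 := by
  have h := (fac_check n i).1
  simp only [List.all_eq_true, Nat.blt_eq] at h
  exact h

/-- The factors. -/
noncomputable def crd (n : Fin 2) (i : Fin 275) : ↥K := wval cK (fac3 n i)

theorem factor_spec (n : Fin 2) (i : Fin 275) :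
    ∃ hk : (rep (act (elt3 n) i))⁻¹ * elt3 n * rep i ∈ K, (MonoidHom.id ↥K) ⟨_, hk⟩ = crd n i := by
  have hbi : ∀ j < 2, RepN (actK (cK j))⁻¹ (level1.pinv.getD j 0) := fun j hj =>
    RepN.inv (rep_cG j hj) (forallLt_elim size_check.2.2.2.2.2.2.2.2.2.2.1 hj)
  have e : (rep (act (elt3 n) i))⁻¹ * elt3 n * rep i = (crd n i : ↥G) := by
    refine act_injective (Equiv.ext fun p => ?_)
    rw [map_mul, map_mul, map_inv, Equiv.Perm.mul_apply, Equiv.Perm.mul_apply, Equiv.Perm.inv_eq_iff_eq]
    refine Fin.ext ?_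
    have h := (fac_check n i).2 p
    rw [act_rep i p, act_elt3, act_elt3 n i, wordImgN_spec actK (m := 2) rep_cG hbi _ (fac_lt n i) p,
      act_rep] at h
    exact h
  exact ⟨by rw [e]; exact (crd n i).2, Subtype.ext e⟩

/-- The lift of a factor. -/
noncomputable def liftC (n : Fin 2) (i : Fin 275) : ↥Cover :=
  ⟨wval cC (fac3 n i), wval_cC_mem (fac_lt n i)⟩

theorem proj_liftC (n : Fin 2) (i : Fin 275) : coverProj (liftC n i) = crd n i := by
  show (wval cC (fac3 n i)).1 = _
  rw [wval_cC]
  rfl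

/-- The correction of a lift. -/
noncomputable def corr (n : Fin 2) (i : Fin 275) : coverProj.ker :=
  ⟨sect coverProj coverProj_surjective (crd n i) * (liftC n i)⁻¹, by
    rw [MonoidHom.mem_ker, map_mul, map_inv, sect_spec, proj_liftC, mul_inv_cancel]⟩

/-- The label of a product of two lifts at the first point. -/
noncomputable def pairVal (a b : Fin 2) (i : Fin 275) : ZMod 3 :=
  ((meval 3 (monK.getD 0 ([], [])).1 (monK.getD 0 ([], [])).2 (fac3 a (act (elt3 b) i) ++ fac3 b i) 0 : ℕ) : ZMod 3)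

theorem lift_value (a b : Fin 2) (i : Fin 275) :
    ((((liftC a (act (elt3 b) i) * liftC b i).1.2).1 ⟨0, by norm_num⟩ : ℕ) : ZMod 3) = pairVal a b i := by
  have hl : ∀ l ∈ fac3 a (act (elt3 b) i) ++ fac3 b i, l.1 < 2 := fun l hl =>
    (List.mem_append.1 hl).elim (fac_lt _ _ l) (fac_lt _ _ l)
  rw [pairVal, meval_spec (fun j hj => (monY_rep j hj).1) (fun j hj => (monY_rep j hj).2) _ hl ⟨0, by norm_num⟩,
    wval_append]
  show ((((wval cC _).2 * (wval cC _).2).1 _ : ℕ) : ZMod 3) = _
  rw [wval_cC, wval_cC]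

theorem term_eq (i : Fin 275) :
    cocK.f (crd 0 (act (elt3 1) i)) (crd 1 i) - cocK.f (crd 1 (act (elt3 0) i)) (crd 0 i) =
      (pairVal 0 1 i - pairVal 1 0 i) + ((lg (corr 0 (act (elt3 1) i)) + lg (corr 1 i)) -
        (lg (corr 1 (act (elt3 0) i)) + lg (corr 0 i))) := by
  have hp : crd 0 (act (elt3 1) i) * crd 1 i = crd 1 (act (elt3 0) i) * crd 0 i := by
    obtain ⟨h0, e0⟩ := factor_spec 0 (act (elt3 1) i)
    obtain ⟨h1, e1⟩ := factor_spec 1 i
    obtain ⟨h0', e0'⟩ := factor_spec 1 (act (elt3 0) i)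
    obtain ⟨h1', e1'⟩ := factor_spec 0 i
    have hT : act (elt3 0) (act (elt3 1) i) = act (elt3 1) (act (elt3 0) i) := by
      rw [← Equiv.Perm.mul_apply, ← map_mul, commute_elt3, map_mul, Equiv.Perm.mul_apply]
    rw [← e0, ← e1, ← e0', ← e1']
    refine Subtype.ext ?_
    show (rep _)⁻¹ * elt3 0 * rep (act (elt3 1) i) * ((rep _)⁻¹ * elt3 1 * rep i) =
      (rep _)⁻¹ * elt3 1 * rep (act (elt3 0) i) * ((rep _)⁻¹ * elt3 0 * rep i)
    rw [hT]
    have hc := commute_elt3
    calc _ = (rep (act (elt3 1) (act (elt3 0) i)))⁻¹ * (elt3 0 * elt3 1) * rep i := by group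
      _ = (rep (act (elt3 1) (act (elt3 0) i)))⁻¹ * (elt3 1 * elt3 0) * rep i := by rw [hc]
      _ = _ := by group
  let E : coverProj.ker := ⟨liftC 0 (act (elt3 1) i) * liftC 1 i * (liftC 1 (act (elt3 0) i) * liftC 0 i)⁻¹, by
    rw [MonoidHom.mem_ker, map_mul, map_inv, map_mul, map_mul, proj_liftC, proj_liftC, proj_liftC, proj_liftC, hp,
      mul_inv_cancel]⟩
  have hE : liftC 0 (act (elt3 1) i) * liftC 1 i = (E : ↥Cover) * (liftC 1 (act (elt3 0) i) * liftC 0 i) :=
    (inv_mul_cancel_right _ _).symm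
  have hd : ∀ n j, sect coverProj coverProj_surjective (crd n j) = (corr n j : ↥Cover) * liftC n j := fun n j => by
    simp [corr]
  have hval : lg E = pairVal 0 1 i - pairVal 1 0 i := by
    rw [← lift_value 0 1 i, ← lift_value 1 0 i, hE]
    show lg E = ((((E : ↥Cover).1.2 * _).1 _ : ℕ) : ZMod 3) - _
    rw [Subgroup.coe_mul, Equiv.Perm.mul_apply, lg_apply]
    abel
  rw [← hval]
  exact defect_compare coverProj coverProj_central lg lg_mul coverProj_surjective hp _ _ _ _ E hE
    (corr 0 (act (elt3 1) i)) (corr 1 i) (corr 1 (act (elt3 0) i)) (corr 0 i) (hd _ _) (hd _ _) (hd _ _) (hd _ _)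

theorem value_ne_zero : cocG.f (elt3 0) (elt3 1) - cocG.f (elt3 1) (elt3 0) ≠ 0 := by
  have hv : ∀ a b, cocG.f (elt3 a) (elt3 b) =
      ∑ i : Fin 275, cocK.f (crd a (act (elt3 b) i)) (crd b i) := fun a b =>
    cert_value (MonoidHom.id ↥K) rep rep_bijective cocK elt3 (fun n i => act (elt3 n) i) crd
      factor_spec a b
  rw [hv, hv, ← Finset.sum_sub_distrib]
  simp only [term_eq, Finset.sum_add_distrib, Finset.sum_sub_distrib]
  rw [Equiv.sum_comp (act (elt3 1)) (fun i => lg (corr 0 i)), Equiv.sum_comp (act (elt3 0)) (fun i => lg (corr 1 i))]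
  intro h
  apply value_check
  have h' : ∑ i : Fin 275, pairVal 0 1 i = ∑ i : Fin 275, pairVal 1 0 i := by
    rwa [show ∀ a b : ZMod 3, a + b - (b + a) = 0 from fun a b => by abel, add_zero, sub_eq_zero] at h
  simp only [pairVal, ← act_elt3, ← Nat.cast_sum] at h'
  have h'' := (ZMod.natCast_eq_natCast_iff' _ _ 3).1 h'
  rw [Finset.sum_range, Finset.sum_range]
  exact h''

theorem multiplier_fix : Cfsg.HasCyclicSchurMultiplier ↥G 3 := by
  have hne := value_ne_zero
  have : Fact (Nat.Prime 3) := ⟨Nat.prime_three⟩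
  have hst : Cfsg.IsStemExtension (Ext.proj : Ext cocG →* ↥G) := by
    refine Ext.isStem_of_witness {cocG.f (elt3 0) (elt3 1) - cocG.f (elt3 1) (elt3 0)} ?_ ?_
    · rintro a rfl
      exact ⟨_, _, commute_elt3, rfl⟩
    · generalize cocG.f (elt3 0) (elt3 1) - cocG.f (elt3 1) (elt3 0) = d at hne ⊢
      refine eq_top_iff.2 fun x _ => ?_
      rw [← AddSubgroup.zmultiples_eq_closure, AddSubgroup.mem_zmultiples_iff]
      refine ⟨((x * d⁻¹).val : ℕ), ?_⟩
      rw [zsmul_eq_mul, Int.cast_natCast, ZMod.natCast_zmod_val, mul_assoc, inv_mul_cancel₀ hne, mul_one]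
  refine CfsgLib.Schur.hasSchurMultiplier_of_witness (Ext.proj : Ext cocG →* ↥G) hst Ext.kerEquiv
    fun Δ _ _ σ hσ => ?_
  simpa using card_ker_le_three σ hσ

end CfsgLib.LocalEvenB.McLCover
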